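import Cfsg.Agent.Lib.Spor.JFourType.Eleven.InH
import Cfsg.Agent.Lib.Spor.JFourType.OrbitExcl
import Cfsg.Agent.Lib.Spor.JFourType.ThreeGroup
import Cfsg.Agent.Lib.Spor.JFourType.Mathieu.Split
import Cfsg.Agent.Lib.Spor.JFourType.Mathieu.SecondCentralizer
import Cfsg.Agent.Lib.Invol.ZStar
import Cfsg.Agent.Lib.Grp.Cores

/-!
The centraliser of an element of order eleven commuting with the involution, and the normaliser of its Sylow
subgroup, in a group of Janko-four type of the given order.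
-/

set_option autoImplicit false
set_option maxRecDepth 100000
set_option Elab.async false
set_option linter.style.haveILetI false

open Cfsg
open scoped Pointwise

namespace Cfsg.Agent.Spor.JFour

variable {G : Type*} [Group G] [Finite G] {z : G} {P : Subgroup G} {S : Setting z P}

namespace ElevenH

variable (E : ElevenH S)

theorem el_inj {v w : ↥E.Q × Fin 3 × Fin 11} (h : E.el v = E.el w) : v = w :=
  E.el_bijective.injective (Subtype.ext h)

omit [Finite G] in
theorem p_Q {q : G} (hq : q ∈ E.Q) (j : ℕ) : S.p ^ j * q * (S.p ^ j)⁻¹ ∈ E.Q :=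
  E.Q_norm ((show Commute S.p z from S.pz).pow_left j).eq ((show Commute S.p E.x from E.x_p.symm).pow_left j).eq hq

/-- The involutions of the centraliser. -/
theorem CH_invol {h : G} (hh : h ∈ E.CH) (h2 : h * h = 1) (h1 : h ≠ 1) : h = z := by
  obtain ⟨⟨m, j, k⟩, e⟩ := E.el_bijective.surjective ⟨h, hh⟩
  have e' : h = (m : G) * S.p ^ j.val * E.x ^ k.val := (congrArg Subtype.val e).symm
  have hxc : ∀ g, g * E.x = E.x * g → g * E.x ^ k.val = E.x ^ k.val * g := fun g hg =>
    ((show Commute g E.x from hg).pow_right _).eq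
  have hpj : S.p ^ j.val * E.x = E.x * S.p ^ j.val := ((show Commute S.p E.x from E.x_p.symm).pow_left _).eq
  have hp3 : S.p ^ 3 = 1 := by rw [pow_three']; exact S.p_pow
  have hsq : h * h = E.el (⟨(m : G) * (S.p ^ j.val * m * (S.p ^ j.val)⁻¹), mul_mem m.2 (E.p_Q m.2 _)⟩,
      ⟨(j.val + j.val) % 3, Nat.mod_lt _ (by norm_num)⟩, ⟨(k.val + k.val) % 11, Nat.mod_lt _ (by norm_num)⟩) := by
    show _ = (m : G) * (S.p ^ j.val * m * (S.p ^ j.val)⁻¹) * S.p ^ ((j.val + j.val) % 3) *
      E.x ^ ((k.val + k.val) % 11)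
    rw [← pow_eq_pow_mod _ hp3, ← pow_eq_pow_mod _ E.x_pow, pow_add, pow_add, e']
    calc (m : G) * S.p ^ j.val * E.x ^ k.val * ((m : G) * S.p ^ j.val * E.x ^ k.val)
        = (m : G) * S.p ^ j.val * (E.x ^ k.val * ((m : G) * S.p ^ j.val)) * E.x ^ k.val := by group
      _ = (m : G) * S.p ^ j.val * ((m : G) * S.p ^ j.val * E.x ^ k.val) * E.x ^ k.val := by
        rw [hxc ((m : G) * S.p ^ j.val) ((show Commute (m : G) E.x from (E.mem_Q.1 m.2).2).mul_left hpj).eq]
      _ = _ := by group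
  have e1 : E.el (⟨1, one_mem _⟩, 0, 0) = 1 := by simp [el]
  rw [h2, ← e1] at hsq
  have := E.el_inj hsq
  simp only [Prod.mk.injEq, Subtype.mk.injEq, Fin.ext_iff, Fin.val_zero] at this
  obtain ⟨-, hj, hk⟩ := this
  have hj0 : j.val = 0 := by have := j.2; omega
  have hk0 : k.val = 0 := by have := k.2; omega
  rw [hj0, hk0, pow_zero, pow_zero, mul_one, mul_one] at e'
  subst e'
  exact (E.Q_invol m.2 h2).resolve_left h1

theorem exists_sylow_invariant {K Q : Subgroup G} {q : ℕ} [Fact q.Prime] (hQ : ∀ g ∈ Q, ∀ k ∈ K, g * k * g⁻¹ ∈ K)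
    (T : Sylow q ↥K) (hT : (T : Subgroup ↥K).Normal) :
    ∀ g ∈ Q, ∀ k ∈ (T : Subgroup ↥K).map K.subtype, g * k * g⁻¹ ∈ (T : Subgroup ↥K).map K.subtype := by
  rintro g hg _ ⟨k, hk, rfl⟩
  refine ⟨⟨g * (k : G) * g⁻¹, hQ g hg _ k.2⟩, ?_, rfl⟩
  obtain ⟨n, hn⟩ := IsPGroup.iff_orderOf.1 T.isPGroup' ⟨k, hk⟩
  have ho : orderOf (⟨g * (k : G) * g⁻¹, hQ g hg _ k.2⟩ : ↥K) = q ^ n := by
    rw [← Subgroup.orderOf_coe, ← hn, ← Subgroup.orderOf_coe, ← Subgroup.orderOf_coe]
    exact (MulAut.conj g).orderOf_eq (k : G)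
  obtain ⟨T', hT'⟩ := (IsPGroup.of_card (p := q) (n := n) (by rw [Nat.card_zpowers, ho]) :
    IsPGroup q ↥(Subgroup.zpowers (⟨g * (k : G) * g⁻¹, hQ g hg _ k.2⟩ : ↥K))).exists_le_sylow
  obtain ⟨u, hu⟩ := MulAction.exists_smul_eq ↥K T T'
  haveI := hT
  have e : (T' : Subgroup ↥K) = T := by
    rw [← hu]
    show MulAut.conj u • (T : Subgroup ↥K) = T
    exact Subgroup.Normal.conj_smul_eq_self u _
  exact e ▸ hT' (Subgroup.mem_zpowers _)

omit [Group G] [Finite G] in
theorem card_G_facts {n : ℕ} (hcard : Nat.card G = 86775571046077562880) (ho : Odd n) (hd : n ∣ Nat.card G) :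
    n ∣ 3 ^ 3 * 5 * 7 * 11 ^ 3 * 23 * 29 * 31 * 37 * 43 := by
  rw [hcard, show 86775571046077562880 = 2 ^ 21 * (3 ^ 3 * 5 * 7 * 11 ^ 3 * 23 * 29 * 31 * 37 * 43) by norm_num] at hd
  exact ((Nat.coprime_two_right.2 ho).pow_right 21).dvd_of_dvd_mul_left hd

end ElevenH

/-- The Sylow subgroup of the centraliser. -/
structure ElevenG (E : ElevenH S) where
  /-- the subgroup -/
  K : Subgroup G
  card_K : Nat.card ↥K = 1331
  x_mem : E.x ∈ K
  K_le : ∀ k ∈ K, k * E.x = E.x * k
  K_norm : ∀ c, c * E.x = E.x * c → ∀ k ∈ K, c * k * c⁻¹ ∈ K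
  K_z : ∀ k ∈ K, k * z = z * k → k ∈ Subgroup.zpowers E.x
  split : ∀ c, c * E.x = E.x * c → ∃ k ∈ K, ∃ h ∈ E.CH, c = k * h
  card_C : Nat.card ↥(Subgroup.centralizer ({E.x} : Set G)) = 1331 * 24

namespace Frame

variable [IsSimpleGroup G] (Fr : Frame S)

include Fr in
theorem exists_elevenG (hG : ¬ IsMulCommutative G) (hcard : Nat.card G = 86775571046077562880) (E : ElevenH S) :
    Nonempty (ElevenG E) := by
  classical
  haveI : Fact (Nat.Prime 11) := ⟨by norm_num⟩
  haveI : Fact (Nat.Prime 3) := ⟨Nat.prime_three⟩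
  set C := Subgroup.centralizer ({E.x} : Set G) with hCdef
  have hmemC : ∀ {g : G}, g ∈ C ↔ g * E.x = E.x * g := fun {g} => Subgroup.mem_centralizer_singleton_iff
  have hzC : z ∈ C := hmemC.2 E.x_z.symm
  have hzi : z⁻¹ = z := inv_eq_of_mul_eq_one_right S.zz
  have hzo : orderOf z = 2 := by
    haveI : Fact (Nat.Prime 2) := ⟨Nat.prime_two⟩
    exact orderOf_eq_prime (by rw [pow_two]; exact S.zz) S.ext.ne
  have hCH : ∀ {g : G}, g ∈ C → g * z = z * g → g ∈ E.CH := fun hg hz =>
    Subgroup.mem_inf.2 ⟨Subgroup.mem_centralizer_singleton_iff.2 hz, hg⟩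
  have hiso : IsIsolatedInvolution (⟨z, hzC⟩ : ↥C) := by
    refine ⟨by rw [Subgroup.orderOf_mk]; exact hzo, fun g hg => Subtype.ext ?_⟩
    have hgC : (g : G) * z * (g : G)⁻¹ ∈ C := mul_mem (mul_mem g.2 hzC) (inv_mem g.2)
    refine E.CH_invol (hCH hgC (congrArg Subtype.val hg.eq).symm) ?_ fun e => S.ext.ne (conj_eq_one_iff.1 e)
    calc (g : G) * z * (g : G)⁻¹ * ((g : G) * z * (g : G)⁻¹) = (g : G) * (z * z) * (g : G)⁻¹ := by group
      _ = 1 := by rw [S.zz]; group
  set N0 := pPrimeCore 2 ↥C with hN0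
  set K := N0.map C.subtype with hKdef
  haveI hN0n : N0.Normal := Grp.pPrimeCore_isNormal
  have hKC : K ≤ C := Subgroup.map_subtype_le _
  have hKodd : Odd (Nat.card ↥K) := by
    rw [hKdef, Subgroup.card_map_of_injective C.subtype_injective]
    exact Nat.coprime_two_right.1 Grp.pPrimeCore_coprime
  have hKn : ∀ c, c * E.x = E.x * c → ∀ k ∈ K, c * k * c⁻¹ ∈ K := by
    rintro c hc _ ⟨k, hk, rfl⟩
    exact ⟨⟨c, hmemC.2 hc⟩ * k * ⟨c, hmemC.2 hc⟩⁻¹, hN0n.conj_mem k hk _, rfl⟩
  have hKx : ∀ k ∈ K, k * E.x = E.x * k := fun k hk => hmemC.1 (hKC hk)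
  have hxC : E.x ∈ C := hmemC.2 rfl
  have hxK : E.x ∈ K := by
    refine ⟨⟨E.x, hxC⟩, Grp.le_pPrimeCore ⟨fun a ha g => ?_⟩ ?_ (Subgroup.mem_zpowers _), rfl⟩
    · have hc : Commute g (⟨E.x, hxC⟩ : ↥C) := Subtype.ext (hmemC.1 g.2)
      obtain ⟨i, rfl⟩ := Subgroup.mem_zpowers_iff.1 ha
      rw [(hc.zpow_right i).eq, mul_inv_cancel_right]
      exact Subgroup.mem_zpowers_iff.2 ⟨i, rfl⟩
    · rw [Nat.card_zpowers, Subgroup.orderOf_mk, E.orderOf_x]; norm_num
  have hcomm : ∀ c, c * E.x = E.x * c → z * c * z⁻¹ * c⁻¹ ∈ K := fun c hc =>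
    ⟨_, ZStar.commutator_mem_oddCore _ ↥C rfl _ hiso ⟨c, hmemC.2 hc⟩, rfl⟩
  have hKord : ∀ k ∈ K, ∃ i, k ^ (2 * i + 1) = 1 := fun k hk => by
    obtain ⟨i, hi⟩ := hKodd.of_dvd_nat (Subgroup.orderOf_dvd_natCard K hk)
    exact ⟨i, by rw [← hi]; exact pow_orderOf_eq_one k⟩
  -- the fixed points of the involution
  have hKz : ∀ k ∈ K, k * z = z * k → k ∈ Subgroup.zpowers E.x := fun k hk hkz => by
    obtain ⟨⟨m, j, l⟩, e⟩ := E.el_bijective.surjective ⟨k, hCH (hKC hk) hkz⟩
    have e' : k = (m : G) * S.p ^ j.val * E.x ^ l.val := (congrArg Subtype.val e).symm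
    have hcq : ∀ q ∈ E.Q, k * q = q * k := fun q hq => by
      obtain ⟨a, ha⟩ := hKord (k * q * k⁻¹ * q⁻¹) (by
        rw [show k * q * k⁻¹ * q⁻¹ = k * (q * k⁻¹ * q⁻¹) by group]
        exact mul_mem hk (hKn q (E.mem_Q.1 hq).2 _ (inv_mem hk)))
      have hQ' : k * q * k⁻¹ * q⁻¹ ∈ E.Q := mul_mem (E.Q_norm hkz (hKx k hk) hq) (inv_mem hq)
      have h4 : (k * q * k⁻¹ * q⁻¹) ^ 4 = 1 := by
        rw [show 4 = 2 * 2 by norm_num, pow_mul, pow_two (k * q * k⁻¹ * q⁻¹)]
        rcases E.Q_sq hQ' with h | h <;> rw [h]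
        · simp
        · rw [pow_two]; exact S.zz
      have h1 := pow_gcd_eq_one.2 ⟨ha, h4⟩
      rw [show Nat.gcd (2 * a + 1) 4 = 1 from
        (Nat.Coprime.pow_right 2 (Nat.coprime_two_right.2 ⟨a, rfl⟩) : Nat.Coprime (2 * a + 1) (2 ^ 2)), pow_one] at h1
      exact mul_inv_eq_iff_eq_mul.1 (mul_inv_eq_one.1 h1)
    have hxq : ∀ q ∈ E.Q, E.x ^ l.val * q = q * E.x ^ l.val := fun q hq =>
      (((show Commute q E.x from (E.mem_Q.1 hq).2).pow_right _).symm).eq
    have hmp : ∀ q ∈ E.Q, (m : G) * S.p ^ j.val * q = q * ((m : G) * S.p ^ j.val) := fun q hq => by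
      have h := hcq q hq
      rw [e', mul_assoc _ (E.x ^ l.val) q, hxq q hq, ← mul_assoc, ← mul_assoc] at h
      exact mul_right_cancel (h.trans (by rw [mul_assoc q]))
    have hj0 : j.val = 0 := by
      by_contra hj
      have hpfix : ∀ q ∈ E.Q, S.p ^ j.val * q = q * S.p ^ j.val → q = 1 ∨ q = z := fun q hq h => by
        refine S.fix q (E.mem_Q.1 hq).1 ?_
        have hj' : j.val = 1 ∨ j.val = 2 := by have := j.2; omega
        rcases hj' with e2 | e2 <;> rw [e2] at h
        · rwa [pow_one] at h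
        · have hp : S.p = (S.p ^ 2) ^ 2 := by
            rw [← pow_mul, show 2 * 2 = 3 + 1 by norm_num, pow_succ, pow_three', S.p_pow, one_mul]
          rw [hp]
          exact ((show Commute (S.p ^ 2) q from h).pow_left 2).eq
      have hm := hmp m m.2
      rw [mul_assoc] at hm
      have hmz : (m : G) = 1 ∨ (m : G) = z := hpfix m m.2 (mul_left_cancel hm)
      obtain ⟨q, hq, hq1, hqz⟩ : ∃ q ∈ E.Q, q ≠ 1 ∧ q ≠ z := by
        by_contra hcon
        push Not at hcon
        have hle : Nat.card ↥E.Q ≤ 2 := by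
          refine le_trans (Nat.card_le_card_of_injective (fun q : ↥E.Q => decide ((q : G) = 1))
            fun a b hab => ?_) (by simp)
          have := decide_eq_decide.1 hab
          by_cases h : (a : G) = 1
          · exact Subtype.ext (h.trans (this.1 h).symm)
          · exact Subtype.ext ((hcon a a.2 h).trans (hcon b b.2 (fun hb => h (this.2 hb))).symm)
        rw [E.card_Q] at hle
        omega
      refine (hpfix q hq ?_).elim hq1 hqz
      have h := hmp q hq
      have hmq : (m : G) * q = q * m := by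
        rcases hmz with e2 | e2 <;> rw [e2]
        · simp
        · exact (E.Q_z hq).symm
      rw [← mul_assoc q, ← hmq, mul_assoc, mul_assoc] at h
      exact mul_left_cancel h
    have hm1 : (m : G) = 1 := by
      obtain ⟨a, ha⟩ := hKord k hk
      rw [e', hj0, pow_zero, mul_one,
        ((show Commute (m : G) E.x from (E.mem_Q.1 m.2).2).pow_right _).mul_pow] at ha
      have hm4 : (m : G) ^ 4 = 1 := by
        rw [show 4 = 2 * 2 by norm_num, pow_mul, pow_two (m : G)]
        rcases E.Q_sq m.2 with h | h <;> rw [h]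
        · simp
        · rw [pow_two]; exact S.zz
      have h2 : (m : G) ^ ((2 * a + 1) * 11) = 1 := by
        have := congrArg (fun y => y ^ 11) ha
        simp only [one_pow] at this
        rwa [((show Commute (m : G) E.x from (E.mem_Q.1 m.2).2).pow_pow _ _ |>.pow_right _).mul_pow, ← pow_mul,
          ← pow_mul, ← pow_mul, ← mul_assoc l.val, mul_comm (l.val * (2 * a + 1)) 11, pow_mul E.x, E.x_pow, one_pow,
          mul_one] at this
      have h1 := pow_gcd_eq_one.2 ⟨h2, hm4⟩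
      rwa [show Nat.gcd ((2 * a + 1) * 11) 4 = 1 from
        (Nat.Coprime.mul_left (Nat.Coprime.pow_right 2 (Nat.coprime_two_right.2 ⟨a, rfl⟩)) (by norm_num) :
          Nat.Coprime ((2 * a + 1) * 11) (2 ^ 2)), pow_one] at h1
    rw [e', hj0, hm1, pow_zero, mul_one, one_mul]
    exact pow_mem (Subgroup.mem_zpowers _) _
  -- the decomposition
  have hsplit : ∀ c, c * E.x = E.x * c → ∃ k ∈ K, ∃ h ∈ E.CH, c = k * h := fun c hc => by
    have hz' : c * z * c⁻¹ * (c * z * c⁻¹) = 1 := by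
      calc _ = c * (z * z) * c⁻¹ := by group
        _ = 1 := by rw [S.zz]; group
    have hn : z * (c * z * c⁻¹) ∈ K := by
      have := hcomm c hc
      rw [hzi] at this
      rwa [show z * (c * z * c⁻¹) = z * c * z * c⁻¹ by group]
    obtain ⟨i, hi⟩ := hKord _ hn
    set n := z * (c * z * c⁻¹) with hn'
    refine ⟨(n ^ (i + 1))⁻¹, inv_mem (pow_mem hn _), n ^ (i + 1) * c, hCH (mul_mem (hKC (pow_mem hn _))
      (hmemC.2 hc)) ?_, by group⟩
    have hinv : z * n * z = n⁻¹ := by
      rw [hn', mul_inv_rev, hzi, inv_eq_of_mul_eq_one_right hz', ← mul_assoc z z, S.zz, one_mul]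
    have hpow : z * n ^ (i + 1) * z = (n ^ (i + 1))⁻¹ := by
      have := congrArg (fun y => y ^ (i + 1)) hinv
      rw [show z * n * z = z * n * z⁻¹ by rw [hzi], conj_pow, hzi, inv_pow] at this
      exact this
    calc n ^ (i + 1) * c * z = n ^ (i + 1) * (c * z * c⁻¹) * c := by group
      _ = n ^ (i + 1) * (z * n) * c := by rw [hn', ← mul_assoc z z, S.zz, one_mul]
      _ = z * (z * n ^ (i + 1) * z) * n * c := by
        rw [show z * (z * n ^ (i + 1) * z) = (z * z) * (n ^ (i + 1) * z) by group, S.zz, one_mul]; group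
      _ = z * (n ^ (i + 1) * c) := by
        rw [hpow]
        have e : (n ^ (i + 1))⁻¹ * n = n ^ (i + 1) := by
          rw [inv_mul_eq_iff_eq_mul, ← pow_add, show i + 1 + (i + 1) = (2 * i + 1) + 1 by omega, pow_succ, hi,
            one_mul]
        rw [mul_assoc z _ n, e, mul_assoc]
  -- the order
  have hcardC : Nat.card ↥C = Nat.card ↥K * 24 := by
    let f : ↥K × ↥E.Q × Fin 3 → ↥C := fun w => ⟨(w.1 : G) * ((w.2.1 : G) * S.p ^ w.2.2.val),
      mul_mem (hKC w.1.2) (mul_mem (Subgroup.mem_inf.1 w.2.1.2).2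
        (hmemC.2 ((show Commute S.p E.x from E.x_p.symm).pow_left _).eq))⟩
    have hf : Function.Bijective f := by
      constructor
      · rintro ⟨k, m, j⟩ ⟨k', m', j'⟩ e
        have e' : (k : G) * ((m : G) * S.p ^ j.val) = (k' : G) * ((m' : G) * S.p ^ j'.val) := congrArg Subtype.val e
        set h := (m : G) * S.p ^ j.val with hh
        set h' := (m' : G) * S.p ^ j'.val with hh'
        have hz1 : ∀ (u : ↥E.Q) (i : ℕ), ((u : G) * S.p ^ i) * z = z * ((u : G) * S.p ^ i) := fun u i =>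
          ((show Commute (u : G) z from E.Q_z u.2).mul_left ((show Commute S.p z from S.pz).pow_left i)).eq
        have hd : (k' : G)⁻¹ * k = h' * h⁻¹ := by
          rw [inv_mul_eq_iff_eq_mul, ← mul_assoc, ← e', mul_inv_cancel_right]
        have hX := hKz _ (mul_mem (inv_mem k'.2) k.2) (by
          rw [hd]
          exact ((show Commute h' z from hz1 m' _).mul_left (show Commute h z from hz1 m _).inv_left).eq)
        obtain ⟨i, hi⟩ := (isOfFinOrder_of_finite E.x).mem_powers_iff_mem_zpowers.2 hX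
        have hi' : E.x ^ i = h' * h⁻¹ := hi.trans hd
        have hcx : h * E.x ^ i = E.x ^ i * h := ((show Commute h E.x from
          ((show Commute (m : G) E.x from (E.mem_Q.1 m.2).2).mul_left
            ((show Commute S.p E.x from E.x_p.symm).pow_left _))).pow_right i).eq
        have he : E.el (m, j, ⟨i % 11, Nat.mod_lt _ (by norm_num)⟩) = E.el (m', j', 0) := by
          show h * E.x ^ (i % 11) = h' * E.x ^ ((0 : Fin 11).val)
          rw [← pow_eq_pow_mod _ E.x_pow, Fin.val_zero, pow_zero, mul_one, hcx, hi', inv_mul_cancel_right]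
        have := E.el_inj he
        simp only [Prod.mk.injEq] at this
        obtain ⟨rfl, rfl, -⟩ := this
        rw [Subtype.ext (mul_right_cancel e') (a1 := k) (a2 := k')]
      · rintro ⟨c, hc⟩
        obtain ⟨k, hk, h, hh, rfl⟩ := hsplit c (hmemC.1 hc)
        obtain ⟨⟨m, j, l⟩, e⟩ := E.el_bijective.surjective ⟨h, hh⟩
        have e' : h = (m : G) * S.p ^ j.val * E.x ^ l.val := (congrArg Subtype.val e).symm
        refine ⟨⟨⟨k * E.x ^ l.val, mul_mem hk (pow_mem hxK _)⟩, m, j⟩, Subtype.ext ?_⟩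
        show k * E.x ^ l.val * ((m : G) * S.p ^ j.val) = k * h
        rw [e', mul_assoc k]
        congr 1
        exact ((((show Commute (m : G) E.x from (E.mem_Q.1 m.2).2).mul_left
            ((show Commute S.p E.x from E.x_p.symm).pow_left _))).pow_right _).eq.symm
    rw [← Nat.card_congr (Equiv.ofBijective f hf), Nat.card_prod, Nat.card_prod, E.card_Q, Nat.card_fin]
  -- the quotient by the fixed points is abelian
  have hinvert : ∀ k ∈ K, ∃ i : ℕ, k * (z * k * z) = E.x ^ i := fun k hk => by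
    have hzk : z * k * z ∈ K := by
      have := hKn z E.x_z.symm k hk
      rwa [hzi] at this
    obtain ⟨a, ha⟩ := hKord (k⁻¹ * (z * k * z)) (mul_mem (inv_mem hk) hzk)
    set u := k⁻¹ * (z * k * z) with hu
    have hzu : z * u * z = u⁻¹ := by
      rw [hu, mul_inv_rev, inv_inv]
      calc z * (k⁻¹ * (z * k * z)) * z = z * k⁻¹ * z * k * (z * z) := by group
        _ = (z⁻¹ * k⁻¹ * z⁻¹) * k := by rw [S.zz, hzi, mul_one]
        _ = _ := by group
    set v := u ^ (a + 1) with hv
    have hvK : v ∈ K := pow_mem (mul_mem (inv_mem hk) hzk) _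
    have hzv : z * v * z = v⁻¹ := by
      have := congrArg (fun y => y ^ (a + 1)) hzu
      rw [show z * u * z = z * u * z⁻¹ by rw [hzi], conj_pow, hzi, inv_pow] at this
      exact this
    have huv : u * v⁻¹ = v := by
      rw [mul_inv_eq_iff_eq_mul, hv, ← pow_add, show a + 1 + (a + 1) = (2 * a + 1) + 1 by omega, pow_succ, ha, one_mul]
    have hkv : k * v * z = z * (k * v) := by
      have : z * (k * v) * z = k * v := by
        calc z * (k * v) * z = (z * k * z) * (z⁻¹ * v * z) := by group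
          _ = k * (u * v⁻¹) := by rw [hzi, hzv, hu]; group
          _ = k * v := by rw [huv]
      conv_lhs => rw [← this]
      rw [mul_assoc _ z z, S.zz, mul_one]
    obtain ⟨i, hi⟩ := (isOfFinOrder_of_finite E.x).mem_powers_iff_mem_zpowers.2 (hKz _ (mul_mem hk hvK) hkv)
    refine ⟨i + i, ?_⟩
    have hk' : k = E.x ^ i * v⁻¹ := by rw [show E.x ^ i = k * v from hi]; group
    have hzxi : z * E.x ^ i = E.x ^ i * z := ((show Commute z E.x from E.x_z.symm).pow_right i).eq
    have hvx : v⁻¹ * E.x ^ i = E.x ^ i * v⁻¹ := ((show Commute v E.x from hKx v hvK).inv_left.pow_right i).eq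
    calc k * (z * k * z) = E.x ^ i * v⁻¹ * (z * E.x ^ i * v⁻¹ * z) := by rw [hk']; group
      _ = E.x ^ i * (v⁻¹ * E.x ^ i) * (z * v * z)⁻¹ := by rw [hzxi, mul_inv_rev, mul_inv_rev, hzi]; group
      _ = E.x ^ (i + i) := by rw [hvx, hzv, inv_inv, pow_add]; group
  have hxpow : ∀ k ∈ K, ∀ i : ℕ, E.x ^ i * k = k * E.x ^ i := fun k hk i =>
    (((show Commute k E.x from hKx k hk).pow_right i).symm).eq
  have hab : ∀ a ∈ K, ∀ b ∈ K, ∃ i : ℕ, a * b = b * a * E.x ^ i := fun a ha b hb => by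
    obtain ⟨i, hi⟩ := hinvert a ha
    obtain ⟨j, hj⟩ := hinvert b hb
    obtain ⟨l, hl⟩ := hinvert _ (mul_mem ha hb)
    have ea : z * a * z = a⁻¹ * E.x ^ i := by rw [← hi, inv_mul_cancel_left]
    have eb : z * b * z = b⁻¹ * E.x ^ j := by rw [← hj, inv_mul_cancel_left]
    have ec : z * (a * b) * z = (a * b)⁻¹ * E.x ^ l := by rw [← hl, inv_mul_cancel_left]
    have e2 : a⁻¹ * b⁻¹ * E.x ^ (i + j) = b⁻¹ * a⁻¹ * E.x ^ l := by
      rw [← mul_inv_rev a b, ← ec, show z * (a * b) * z = z * a * (z * z) * b * z by rw [S.zz, mul_one]; group,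
        show z * a * (z * z) * b * z = (z * a * z) * (z * b * z) by group, ea, eb, pow_add]
      rw [mul_assoc (a⁻¹) (E.x ^ i), ← mul_assoc (E.x ^ i), hxpow _ (inv_mem hb) i]
      group
    obtain ⟨r, hr⟩ := (isOfFinOrder_of_finite E.x).mem_powers_iff_mem_zpowers.2
      (mul_mem (inv_mem (pow_mem (Subgroup.mem_zpowers E.x) (i + j))) (pow_mem (Subgroup.mem_zpowers E.x) l))
    refine ⟨r, ?_⟩
    have hr' : E.x ^ r = (E.x ^ (i + j))⁻¹ * E.x ^ l := hr
    rw [hr']
    have h3 : b * a * (a⁻¹ * b⁻¹ * E.x ^ (i + j)) * (E.x ^ (i + j))⁻¹ = 1 := by group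
    rw [e2] at h3
    calc a * b = a * b * (b * a * (b⁻¹ * a⁻¹ * E.x ^ l) * (E.x ^ (i + j))⁻¹) := by rw [h3, mul_one]
      _ = (a * b) * ((b * a) * (a * b)⁻¹) * (E.x ^ l * (E.x ^ (i + j))⁻¹) := by group
      _ = b * a * (E.x ^ l * (E.x ^ (i + j))⁻¹) := by
        congr 1
        have hc : ∀ w ∈ Subgroup.zpowers E.x, (a * b) * w = w * (a * b) := fun w hw => by
          obtain ⟨n, rfl⟩ := Subgroup.mem_zpowers_iff.1 hw
          exact ((show Commute (a * b) E.x from hKx _ (mul_mem ha hb)).zpow_right n).eq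
        have hw : (b * a) * (a * b)⁻¹ ∈ Subgroup.zpowers E.x := by
          have : (b * a) * (a * b)⁻¹ = E.x ^ (i + j) * (E.x ^ l)⁻¹ := by
            calc (b * a) * (a * b)⁻¹ = (b * a * (b⁻¹ * a⁻¹ * E.x ^ l) * (E.x ^ (i + j))⁻¹) *
                (E.x ^ (i + j) * (E.x ^ l)⁻¹) := by group
              _ = _ := by rw [h3, one_mul]
          rw [this]
          exact mul_mem (pow_mem (Subgroup.mem_zpowers _) _) (inv_mem (pow_mem (Subgroup.mem_zpowers _) _))
        rw [hc _ hw, inv_mul_cancel_right]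
      _ = b * a * ((E.x ^ (i + j))⁻¹ * E.x ^ l) := by rw [(Commute.pow_pow_self E.x l (i + j)).inv_right.eq]
  -- the Sylow subgroups
  have hTn : ∀ (q : ℕ) [Fact q.Prime] (T : Sylow q ↥K), (T : Subgroup ↥K).Normal := fun q hq T => by
    refine ⟨fun t ht g => ?_⟩
    obtain ⟨i, hi⟩ := hab g g.2 t t.2
    have e : g * t * g⁻¹ = t * ⟨E.x ^ i, pow_mem hxK i⟩ := by
      refine Subtype.ext ?_
      show (g : G) * t * (g : G)⁻¹ = (t : G) * E.x ^ i
      rw [hi, mul_assoc _ (E.x ^ i), hxpow _ (inv_mem g.2) i]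
      group
    by_cases h11 : q = 11
    · subst h11
      rw [e]
      refine mul_mem ht ?_
      have hp : IsPGroup 11 ↥(Subgroup.zpowers (⟨E.x, hxK⟩ : ↥K)) :=
        IsPGroup.of_card (n := 1) (by rw [Nat.card_zpowers, Subgroup.orderOf_mk, E.orderOf_x, pow_one])
      obtain ⟨T', hT'⟩ := hp.exists_le_sylow
      obtain ⟨u, hu⟩ := MulAction.exists_smul_eq ↥K T' T
      have h1 : u * ⟨E.x, hxK⟩ * u⁻¹ ∈ T :=
        hu ▸ Subgroup.smul_mem_pointwise_smul _ (MulAut.conj u) _ (hT' (Subgroup.mem_zpowers _))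
      rw [show u * ⟨E.x, hxK⟩ * u⁻¹ = ⟨E.x, hxK⟩ from Subtype.ext (by
        show (u : G) * E.x * (u : G)⁻¹ = E.x
        rw [hKx _ u.2, mul_inv_cancel_right])] at h1
      exact pow_mem h1 i
    · obtain ⟨n, hn⟩ := IsPGroup.iff_orderOf.1 T.isPGroup' ⟨t, ht⟩
      have htn : (t : G) ^ q ^ n = 1 := by
        rw [← hn, Subgroup.orderOf_mk]
        exact congrArg Subtype.val (pow_orderOf_eq_one t)
      have h1 := congrArg (fun y : ↥K => (y : G) ^ q ^ n) e
      simp only [Subgroup.coe_mul, Subgroup.coe_inv] at h1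
      rw [conj_pow, htn, mul_one, mul_inv_cancel, (show Commute (t : G) (E.x ^ i) from
        ((show Commute (t : G) E.x from hKx _ t.2).pow_right i)).mul_pow, htn, one_mul] at h1
      have hxi : E.x ^ i = 1 := by
        have h11' : (E.x ^ i) ^ 11 = 1 := by rw [← pow_mul, mul_comm, pow_mul, E.x_pow, one_pow]
        have := pow_gcd_eq_one.2 ⟨h1.symm, h11'⟩
        rwa [show Nat.gcd (q ^ n) 11 = 1 from
          (Nat.Coprime.pow_left n ((Nat.coprime_primes hq.out (by norm_num)).2 h11) : Nat.Coprime (q ^ n) 11),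
          pow_one] at this
      rw [e, show (⟨E.x ^ i, pow_mem hxK i⟩ : ↥K) = 1 from Subtype.ext hxi, mul_one]
      exact ht
  -- the congruences
  have hQK : ∀ g ∈ E.Q, ∀ k ∈ K, g * k * g⁻¹ ∈ K := fun g hg k hk => hKn g (E.mem_Q.1 hg).2 k hk
  have hfreeQ : ∀ g ∈ E.Q, g ≠ 1 → ∀ s ∈ K, g * s = s * g → s ∈ Subgroup.zpowers E.x := fun g hg hg1 s hs hc => by
    refine hKz s hs ?_
    rcases E.Q_sq hg with h | h
    · rcases E.Q_invol hg h with e | e
      · exact absurd e hg1
      · rw [← e]; exact hc.symm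
    · rw [← h]
      exact ((show Commute s g from hc.symm).mul_right (show Commute s g from hc.symm)).eq
  have hpart : ∀ (q : ℕ) [Fact q.Prime], q ≠ 11 → q ^ (Nat.card ↥K).factorization q % 8 = 1 := fun q hq h11 => by
    obtain ⟨T⟩ : Nonempty (Sylow q ↥K) := inferInstance
    set T' := (T : Subgroup ↥K).map K.subtype with hT'
    have hcT : Nat.card ↥T' = q ^ (Nat.card ↥K).factorization q := by
      rw [hT', Subgroup.card_map_of_injective K.subtype_injective]
      exact T.card_eq_multiplicity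
    have hinf : ∀ s ∈ T', s ∈ Subgroup.zpowers E.x → s = 1 := fun s hs hsX => by
      have h1 : orderOf s ∣ q ^ (Nat.card ↥K).factorization q := hcT ▸ Subgroup.orderOf_dvd_natCard _ hs
      have h2 : orderOf s ∣ 11 := by
        have := Subgroup.orderOf_dvd_natCard _ hsX
        rwa [Nat.card_zpowers, E.orderOf_x] at this
      exact orderOf_eq_one_iff.1 (Nat.eq_one_of_dvd_coprimes
        ((Nat.coprime_primes hq.out (by norm_num)).2 h11 |>.pow_left _) h1 h2)
    obtain ⟨a, ha⟩ := Eleven.free_dvd (Q := E.Q) (S := T') (X := ⊥) bot_le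
      (ElevenH.exists_sylow_invariant hQK T (hTn q T))
      (fun g _ s hs => by rw [Subgroup.mem_bot.1 hs]; simp)
      (fun g hg hg1 s hs hc => Subgroup.mem_bot.2 (hinf s hs
        (hfreeQ g hg hg1 s (Subgroup.map_subtype_le _ hs) hc)))
    rw [hcT, Subgroup.card_bot, E.card_Q] at ha
    omega
  have hpart11 : ∃ a, 11 ^ (Nat.card ↥K).factorization 11 = 11 + 8 * a := by
    obtain ⟨T⟩ : Nonempty (Sylow 11 ↥K) := inferInstance
    set T' := (T : Subgroup ↥K).map K.subtype with hT'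
    have hcT : Nat.card ↥T' = 11 ^ (Nat.card ↥K).factorization 11 := by
      rw [hT', Subgroup.card_map_of_injective K.subtype_injective]
      exact T.card_eq_multiplicity
    have hxT : E.x ∈ T' := by
      obtain ⟨T2, hT2⟩ := (IsPGroup.of_card (p := 11) (n := 1)
        (by rw [Nat.card_zpowers, Subgroup.orderOf_mk, E.orderOf_x, pow_one]) :
          IsPGroup 11 ↥(Subgroup.zpowers (⟨E.x, hxK⟩ : ↥K))).exists_le_sylow
      obtain ⟨u, hu⟩ := MulAction.exists_smul_eq ↥K T T2
      haveI := hTn 11 T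
      have e : (T2 : Subgroup ↥K) = T := by
        rw [← hu]
        show MulAut.conj u • (T : Subgroup ↥K) = T
        exact Subgroup.Normal.conj_smul_eq_self u _
      exact ⟨⟨E.x, hxK⟩, e ▸ hT2 (Subgroup.mem_zpowers _), rfl⟩
    obtain ⟨a, ha⟩ := Eleven.free_dvd (Q := E.Q) (S := T') (X := Subgroup.zpowers E.x) (Subgroup.zpowers_le.2 hxT)
      (ElevenH.exists_sylow_invariant hQK T (hTn 11 T))
      (fun g hg s hs => by
        obtain ⟨n, rfl⟩ := Subgroup.mem_zpowers_iff.1 hs
        rw [((show Commute g E.x from (E.mem_Q.1 hg).2).zpow_right n).eq, mul_inv_cancel_right]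
        exact Subgroup.mem_zpowers_iff.2 ⟨n, rfl⟩)
      (fun g hg hg1 s hs hc => hfreeQ g hg hg1 s (Subgroup.map_subtype_le _ hs) hc)
    rw [hcT, Nat.card_zpowers, E.orderOf_x, E.card_Q] at ha
    exact ⟨a, ha⟩
  -- the order of the subgroup
  have hKd : Nat.card ↥K ∣ 3 ^ 3 * 5 * 7 * 11 ^ 3 * 23 * 29 * 31 * 37 * 43 :=
    ElevenH.card_G_facts hcard hKodd (K.card_subgroup_dvd_card)
  set n := Nat.card ↥K with hn
  have hn0 : n ≠ 0 := Nat.card_pos.ne'
  have hfac : ∀ (r e : ℕ), r.Prime → ¬ r ^ (e + 1) ∣ 3 ^ 3 * 5 * 7 * 11 ^ 3 * 23 * 29 * 31 * 37 * 43 →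
      n.factorization r ≤ e := fun r e hr hnd => by
    by_contra hlt
    exact hnd (((hr.pow_dvd_iff_le_factorization hn0).2 (by omega)).trans hKd)
  have hnot : ∀ (r : ℕ) [Fact r.Prime], r ≠ 11 → ¬ r ^ 2 ∣ 3 ^ 3 * 5 * 7 * 11 ^ 3 * 23 * 29 * 31 * 37 * 43 →
      r % 8 ≠ 1 → ¬ r ∣ n := fun r hr h11 hnd hmod hdvd => by
    have h1 := hfac r 1 hr.out hnd
    have h2 := hr.out.factorization_pos_of_dvd hn0 hdvd
    have h3 := hpart r h11
    rw [show n.factorization r = 1 by omega, pow_one] at h3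
    exact hmod h3
  have hn2 : n ∣ 3 ^ 3 * 11 ^ 3 := by
    have key : ∀ (r M : ℕ) [Fact r.Prime], ¬ r ∣ n → n ∣ M * r → n ∣ M := fun r M hr h hd =>
      Nat.Coprime.dvd_of_dvd_mul_right ((hr.out.coprime_iff_not_dvd.2 h).symm) hd
    haveI : Fact (Nat.Prime 5) := ⟨by norm_num⟩
    haveI : Fact (Nat.Prime 7) := ⟨by norm_num⟩
    haveI : Fact (Nat.Prime 23) := ⟨by norm_num⟩
    haveI : Fact (Nat.Prime 29) := ⟨by norm_num⟩
    haveI : Fact (Nat.Prime 31) := ⟨by norm_num⟩
    haveI : Fact (Nat.Prime 37) := ⟨by norm_num⟩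
    haveI : Fact (Nat.Prime 43) := ⟨by norm_num⟩
    refine key 7 _ (hnot 7 (by norm_num) (by norm_num) (by norm_num)) ?_
    refine key 5 _ (hnot 5 (by norm_num) (by norm_num) (by norm_num)) ?_
    refine key 23 _ (hnot 23 (by norm_num) (by norm_num) (by norm_num)) ?_
    refine key 29 _ (hnot 29 (by norm_num) (by norm_num) (by norm_num)) ?_
    refine key 31 _ (hnot 31 (by norm_num) (by norm_num) (by norm_num)) ?_
    refine key 37 _ (hnot 37 (by norm_num) (by norm_num) (by norm_num)) ?_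
    refine key 43 _ (hnot 43 (by norm_num) (by norm_num) (by norm_num)) ?_
    norm_num at hKd ⊢
    exact hKd
  obtain ⟨n3, n11, hd3, hd11, hmul⟩ := (Nat.dvd_mul).1 hn2
  obtain ⟨a3, ha3, rfl⟩ := (Nat.dvd_prime_pow Nat.prime_three).1 hd3
  obtain ⟨a11, ha11, rfl⟩ := (Nat.dvd_prime_pow (by norm_num : Nat.Prime 11)).1 hd11
  have hf3 : n.factorization 3 = a3 := by
    rw [← hmul, Nat.factorization_mul (by positivity) (by positivity), Finsupp.add_apply,
      Nat.Prime.factorization_pow Nat.prime_three, Nat.Prime.factorization_pow (by norm_num : Nat.Prime 11),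
      Finsupp.single_eq_same, Finsupp.single_eq_of_ne (by norm_num), add_zero]
  have hf11 : n.factorization 11 = a11 := by
    rw [← hmul, Nat.factorization_mul (by positivity) (by positivity), Finsupp.add_apply,
      Nat.Prime.factorization_pow Nat.prime_three, Nat.Prime.factorization_pow (by norm_num : Nat.Prime 11),
      Finsupp.single_eq_same, Finsupp.single_eq_of_ne (by norm_num), zero_add]
  have h3 : a3 = 0 ∨ a3 = 2 := by
    have := hpart 3 (by norm_num)
    rw [hf3] at this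
    interval_cases a3 <;> norm_num at this <;> simp
  have h11 : a11 = 1 ∨ a11 = 3 := by
    obtain ⟨a, ha⟩ := hpart11
    rw [hf11] at ha
    interval_cases a11 <;> norm_num at ha ⊢ <;> omega
  -- the Sylow three-subgroup is not centralised
  have h30 : a3 = 0 := by
    refine h3.resolve_right fun h32 => ?_
    obtain ⟨T⟩ : Nonempty (Sylow 3 ↥K) := inferInstance
    set T' := (T : Subgroup ↥K).map K.subtype with hT'
    have hcT : Nat.card ↥T' = 9 := by
      rw [hT', Subgroup.card_map_of_injective K.subtype_injective, T.card_eq_multiplicity, ← hn, hf3, h32]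
      norm_num
    have hpo : orderOf S.p = 3 := orderOf_eq_prime (by rw [pow_three']; exact S.p_pow) S.p_ne
    have hPn : ∀ g ∈ Subgroup.zpowers S.p, ∀ k ∈ K, g * k * g⁻¹ ∈ K := fun g hg k hk => by
      obtain ⟨i, rfl⟩ := Subgroup.mem_zpowers_iff.1 hg
      exact hKn _ ((show Commute S.p E.x from E.x_p.symm).zpow_left i).eq k hk
    have hle : Subgroup.zpowers S.p ≤ Subgroup.normalizer (T' : Set G) := fun g hg => by
      refine Subgroup.mem_normalizer_iff.2 fun k => ⟨fun hk => ElevenH.exists_sylow_invariant hPn T (hTn 3 T) g hg k hk,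
        fun hk => ?_⟩
      have := ElevenH.exists_sylow_invariant hPn T (hTn 3 T) _ (inv_mem hg) _ hk
      rwa [show g⁻¹ * (g * k * g⁻¹) * g⁻¹⁻¹ = k by group] at this
    have hbot : T' ⊓ Subgroup.zpowers S.p = ⊥ := by
      rw [Subgroup.eq_bot_iff_forall]
      intro s hs
      have hsX : s ∈ Subgroup.zpowers E.x := by
        refine hKz s (Subgroup.map_subtype_le _ hs.1) ?_
        obtain ⟨i, rfl⟩ := Subgroup.mem_zpowers_iff.1 hs.2
        exact ((show Commute S.p z from S.pz).zpow_left i).eq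
      have h1 : orderOf s ∣ 9 := hcT ▸ Subgroup.orderOf_dvd_natCard _ hs.1
      have h2 : orderOf s ∣ 11 := by
        have := Subgroup.orderOf_dvd_natCard _ hsX
        rwa [Nat.card_zpowers, E.orderOf_x] at this
      exact orderOf_eq_one_iff.1 (Nat.eq_one_of_dvd_coprimes (by norm_num) h1 h2)
    have hR : Nat.card ↥(T' ⊔ Subgroup.zpowers S.p) = 27 := by
      rw [Mathieu.card_sup_inf_bot _ _ hle hbot, hcT, Nat.card_zpowers, hpo]
    have hf27 : (Nat.card G).factorization 3 = 3 := by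
      rw [hcard, show 86775571046077562880 = 3 ^ 3 * 3213910038743613440 by norm_num,
        Nat.factorization_mul (by norm_num) (by norm_num), Finsupp.add_apply,
        Nat.Prime.factorization_pow Nat.prime_three, Finsupp.single_eq_same,
        Nat.factorization_eq_zero_of_not_dvd (by norm_num)]
    let R : Sylow 3 G := Sylow.ofCard _ (by rw [hR, hf27]; norm_num)
    have hRC : (R : Subgroup G) ≤ C := sup_le (le_trans (Subgroup.map_subtype_le _) hKC)
      (Subgroup.zpowers_le.2 (hmemC.2 E.x_p.symm))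
    have hxN : E.x ∈ Subgroup.normalizer ((R : Subgroup G) : Set G) :=
      Subgroup.centralizer_le_normalizer _ (Subgroup.mem_centralizer_iff.2 fun r hr => hmemC.1 (hRC hr))
    have h864 : Nat.card ↥(Subgroup.normalizer ((R : Subgroup G) : Set G)) = 864 := by
      have e1 := R.card_eq_index_normalizer
      have e2 := (Fr.sylowThree hG Fr.F.R).card_eq_index_normalizer
      have m1 := Subgroup.card_mul_index (Subgroup.normalizer (R : Set G))
      have m2 := Subgroup.card_mul_index (Subgroup.normalizer ((Fr.sylowThree hG Fr.F.R : Sylow 3 G) : Set G))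
      rw [← e1] at m1
      rw [← e2] at m2
      have e3 : Nat.card ↥(Subgroup.normalizer ((Fr.sylowThree hG Fr.F.R : Sylow 3 G) : Set G)) = 864 :=
        Fr.card_normalizer_grp hG Fr.F.R
      rw [e3, ← m1] at m2
      exact (Nat.eq_of_mul_eq_mul_right Nat.card_pos m2).symm
    have := Subgroup.orderOf_dvd_natCard _ hxN
    rw [h864, E.orderOf_x] at this
    norm_num at this
  -- it is a Sylow subgroup
  have hn11 : a11 = 3 := by
    refine h11.resolve_left fun h1 => ?_
    have hC264 : Nat.card ↥C = 264 := by rw [hcardC, ← hmul, h30, h1]; norm_num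
    have hG11 : (Nat.card G).factorization 11 = 3 := by
      rw [hcard, show 86775571046077562880 = 11 ^ 3 * 65195770883604480 by norm_num,
        Nat.factorization_mul (by norm_num) (by norm_num), Finsupp.add_apply,
        Nat.Prime.factorization_pow (by norm_num : Nat.Prime 11), Finsupp.single_eq_same,
        Nat.factorization_eq_zero_of_not_dvd (by norm_num)]
    obtain ⟨U, hU⟩ := (IsPGroup.of_card (p := 11) (n := 1) (by rw [Nat.card_zpowers, E.orderOf_x, pow_one]) :
      IsPGroup 11 ↥(Subgroup.zpowers E.x)).exists_le_sylow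
    have hcU : Nat.card ↥(U : Subgroup G) = 1331 := by rw [U.card_eq_multiplicity, hG11]; norm_num
    have hUC : ∀ g ∈ (U : Subgroup G), g ∈ C → g ∈ Subgroup.zpowers E.x := fun g hg hgC => by
      have h11 : Nat.card ↥((U : Subgroup G) ⊓ C) ∣ 11 := by
        have a1 := Subgroup.card_dvd_of_le (inf_le_left : (U : Subgroup G) ⊓ C ≤ U)
        have a2 := Subgroup.card_dvd_of_le (inf_le_right : (U : Subgroup G) ⊓ C ≤ C)
        rw [hcU] at a1
        rw [hC264] at a2
        exact (Nat.dvd_gcd a1 a2).trans (by norm_num)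
      have hXle : Subgroup.zpowers E.x ≤ (U : Subgroup G) ⊓ C := le_inf hU (Subgroup.zpowers_le.2 hxC)
      have e : Subgroup.zpowers E.x = (U : Subgroup G) ⊓ C := Subgroup.eq_of_le_of_card_ge hXle (by
        rw [Nat.card_zpowers, E.orderOf_x]
        exact Nat.le_of_dvd (by norm_num) h11)
      exact e ▸ Subgroup.mem_inf.2 ⟨hg, hgC⟩
    haveI : Nontrivial ↥(U : Subgroup G) := Finite.one_lt_card_iff_nontrivial.1 (by rw [hcU]; norm_num)
    haveI := U.isPGroup'.center_nontrivial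
    obtain ⟨w, hw⟩ := exists_ne (1 : Subgroup.center ↥(U : Subgroup G))
    have hxU : E.x ∈ (U : Subgroup G) := hU (Subgroup.mem_zpowers _)
    have hwC : ((w : ↥(U : Subgroup G)) : G) ∈ C :=
      hmemC.2 (congrArg Subtype.val (Subgroup.mem_center_iff.1 w.2 ⟨E.x, hxU⟩)).symm
    have hw1 : ((w : ↥(U : Subgroup G)) : G) ≠ 1 := fun e => hw (Subtype.ext (Subtype.ext e))
    have hgen : E.x ∈ Subgroup.zpowers ((w : ↥(U : Subgroup G)) : G) := by
      rw [Eleven.zpowers_eq E.orderOf_x (hUC _ (w : ↥(U : Subgroup G)).2 hwC) hw1]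
      exact Subgroup.mem_zpowers _
    have hUle : (U : Subgroup G) ≤ C := fun g hg => by
      obtain ⟨i, hi⟩ := Subgroup.mem_zpowers_iff.1 hgen
      refine hmemC.2 ?_
      rw [← hi]
      exact ((show Commute g ((w : ↥(U : Subgroup G)) : G) from
        congrArg Subtype.val (Subgroup.mem_center_iff.1 w.2 ⟨g, hg⟩)).zpow_right i).eq
    have := Subgroup.card_dvd_of_le hUle
    rw [hcU, hC264] at this
    norm_num at this
  have hK1331 : Nat.card ↥K = 1331 := by rw [← hn, ← hmul, h30, hn11]; norm_num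
  exact ⟨⟨K, hK1331, hxK, hKx, hKn, hKz, hsplit, by rw [← hCdef]; omega⟩⟩

end Frame

end Cfsg.Agent.Spor.JFour
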