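import Cfsg.Agent.Lib.Spor.JFourType.Eleven.FixedFive

/-!
The two classes of elements of order eleven.
-/

set_option autoImplicit false
set_option maxRecDepth 100000
set_option Elab.async false
set_option linter.style.haveILetI false

open Cfsg
open scoped Pointwise

namespace Cfsg.Agent.Spor.JFour.Frame

variable {G : Type*} [Group G] [Finite G] [IsSimpleGroup G] {z : G} {P : Subgroup G} {S : Setting z P}
  {E : ElevenH S} (Fr : Frame S)

include Fr in
theorem cent_mem_K (hG : ¬ IsMulCommutative G) (D : ElevenG E) (hn : ∃ a ∈ D.K, ∃ b ∈ D.K, a * b ≠ b * a)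
    {c y : G} (hy : y ∈ D.K) (hyX : y ∉ Subgroup.zpowers E.x) (hc : c * E.x = E.x * c) (hcy : c * y = y * c) :
    c ∈ D.K := by
  obtain ⟨k, hk, h, hh, rfl⟩ := D.split c hc
  have hhx : h * E.x = E.x * h := Subgroup.mem_centralizer_singleton_iff.1 hh.2
  obtain ⟨i, hi⟩ := (isOfFinOrder_of_finite E.x).mem_powers_iff_mem_zpowers.2
    (D.comm_mem_X hn (inv_mem hy) (inv_mem hk))
  have hhy : h * y * h⁻¹ = y * E.x ^ i := by
    rw [show E.x ^ i = y⁻¹ * k⁻¹ * y⁻¹⁻¹ * k⁻¹⁻¹ from hi]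
    calc h * y * h⁻¹ = k⁻¹ * (k * h * y) * (k * h)⁻¹ * k := by group
      _ = _ := by rw [hcy]; group
  have hit : ∀ n : ℕ, h ^ n * y * (h ^ n)⁻¹ = y * E.x ^ (n * i) := fun n => by
    induction n with
    | zero => simp
    | succ n ih =>
      have hx : h * E.x ^ (n * i) * h⁻¹ = E.x ^ (n * i) := by
        rw [((show Commute h E.x from hhx).pow_right _).eq, mul_inv_cancel_right]
      calc h ^ (n + 1) * y * (h ^ (n + 1))⁻¹ = h * (h ^ n * y * (h ^ n)⁻¹) * h⁻¹ := by rw [pow_succ']; group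
        _ = (h * y * h⁻¹) * (h * E.x ^ (n * i) * h⁻¹) := by rw [ih]; group
        _ = _ := by rw [hhy, hx, mul_assoc, ← pow_add]; ring_nf
  have h11 := Fr.CH_fixed hG D (pow_mem hh 11) hy hyX (by
    have := hit 11
    rw [pow_mul, E.x_pow, one_pow, mul_one] at this
    exact mul_inv_eq_iff_eq_mul.1 this)
  have h121 : h ^ (11 * 11) = 1 := by
    obtain ⟨j, hj⟩ := Subgroup.mem_zpowers_iff.1 h11
    rw [pow_mul, ← hj, ← zpow_natCast, zpow_comm, zpow_natCast, E.x_pow, one_zpow]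
  have h264 : h ^ 264 = 1 := by
    have := Subgroup.orderOf_dvd_natCard _ hh
    rw [E.card_CH] at this
    exact orderOf_dvd_iff_pow_eq_one.1 this
  have h1 := pow_gcd_eq_one.2 ⟨h121, h264⟩
  rw [show Nat.gcd (11 * 11) 264 = 11 by norm_num] at h1
  exact mul_mem hk (D.mem_K_of_pow hhx (by rw [show 1331 = 11 * 121 by norm_num, pow_mul, h1, one_pow]))

include Fr in
theorem card_cent_le (hG : ¬ IsMulCommutative G) (D : ElevenG E) (hn : ∃ a ∈ D.K, ∃ b ∈ D.K, a * b ≠ b * a)
    {y : G} (hy : y ∈ D.K) (hyX : y ∉ Subgroup.zpowers E.x) :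
    Nat.card ↥(Subgroup.normalizer (Subgroup.zpowers E.x : Set G) ⊓ Subgroup.centralizer ({y} : Set G)) ≤ 242 := by
  classical
  haveI : Fact (Nat.Prime 11) := ⟨by norm_num⟩
  haveI : Fact (Nat.Prime 5) := ⟨by norm_num⟩
  set L := Subgroup.normalizer (Subgroup.zpowers E.x : Set G) ⊓ Subgroup.centralizer ({y} : Set G) with hL
  set M := D.K ⊓ Subgroup.centralizer ({y} : Set G) with hM
  let φ := (Subgroup.zpowers E.x).normalizerMonoidHom.comp (Subgroup.inclusion (show L ≤ _ from inf_le_left))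
  have hker : Nat.card ↥φ.ker ≤ 121 := by
    have hM121 : Nat.card ↥M ≤ 121 := by
      obtain ⟨a, ha, hMc⟩ := (Nat.dvd_prime_pow (by norm_num : Nat.Prime 11)).1
        (show Nat.card ↥M ∣ 11 ^ 3 by rw [← D.card_K_cube]; exact Subgroup.card_dvd_of_le inf_le_left)
      have ha3 : a ≠ 3 := by
        rintro rfl
        have e : M = D.K := Subgroup.eq_of_le_of_card_ge inf_le_left (by rw [hMc, D.card_K_cube])
        exact hyX (D.mem_X_of_central hn hy fun w hw => Subgroup.mem_centralizer_singleton_iff.1 (e.ge hw).2)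
      rw [hMc]
      exact le_trans (Nat.pow_le_pow_right (by norm_num) (by omega : a ≤ 2)) (by norm_num)
    refine le_trans (Nat.card_le_card_of_injective (fun g : ↥φ.ker => (⟨((g : ↥L) : G), ?_⟩ : ↥M)) ?_) hM121
    · have hg := g.2
      rw [MonoidHom.mem_ker] at hg
      have hg' : Subgroup.inclusion (show L ≤ _ from inf_le_left) (g : ↥L) ∈
          (Subgroup.zpowers E.x).normalizerMonoidHom.ker := hg
      rw [Subgroup.normalizerMonoidHom_ker, Subgroup.mem_subgroupOf] at hg'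
      have hgx : ((g : ↥L) : G) * E.x = E.x * (g : ↥L) :=
        (Subgroup.mem_centralizer_iff.1 hg' E.x (Subgroup.mem_zpowers _)).symm
      have hgy := Subgroup.mem_centralizer_singleton_iff.1 (g : ↥L).2.2
      exact Subgroup.mem_inf.2 ⟨Fr.cent_mem_K hG D hn hy hyX hgx hgy, (g : ↥L).2.2⟩
    · intro a b e
      exact Subtype.ext (Subtype.ext (congrArg (fun w : ↥M => (w : G)) e))
  have hr10 : Nat.card ↥φ.range ∣ 10 := by
    haveI : IsCyclic ↥(Subgroup.zpowers E.x) := isCyclic_of_prime_card (by rw [Nat.card_zpowers, E.orderOf_x])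
    have h := Subgroup.card_subgroup_dvd_card φ.range
    rwa [IsCyclic.card_mulAut, Nat.card_zpowers, E.orderOf_x, Nat.totient_prime (by norm_num)] at h
  have hmul := Subgroup.card_eq_card_quotient_mul_card_subgroup φ.ker
  rw [Nat.card_congr (QuotientGroup.quotientKerEquivRange φ).toEquiv] at hmul
  have h5 : ¬ 5 ∣ Nat.card ↥φ.range := fun h => by
    obtain ⟨⟨u, hu⟩, hu5⟩ := exists_prime_orderOf_dvd_card' (G := ↥L) 5 (by
      rw [hmul]; exact h.mul_right _)
    rw [Subgroup.orderOf_mk] at hu5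
    exact D.no_five hn hu.1 hu5 hy hyX (Subgroup.mem_centralizer_singleton_iff.1 hu.2)
  have hr : Nat.card ↥φ.range ≤ 2 := by
    have hle := Nat.le_of_dvd (by norm_num) hr10
    interval_cases h : Nat.card ↥φ.range <;> omega
  rw [hmul]
  calc _ ≤ 2 * 121 := Nat.mul_le_mul hr hker
    _ = 242 := by norm_num

include Fr in
theorem conj_outside (hG : ¬ IsMulCommutative G) (D : ElevenG E) (hn : ∃ a ∈ D.K, ∃ b ∈ D.K, a * b ≠ b * a)
    {y w : G} (hy : y ∈ D.K) (hyX : y ∉ Subgroup.zpowers E.x) (hw : w ∈ D.K) (hwX : w ∉ Subgroup.zpowers E.x) :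
    IsConj y w := by
  classical
  set N := Subgroup.normalizer (Subgroup.zpowers E.x : Set G) with hN
  set L := N ⊓ Subgroup.centralizer ({y} : Set G) with hL
  have hidx : 1320 ≤ (L.subgroupOf N).index := by
    have hle : Nat.card ↥L ≤ 242 := Fr.card_cent_le hG D hn hy hyX
    have := (L.subgroupOf N).card_mul_index
    rw [Nat.card_congr (Subgroup.subgroupOfEquivOfLe (inf_le_left : L ≤ N)).toEquiv, hN, D.card_NX] at this
    by_contra hlt
    have h2 := Nat.mul_le_mul hle (Nat.le_pred_of_lt (not_le.1 hlt))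
    rw [hN] at h2
    rw [this] at h2
    norm_num at h2
  let T := ↥((D.K : Set G) \ (Subgroup.zpowers E.x : Set G))
  have hconj : ∀ g ∈ N, g * y * g⁻¹ ∈ (D.K : Set G) \ (Subgroup.zpowers E.x : Set G) := fun g hg =>
    ⟨(Subgroup.mem_normalizer_iff.1 (D.normalizer_X_le hg) y).1 hy,
      fun h => hyX ((Subgroup.mem_normalizer_iff.1 hg y).2 h)⟩
  let f : ↥N ⧸ L.subgroupOf N → T := fun q => Quotient.liftOn' q
    (fun g => ⟨(g : G) * y * (g : G)⁻¹, hconj g g.2⟩)
    (fun a b hab => by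
      rw [QuotientGroup.leftRel_apply, Subgroup.mem_subgroupOf] at hab
      have h : ((a : G)⁻¹ * b) * y = y * ((a : G)⁻¹ * b) := Subgroup.mem_centralizer_singleton_iff.1 hab.2
      refine Subtype.ext ?_
      calc (a : G) * y * (a : G)⁻¹ = (a : G) * (y * ((a : G)⁻¹ * b)) * (b : G)⁻¹ := by group
        _ = (b : G) * y * (b : G)⁻¹ := by rw [← h]; group)
  have hf : Function.Injective f := by
    intro a b hab
    induction a using Quotient.inductionOn' with | _ a => ?_
    induction b using Quotient.inductionOn' with | _ b => ?_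
    have e : (a : G) * y * (a : G)⁻¹ = (b : G) * y * (b : G)⁻¹ := congrArg Subtype.val hab
    refine QuotientGroup.eq.2 (Subgroup.mem_subgroupOf.2 (Subgroup.mem_inf.2 ⟨mul_mem (inv_mem a.2) b.2,
      Subgroup.mem_centralizer_singleton_iff.2 ?_⟩))
    show (a : G)⁻¹ * b * y = y * ((a : G)⁻¹ * b)
    calc (a : G)⁻¹ * b * y = (a : G)⁻¹ * ((b : G) * y * (b : G)⁻¹) * b := by group
      _ = _ := by rw [← e]; group
  have hT : Nat.card T = 1320 := by
    show ((D.K : Set G) \ (Subgroup.zpowers E.x : Set G)).ncard = 1320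
    rw [Set.ncard_sdiff (SetLike.coe_subset_coe.2 (Subgroup.zpowers_le.2 D.x_mem))]
    show Nat.card ↥D.K - Nat.card ↥(Subgroup.zpowers E.x) = 1320
    rw [D.card_K, Nat.card_zpowers, E.orderOf_x]
  haveI : Finite T := Subtype.finite
  have hb : Function.Bijective f := hf.bijective_of_nat_card_le (by
    show Nat.card T ≤ (L.subgroupOf N).index
    omega)
  obtain ⟨q, hq⟩ := hb.surjective ⟨w, hw, hwX⟩
  induction q using Quotient.inductionOn' with | _ a => ?_
  exact isConj_iff.2 ⟨a, congrArg Subtype.val hq⟩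

omit [IsSimpleGroup G] in
/-- An element commuting with a second involution is not conjugate to the first one. -/
theorem second_not_conj (D : ElevenG E) {A : Subgroup G} {t y : G} (T : Eleven.Second z A t y) :
    ¬ IsConj E.x y := fun h => by
  obtain ⟨c, hc⟩ := isConj_iff.1 h
  have hu : (c⁻¹ * t * c) * E.x = E.x * (c⁻¹ * t * c) := by
    calc c⁻¹ * t * c * E.x = c⁻¹ * (t * (c * E.x * c⁻¹)) * c := by group
      _ = c⁻¹ * ((c * E.x * c⁻¹) * t) * c := by rw [hc, T.ty]
      _ = _ := by group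
  refine T.t_not_z ((D.C_invol_conj hu ?_ ?_).trans (isConj_iff.2 ⟨c, by group⟩))
  · rw [show c⁻¹ * t * c * (c⁻¹ * t * c) = c⁻¹ * (t * t) * c by group, T.tt]; group
  · intro e
    exact T.t_ne (by rw [show t = c * (c⁻¹ * t * c) * c⁻¹ by group, e]; group)

include Fr in
/-- Exactly two classes. -/
theorem classes_eleven (hG : ¬ IsMulCommutative G) (hcard : Nat.card G = 86775571046077562880) (D : ElevenG E) :
    (∀ k ∈ D.K, k ∉ Subgroup.zpowers E.x → ¬ IsConj E.x k) ∧
      ∃ y, orderOf y = 11 ∧ ¬ IsConj E.x y ∧ ∀ w : G, orderOf w = 11 → IsConj w E.x ∨ IsConj w y := by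
  haveI : Fact (Nat.Prime 11) := ⟨by norm_num⟩
  have hn := Fr.noncomm hG hcard D
  obtain ⟨A, t, y, T, hyK⟩ := Fr.exists_second_in hG hcard D
  have hxy : ¬ IsConj E.x y := second_not_conj D T
  have hyX : y ∉ Subgroup.zpowers E.x := fun h => by
    obtain ⟨n, -, hn'⟩ := D.conj_x_of_mem h T.y_ne
    exact hxy (isConj_iff.2 ⟨n, hn'⟩)
  refine ⟨fun k hk hkX h => hxy (h.trans (Fr.conj_outside hG D hn hk hkX hyK hyX)),
    y, T.orderOf_y, hxy, fun w hw => ?_⟩
  obtain ⟨g, hg⟩ := D.exists_conj_mem hcard (show w ^ 11 = 1 by rw [← hw]; exact pow_orderOf_eq_one w)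
  have hwg : IsConj w (g * w * g⁻¹) := isConj_iff.2 ⟨g, rfl⟩
  have hne : g * w * g⁻¹ ≠ 1 := fun e => by
    rw [conj_eq_one_iff.1 e, orderOf_one] at hw; norm_num at hw
  by_cases hX : g * w * g⁻¹ ∈ Subgroup.zpowers E.x
  · obtain ⟨n, -, hn'⟩ := D.conj_x_of_mem hX hne
    exact Or.inl (hwg.trans (isConj_iff.2 ⟨n, hn'⟩).symm)
  · exact Or.inr (hwg.trans (Fr.conj_outside hG D hn hg hX hyK hyX))

end Cfsg.Agent.Spor.JFour.Frame
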