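import Cfsg.Agent.Lib.Spor.JFourType.Eleven.NonAbelian
import Cfsg.Agent.Lib.Fus.PearlCube

/-!
The Sylow subgroup for the prime eleven: centre, exponent, and its conjugates.
-/

set_option autoImplicit false
set_option maxRecDepth 100000
set_option Elab.async false
set_option linter.style.haveILetI false

open Cfsg
open scoped Pointwise

namespace Cfsg.Agent.Spor.JFour

variable {G : Type*} [Group G] [Finite G] {z : G} {P : Subgroup G} {S : Setting z P} {E : ElevenH S}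

namespace ElevenG

variable (D : ElevenG E)

omit [Finite G] in
theorem card_K_cube : Nat.card ↥D.K = 11 ^ 3 := by rw [D.card_K]; norm_num

omit [Finite G] in
theorem not_comm_K (hn : ∃ a ∈ D.K, ∃ b ∈ D.K, a * b ≠ b * a) : ¬ IsMulCommutative ↥D.K := fun h => by
  obtain ⟨a, ha, b, hb, hne⟩ := hn
  exact hne (congrArg Subtype.val (h.is_comm.comm (⟨a, ha⟩ : ↥D.K) ⟨b, hb⟩))

/-- The centre is the distinguished subgroup. -/
theorem mem_center_K (hn : ∃ a ∈ D.K, ∃ b ∈ D.K, a * b ≠ b * a) {k : ↥D.K} :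
    k ∈ Subgroup.center ↥D.K ↔ (k : G) ∈ Subgroup.zpowers E.x := by
  haveI : Fact (Nat.Prime 11) := ⟨by norm_num⟩
  have hle : Subgroup.zpowers (⟨E.x, D.x_mem⟩ : ↥D.K) ≤ Subgroup.center ↥D.K :=
    Subgroup.zpowers_le.2 (Subgroup.mem_center_iff.2 fun g => Subtype.ext (D.K_le g g.2))
  have he : Subgroup.zpowers (⟨E.x, D.x_mem⟩ : ↥D.K) = Subgroup.center ↥D.K :=
    Subgroup.eq_of_le_of_card_ge hle (by
      rw [(MaxClass.cube_center D.card_K_cube (D.not_comm_K hn)).1, Nat.card_zpowers, Subgroup.orderOf_mk,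
        E.orderOf_x])
  rw [← he]
  simp only [Subgroup.mem_zpowers_iff]
  exact exists_congr fun i => by rw [Subtype.ext_iff, SubgroupClass.coe_zpow]

theorem comm_mem_X (hn : ∃ a ∈ D.K, ∃ b ∈ D.K, a * b ≠ b * a) {a b : G} (ha : a ∈ D.K) (hb : b ∈ D.K) :
    a * b * a⁻¹ * b⁻¹ ∈ Subgroup.zpowers E.x := by
  haveI : Fact (Nat.Prime 11) := ⟨by norm_num⟩
  have h := (D.mem_center_K hn).1
    ((MaxClass.cube_center D.card_K_cube (D.not_comm_K hn)).2.1 (⟨a, ha⟩ : ↥D.K) ⟨b, hb⟩)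
  rwa [commutatorElement_def] at h

theorem mem_X_of_central (hn : ∃ a ∈ D.K, ∃ b ∈ D.K, a * b ≠ b * a) {k : G} (hk : k ∈ D.K)
    (h : ∀ a ∈ D.K, a * k = k * a) : k ∈ Subgroup.zpowers E.x :=
  (D.mem_center_K hn (k := ⟨k, hk⟩)).1 (Subgroup.mem_center_iff.2 fun g => Subtype.ext (h g g.2))

theorem pow_eleven (hn : ∃ a ∈ D.K, ∃ b ∈ D.K, a * b ≠ b * a) {k : G} (hk : k ∈ D.K) : k ^ 11 = 1 := by
  haveI : Fact (Nat.Prime 11) := ⟨by norm_num⟩
  have hzi : z⁻¹ = z := inv_eq_of_mul_eq_one_right S.zz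
  have hX : k ^ 11 ∈ Subgroup.zpowers E.x := by
    have h := (D.mem_center_K hn).1
      ((MaxClass.cube_center D.card_K_cube (D.not_comm_K hn)).2.2 (⟨k, hk⟩ : ↥D.K))
    rwa [SubgroupClass.coe_pow] at h
  have hI : Eleven.Inverting D.K z E.x := ⟨fun a ha => ⟨665, D.odd_pow ha⟩, S.zz, fun a ha => by
    have := D.K_norm z E.x_z.symm a ha
    rwa [hzi] at this, D.K_z, D.K_le, E.x_z.symm⟩
  obtain ⟨i, hi⟩ := hI.invert hk
  have e : z * k * z⁻¹ = k⁻¹ * E.x ^ i := by rw [hzi, ← hi, inv_mul_cancel_left]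
  have h := congrArg (fun w => w ^ 11) e
  simp only [conj_pow] at h
  rw [((show Commute k E.x from D.K_le k hk).inv_left.pow_right i).mul_pow, ← pow_mul, mul_comm i, pow_mul, E.x_pow,
    one_pow, mul_one, inv_pow] at h
  obtain ⟨j, hj⟩ := Subgroup.mem_zpowers_iff.1 hX
  rw [← hj, ((show Commute z E.x from E.x_z.symm).zpow_right j).eq, mul_inv_cancel_right, hj] at h
  have h2 : (k ^ 11) ^ 2 = 1 := by rw [pow_two]; nth_rewrite 2 [h]; exact mul_inv_cancel _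
  have h11 : (k ^ 11) ^ 1331 = 1 := by rw [← pow_mul, mul_comm, pow_mul, D.K_pow hk, one_pow]
  have := pow_gcd_eq_one.2 ⟨h2, h11⟩
  rwa [show Nat.gcd 2 1331 = 1 by norm_num, pow_one] at this

theorem orderOf_K (hn : ∃ a ∈ D.K, ∃ b ∈ D.K, a * b ≠ b * a) {k : G} (hk : k ∈ D.K) (h1 : k ≠ 1) :
    orderOf k = 11 := by
  haveI : Fact (Nat.Prime 11) := ⟨by norm_num⟩
  exact orderOf_eq_prime (D.pow_eleven hn hk) h1

end ElevenG

end Cfsg.Agent.Spor.JFour
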