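import Cfsg.Agent.Lib.Spor.JFourType.Eleven.Normalizer

/-!
Fixed points on the Sylow subgroup for the prime eleven, the involutions of the centraliser, and conjugacy into the
Sylow subgroup.
-/

set_option autoImplicit false
set_option maxRecDepth 100000
set_option Elab.async false
set_option linter.style.haveILetI false

open Cfsg
open scoped Pointwise

namespace Cfsg.Agent.Spor.JFour

variable {G : Type*} [Group G] [Finite G] {z : G} {P : Subgroup G} {S : Setting z P} {E : ElevenH S}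

namespace ElevenG

variable (D : ElevenG E)

omit [Finite G] in
theorem odd_pow {k : G} (hk : k ∈ D.K) : k ^ (2 * 665 + 1) = 1 := D.K_pow hk

/-- Elements of eleven-power order normalising the Sylow subgroup lie in it. -/
theorem mem_K_of_normalizes (hcard : Nat.card G = 86775571046077562880) {g : G}
    (hn : g ∈ Subgroup.normalizer (D.K : Set G)) (h : g ^ 1331 = 1) : g ∈ D.K := by
  haveI : Fact (Nat.Prime 11) := ⟨by norm_num⟩
  let U : Sylow 11 G := Sylow.ofCard D.K (D.card_K_eq hcard)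
  have hU : (U : Subgroup G) = D.K := Sylow.coe_ofCard _ _
  obtain ⟨n, -, hn'⟩ := (Nat.dvd_prime_pow (by norm_num : Nat.Prime 11)).1
    (orderOf_dvd_of_pow_eq_one h : orderOf g ∣ 11 ^ 3)
  have hp : IsPGroup 11 ↥(Subgroup.zpowers g) := IsPGroup.of_card (n := n) (by rw [Nat.card_zpowers, hn'])
  have hm : g ∈ Subgroup.zpowers g ⊓ (U : Subgroup G) := by
    rw [← hp.inf_normalizer_sylow U]
    exact Subgroup.mem_inf.2 ⟨Subgroup.mem_zpowers g, hn⟩
  exact hU ▸ hm.2

/-- Elements of order eleven are conjugate into the Sylow subgroup. -/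
theorem exists_conj_mem (hcard : Nat.card G = 86775571046077562880) {w : G} (hw : w ^ 11 = 1) :
    ∃ g : G, g * w * g⁻¹ ∈ D.K := by
  haveI : Fact (Nat.Prime 11) := ⟨by norm_num⟩
  let U : Sylow 11 G := Sylow.ofCard D.K (D.card_K_eq hcard)
  obtain ⟨n, -, hn⟩ := (Nat.dvd_prime_pow (by norm_num : Nat.Prime 11)).1
    (orderOf_dvd_of_pow_eq_one (n := 11 ^ 1) (by rw [pow_one]; exact hw))
  obtain ⟨T, hT⟩ := (IsPGroup.of_card (p := 11) (n := n) (by rw [Nat.card_zpowers, hn]) :
    IsPGroup 11 ↥(Subgroup.zpowers w)).exists_le_sylow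
  obtain ⟨g, hg⟩ := MulAction.exists_smul_eq G T U
  have hmap : (T : Subgroup G).map (MulAut.conj g).toMonoidHom = D.K := by
    rw [← Sylow.coe_ofCard D.K (D.card_K_eq hcard)]
    exact congrArg (fun W : Sylow 11 G => (W : Subgroup G)) hg
  exact ⟨g, hmap ▸ ⟨w, hT (Subgroup.mem_zpowers w), rfl⟩⟩

include D in
/-- The involutions of the centraliser. -/
theorem C_invol {u : G} (hu : u * E.x = E.x * u) (h2 : u * u = 1) (h1 : u ≠ 1) :
    ∃ v ∈ D.K, u = v * z * v⁻¹ := by
  have hzi : z⁻¹ = z := inv_eq_of_mul_eq_one_right S.zz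
  obtain ⟨k, hk, h, hh, rfl⟩ := D.split u hu
  have hhx : h * E.x = E.x * h := Subgroup.mem_centralizer_singleton_iff.1 hh.2
  have hhh : h * h ∈ D.K := by
    have hc : h * k * h⁻¹ ∈ D.K := D.K_norm h hhx k hk
    have e : h * h = (k * (h * k * h⁻¹))⁻¹ * (k * h * (k * h)) := by group
    rw [e, h2, mul_one]
    exact inv_mem (mul_mem hk hc)
  obtain ⟨i, hi⟩ := (isOfFinOrder_of_finite E.x).mem_powers_iff_mem_zpowers.2
    (D.K_z _ hhh (Subgroup.mem_centralizer_singleton_iff.1 (mul_mem hh.1 hh.1)))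
  have hi' : E.x ^ i = h * h := hi
  -- absorb the square
  set a := E.x ^ (5 * i) with ha
  have hah : Commute h a := (show Commute h E.x from hhx).pow_right _
  have h'2 : h * a * (h * a) = 1 := by
    rw [hah.symm.mul_mul_mul_comm, ← hi', ha, ← pow_add, ← pow_add, show i + (5 * i + 5 * i) = 11 * i by ring, pow_mul,
      E.x_pow, one_pow]
  have hh' : h * a ∈ E.CH := mul_mem hh (pow_mem (Subgroup.mem_inf.2
    ⟨Subgroup.mem_centralizer_singleton_iff.2 E.x_z, Subgroup.mem_centralizer_singleton_iff.2 rfl⟩) _)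
  set k' := k * a⁻¹ with hk'
  have hk'K : k' ∈ D.K := mul_mem hk (inv_mem (pow_mem D.x_mem _))
  have e : k * h = k' * (h * a) := by
    rw [hk', show k * a⁻¹ * (h * a) = k * (a⁻¹ * (h * a)) by group, hah.eq, inv_mul_cancel_left]
  rw [e] at h1 h2 ⊢
  have hz : h * a = z := by
    refine E.CH_invol hh' h'2 fun e1 => h1 ?_
    rw [e1, mul_one] at h2 ⊢
    have h3 := pow_gcd_eq_one.2 ⟨D.K_pow hk'K, (show k' ^ 2 = 1 by rw [pow_two]; exact h2)⟩
    rwa [show Nat.gcd 1331 2 = 1 by norm_num, pow_one] at h3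
  rw [hz] at h2 ⊢
  have hinv : z * k' * z = k'⁻¹ := by
    refine eq_inv_of_mul_eq_one_right ?_
    rw [← h2]; group
  set v := k' ^ 666 with hv
  refine ⟨v, pow_mem hk'K _, ?_⟩
  have hzv : z * v⁻¹ * z = v := by
    have := congrArg (fun w => (w ^ 666)⁻¹) hinv
    rw [show z * k' * z = z * k' * z⁻¹ by rw [hzi], conj_pow, hzi, inv_pow, inv_inv, mul_inv_rev, mul_inv_rev,
      hzi, ← mul_assoc] at this
    exact this
  have hvv : v * v = k' := by
    rw [hv, ← pow_add, show 666 + 666 = 1331 + 1 by norm_num, pow_succ, D.K_pow hk'K, one_mul]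
  calc k' * z = v * (z * v⁻¹ * z) * z := by rw [hzv, hvv]
    _ = v * z * v⁻¹ * (z * z) := by group
    _ = v * z * v⁻¹ := by rw [S.zz, mul_one]

include D in
/-- The involutions of the centraliser are conjugate. -/
theorem C_invol_conj {u : G} (hu : u * E.x = E.x * u) (h2 : u * u = 1) (h1 : u ≠ 1) : IsConj z u := by
  obtain ⟨v, -, rfl⟩ := D.C_invol hu h2 h1
  exact isConj_iff.2 ⟨v, rfl⟩

include D in
theorem conj_x_of_mem {k : G} (hk : k ∈ Subgroup.zpowers E.x) (h1 : k ≠ 1) :
    ∃ n ∈ Subgroup.normalizer (Subgroup.zpowers E.x : Set G), n * E.x * n⁻¹ = k := by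
  classical
  set N := Subgroup.normalizer (Subgroup.zpowers E.x : Set G) with hN
  set C := Subgroup.centralizer ({E.x} : Set G) with hC
  have hCN : C ≤ N := by
    rw [hC, hN]
    refine le_trans (le_of_eq ?_) (Subgroup.centralizer_le_normalizer _)
    rw [Subgroup.zpowers_eq_closure, Subgroup.centralizer_closure]
  have hidx : (C.subgroupOf N).index = 10 := by
    have := (C.subgroupOf N).card_mul_index
    rw [Nat.card_congr (Subgroup.subgroupOfEquivOfLe hCN).toEquiv, hN, D.card_NX, hC, D.card_C] at this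
    exact Nat.eq_of_mul_eq_mul_left (by norm_num : 0 < 1331 * 24) (by rw [this])
  let T := {w : G // w ∈ Subgroup.zpowers E.x ∧ w ≠ 1}
  let f : ↥N ⧸ C.subgroupOf N → T := fun q => Quotient.liftOn' q
    (fun g => ⟨(g : G) * E.x * (g : G)⁻¹, (Subgroup.mem_normalizer_iff.1 g.2 _).1 (Subgroup.mem_zpowers _),
      fun e => E.x_ne (conj_eq_one_iff.1 e)⟩)
    (fun a b hab => by
      rw [QuotientGroup.leftRel_apply, Subgroup.mem_subgroupOf] at hab
      have h : ((a : G)⁻¹ * b) * E.x = E.x * ((a : G)⁻¹ * b) := Subgroup.mem_centralizer_singleton_iff.1 hab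
      refine Subtype.ext ?_
      calc (a : G) * E.x * (a : G)⁻¹ = (a : G) * (E.x * ((a : G)⁻¹ * b)) * (b : G)⁻¹ := by group
        _ = (b : G) * E.x * (b : G)⁻¹ := by rw [← h]; group)
  have hf : Function.Injective f := by
    intro a b hab
    induction a using Quotient.inductionOn' with | _ a => ?_
    induction b using Quotient.inductionOn' with | _ b => ?_
    have e : (a : G) * E.x * (a : G)⁻¹ = (b : G) * E.x * (b : G)⁻¹ := congrArg Subtype.val hab
    refine QuotientGroup.eq.2 (Subgroup.mem_subgroupOf.2 (Subgroup.mem_centralizer_singleton_iff.2 ?_))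
    show (a : G)⁻¹ * b * E.x = E.x * ((a : G)⁻¹ * b)
    calc (a : G)⁻¹ * b * E.x = (a : G)⁻¹ * ((b : G) * E.x * (b : G)⁻¹) * b := by group
      _ = _ := by rw [← e]; group
  have hT : Nat.card T ≤ 10 := by
    have h : Nat.card T + 1 ≤ Nat.card ↥(Subgroup.zpowers E.x) := by
      haveI : Finite T := Subtype.finite
      haveI := Fintype.ofFinite T
      haveI := Fintype.ofFinite ↥(Subgroup.zpowers E.x)
      rw [Nat.card_eq_fintype_card, Nat.card_eq_fintype_card]
      exact Fintype.card_lt_of_injective_of_notMem (fun w : T => (⟨w.1, w.2.1⟩ : ↥(Subgroup.zpowers E.x)))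
        (fun a b e => Subtype.ext (congrArg (fun u : ↥(Subgroup.zpowers E.x) => (u : G)) e))
        (b := 1) (by rintro ⟨w, hw⟩; exact w.2.2 (congrArg Subtype.val hw))
    rw [Nat.card_zpowers, E.orderOf_x] at h
    omega
  haveI : Finite T := Subtype.finite
  have hb : Function.Bijective f := hf.bijective_of_nat_card_le (by
    show Nat.card T ≤ (C.subgroupOf N).index
    omega)
  obtain ⟨q, hq⟩ := hb.surjective ⟨k, hk, h1⟩
  induction q using Quotient.inductionOn' with | _ a => ?_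
  exact ⟨a, a.2, congrArg Subtype.val hq⟩

end ElevenG

namespace Frame

variable [IsSimpleGroup G] (Fr : Frame S)

include Fr in
/-- An element of the centraliser fixing an element outside the centre lies in the central subgroup. -/
theorem CH_fixed (hG : ¬ IsMulCommutative G) (D : ElevenG E) {h k : G} (hh : h ∈ E.CH) (hk : k ∈ D.K)
    (hkX : k ∉ Subgroup.zpowers E.x) (hc : h * k = k * h) : h ∈ Subgroup.zpowers E.x := by
  classical
  haveI : Fact (Nat.Prime 3) := ⟨Nat.prime_three⟩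
  obtain ⟨⟨m, j, l⟩, e⟩ := E.el_bijective.surjective ⟨h, hh⟩
  have e' : h = (m : G) * S.p ^ j.val * E.x ^ l.val := (congrArg Subtype.val e).symm
  set d := (m : G) * S.p ^ j.val with hd
  have hkx : Commute k E.x := D.K_le k hk
  have hdk : d * k = k * d := by
    have hxl : Commute (E.x ^ l.val) k := (hkx.pow_right _).symm
    have : d = h * (E.x ^ l.val)⁻¹ := by rw [e']; group
    rw [this]
    exact ((show Commute h k from hc).mul_left hxl.inv_left).eq
  have hzk : ¬ z * k = k * z := fun h' => hkX (D.K_z k hk h'.symm)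
  have hQ : ∀ q ∈ E.Q, q * k = k * q → q = 1 := fun q hq hqk => by
    rcases E.Q_sq hq with h2 | h2
    · exact (E.Q_invol hq h2).resolve_right fun e2 => hzk (e2 ▸ hqk)
    · refine absurd ?_ hzk
      rw [← h2]
      exact ((show Commute q k from hqk).mul_left (show Commute q k from hqk)).eq
  by_cases hj : j.val = 0
  · rw [hj, pow_zero, mul_one] at hd
    rw [e', hd] at *
    have hm1 := hQ m m.2 hdk
    rw [hm1, one_mul]
    exact pow_mem (Subgroup.mem_zpowers _) _
  exfalso
  have hpo : orderOf S.p = 3 := orderOf_eq_prime (by rw [pow_three']; exact S.p_pow) S.p_ne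
  have hp3 : S.p ^ 3 = 1 := by rw [pow_three']; exact S.p_pow
  -- the cube
  have hd3 : d ^ 3 = 1 := by
    refine hQ _ ?_ ((show Commute d k from hdk).pow_left 3).eq
    have : d ^ 3 = (m : G) * (S.p ^ j.val * m * (S.p ^ j.val)⁻¹) *
        (S.p ^ (2 * j.val) * m * (S.p ^ (2 * j.val))⁻¹) * S.p ^ (3 * j.val) := by
      rw [hd, pow_three', show 3 * j.val = j.val + j.val + j.val by ring, show 2 * j.val = j.val + j.val by ring,
        pow_add, pow_add]
      group
    rw [this, show S.p ^ (3 * j.val) = 1 by rw [pow_mul, hp3, one_pow], mul_one]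
    exact mul_mem (mul_mem m.2 (E.p_Q m.2 _)) (E.p_Q m.2 _)
  -- the subgroup of order twenty-four
  have hle : Subgroup.zpowers S.p ≤ Subgroup.normalizer (E.Q : Set G) := fun g hg => by
    obtain ⟨i, hi⟩ := (isOfFinOrder_of_finite S.p).mem_powers_iff_mem_zpowers.2 hg
    change S.p ^ i = g at hi
    subst hi
    refine Subgroup.mem_normalizer_iff.2 fun q => ⟨fun hq => E.p_Q hq i, fun hq => ?_⟩
    have := E.Q_norm (c := (S.p ^ i)⁻¹) ((show Commute S.p z from S.pz).pow_left i).inv_left.eq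
      ((show Commute S.p E.x from E.x_p.symm).pow_left i).inv_left.eq hq
    rwa [show (S.p ^ i)⁻¹ * (S.p ^ i * q * (S.p ^ i)⁻¹) * (S.p ^ i)⁻¹⁻¹ = q by group] at this
  have hbot : E.Q ⊓ Subgroup.zpowers S.p = ⊥ := Subgroup.inf_eq_bot_of_coprime (by
    rw [E.card_Q, Nat.card_zpowers, hpo]; norm_num)
  set L := E.Q ⊔ Subgroup.zpowers S.p with hL
  have hL24 : Nat.card ↥L = 24 := by
    rw [hL, Mathieu.card_sup_inf_bot _ _ hle hbot, E.card_Q, Nat.card_zpowers, hpo]
  have hpL : S.p ∈ L := Subgroup.mem_sup_right (Subgroup.mem_zpowers _)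
  have hdL : d ∈ L := mul_mem (Subgroup.mem_sup_left m.2) (pow_mem hpL _)
  have hd1 : d ≠ 1 := fun e2 => by
    have hmem : S.p ^ j.val ∈ E.Q ⊓ Subgroup.zpowers S.p :=
      Subgroup.mem_inf.2 ⟨by
        rw [show S.p ^ j.val = (m : G)⁻¹ * d by rw [hd]; group, e2, mul_one]
        exact inv_mem m.2, pow_mem (Subgroup.mem_zpowers _) _⟩
    rw [hbot, Subgroup.mem_bot] at hmem
    have hdvd := orderOf_dvd_of_pow_eq_one hmem
    rw [hpo] at hdvd
    have := j.2
    omega
  have hdo : orderOf d = 3 := orderOf_eq_prime hd3 hd1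
  have hf : (Nat.card ↥L).factorization 3 = 1 := by
    rw [hL24, show 24 = 3 * 8 by norm_num, Nat.factorization_mul (by norm_num) (by norm_num), Finsupp.add_apply,
      Nat.Prime.factorization_self Nat.prime_three, Nat.factorization_eq_zero_of_not_dvd (by norm_num)]
  let Sd : Sylow 3 ↥L := Sylow.ofCard (Subgroup.zpowers ⟨d, hdL⟩)
    (by rw [Nat.card_zpowers, Subgroup.orderOf_mk, hdo, hf, pow_one])
  let Sp : Sylow 3 ↥L := Sylow.ofCard (Subgroup.zpowers ⟨S.p, hpL⟩)
    (by rw [Nat.card_zpowers, Subgroup.orderOf_mk, hpo, hf, pow_one])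
  obtain ⟨g, hg⟩ := MulAction.exists_smul_eq ↥L Sp Sd
  have hmem : g * ⟨S.p, hpL⟩ * g⁻¹ ∈ Subgroup.zpowers (⟨d, hdL⟩ : ↥L) := by
    have h1 := congrArg (fun W : Sylow 3 ↥L => (W : Subgroup ↥L)) hg
    exact h1.le ⟨_, Subgroup.mem_zpowers _, rfl⟩
  obtain ⟨i, hi⟩ := Subgroup.mem_zpowers_iff.1 hmem
  have hi' : d ^ i = (g : G) * S.p * (g : G)⁻¹ := by
    have := congrArg Subtype.val hi
    simpa using this
  obtain ⟨q, hq, w, hw, hgq⟩ : ∃ q ∈ E.Q, ∃ w ∈ Subgroup.zpowers S.p, (g : G) = q * w := by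
    have h : (g : G) ∈ ((E.Q ⊔ Subgroup.zpowers S.p : Subgroup G) : Set G) := g.2
    rw [Subgroup.coe_mul_of_right_le_normalizer_left _ _ hle] at h
    obtain ⟨q, hq, w, hw, e2⟩ := h
    exact ⟨q, hq, w, hw, e2.symm⟩
  have hgp : (g : G) * S.p * (g : G)⁻¹ = q * S.p * q⁻¹ := by
    obtain ⟨r, rfl⟩ := Subgroup.mem_zpowers_iff.1 hw
    rw [hgq]; group
  have hqk : (q * S.p * q⁻¹) * k = k * (q * S.p * q⁻¹) := by
    rw [← hgp, ← hi']
    exact ((show Commute d k from hdk).zpow_left i).eq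
  have hk0 : q⁻¹ * k * q ∈ D.K := by
    have := D.K_norm q⁻¹ ((show Commute q E.x from (E.mem_Q.1 hq).2).inv_left).eq k hk
    rwa [inv_inv] at this
  have hkp : (q⁻¹ * k * q) * S.p = S.p * (q⁻¹ * k * q) := by
    calc q⁻¹ * k * q * S.p = q⁻¹ * (k * (q * S.p * q⁻¹)) * q := by group
      _ = _ := by rw [← hqk]; group
  obtain ⟨r, hr⟩ := Subgroup.mem_zpowers_iff.1 (Fr.K_centralizer_p hG D hk0 hkp)
  refine hkX (Subgroup.mem_zpowers_iff.2 ⟨r, ?_⟩)
  calc E.x ^ r = q * E.x ^ r * q⁻¹ := by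
        rw [((show Commute q E.x from (E.mem_Q.1 hq).2).zpow_right r).eq, mul_inv_cancel_right]
    _ = k := by rw [hr]; group

end Frame

end Cfsg.Agent.Spor.JFour
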