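import Cfsg.Agent.Lib.Spor.JFourType.Eleven.Extraspecial

/-!
Elements of order five in the normaliser of the Sylow subgroup for the prime eleven fix nothing outside its centre.
-/

set_option autoImplicit false
set_option maxRecDepth 100000
set_option Elab.async false
set_option linter.style.haveILetI false
set_option linter.unusedSectionVars false

open Cfsg
open scoped Pointwise

namespace Cfsg.Agent.Spor.JFour.ElevenG

variable {G : Type*} [Group G] [Finite G] {z : G} {P : Subgroup G} {S : Setting z P} {E : ElevenH S} (D : ElevenG E)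

omit [Finite G] in
include D in
theorem five_not_cent {u : G} (hu : orderOf u = 5) : ¬ u * E.x = E.x * u := fun h => by
  have h1 := Subgroup.orderOf_dvd_natCard (Subgroup.centralizer ({E.x} : Set G))
    (Subgroup.mem_centralizer_singleton_iff.2 h)
  rw [hu, D.card_C] at h1
  norm_num at h1

include D in
theorem Q_five {u : G} (hu : u ∈ E.NH) (h5 : orderOf u = 5) {q : G} (hq : q ∈ E.Q) : q * u = u * q := by
  haveI : Fact (Nat.Prime 5) := ⟨by norm_num⟩
  have huz : u * z = z * u := Subgroup.mem_centralizer_singleton_iff.1 hu.1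
  have hn : ∀ q ∈ E.Q, u * q * u⁻¹ ∈ E.Q := fun q hq => by
    refine E.mem_Q.2 ⟨S.ext.norm u huz q (E.mem_Q.1 hq).1, ?_⟩
    obtain ⟨i, hi⟩ := Subgroup.mem_zpowers_iff.1
      ((Subgroup.mem_normalizer_iff''.1 hu.2 E.x).1 (Subgroup.mem_zpowers _))
    have hqx : Commute q (u⁻¹ * E.x * u) := hi ▸ ((show Commute q E.x from (E.mem_Q.1 hq).2).zpow_right i)
    calc u * q * u⁻¹ * E.x = u * (q * (u⁻¹ * E.x * u)) * u⁻¹ := by group
      _ = _ := by rw [hqx.eq]; group
  have hm := Eleven.card_fixed_modEq (p := 5) (by rw [← h5]; exact pow_orderOf_eq_one u) hn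
  obtain ⟨k, hk, hc⟩ := (Nat.dvd_prime_pow Nat.prime_two).1
    (show Nat.card ↥(E.Q ⊓ Subgroup.centralizer ({u} : Set G)) ∣ 2 ^ 3 by
      have := Subgroup.card_dvd_of_le (inf_le_left : E.Q ⊓ Subgroup.centralizer ({u} : Set G) ≤ E.Q)
      rw [E.card_Q] at this
      norm_num
      exact this)
  rw [E.card_Q, hc, Nat.ModEq] at hm
  have hk3 : k = 3 := by interval_cases k <;> omega
  have e : E.Q ⊓ Subgroup.centralizer ({u} : Set G) = E.Q :=
    Subgroup.eq_of_le_of_card_ge inf_le_left (by rw [hc, E.card_Q, hk3]; norm_num)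
  exact Subgroup.mem_centralizer_singleton_iff.1 (e.ge hq).2

include D in
theorem no_five_H (hn : ∃ a ∈ D.K, ∃ b ∈ D.K, a * b ≠ b * a) {u y : G} (hu : u ∈ E.NH) (h5 : orderOf u = 5)
    (hy : y ∈ D.K) (hyX : y ∉ Subgroup.zpowers E.x) : ¬ u * y = y * u := fun huy => by
  classical
  haveI : Fact (Nat.Prime 11) := ⟨by norm_num⟩
  set M := D.K ⊓ Subgroup.centralizer ({u} : Set G) with hM
  have hMX : ∀ s ∈ M, s ∈ Subgroup.zpowers E.x → s = 1 := fun s hs hsX => by
    by_contra hs1
    have hx : E.x ∈ Subgroup.zpowers s := by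
      rw [Eleven.zpowers_eq E.orderOf_x hsX hs1]; exact Subgroup.mem_zpowers _
    obtain ⟨i, hi⟩ := Subgroup.mem_zpowers_iff.1 hx
    refine D.five_not_cent h5 ?_
    rw [← hi]
    exact ((show Commute s u from Subgroup.mem_centralizer_singleton_iff.1 hs.2).zpow_left i).symm.eq
  obtain ⟨k, hk⟩ := Eleven.free_dvd (Q := E.Q) (S := M) (X := ⊥) bot_le
    (fun q hq s hs => Subgroup.mem_inf.2 ⟨D.K_norm q (E.mem_Q.1 hq).2 s hs.1,
      Subgroup.mem_centralizer_singleton_iff.2 (((show Commute q u from D.Q_five hu h5 hq).mul_left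
        (show Commute s u from Subgroup.mem_centralizer_singleton_iff.1 hs.2)).mul_left
        (show Commute q u from D.Q_five hu h5 hq).inv_left).eq⟩)
    (fun q _ s hs => by rw [Subgroup.mem_bot.1 hs]; simp)
    (fun q hq hq1 s hs hqs => Subgroup.mem_bot.2 (hMX s hs (D.K_z s hs.1 (by
      rcases E.Q_sq hq with h | h
      · rw [← (E.Q_invol hq h).resolve_left hq1]; exact hqs.symm
      · rw [← h]
        exact ((show Commute s q from hqs.symm).mul_right (show Commute s q from hqs.symm)).eq))))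
  rw [Subgroup.card_bot, E.card_Q] at hk
  obtain ⟨a, ha, hMc⟩ := (Nat.dvd_prime_pow (by norm_num : Nat.Prime 11)).1
    (show Nat.card ↥M ∣ 11 ^ 3 by rw [← D.card_K_cube]; exact Subgroup.card_dvd_of_le inf_le_left)
  have hyM : y ∈ M := Subgroup.mem_inf.2 ⟨hy, Subgroup.mem_centralizer_singleton_iff.2 huy.symm⟩
  have hcases : a = 0 ∨ a = 2 ∨ a = 3 := by
    rw [hMc] at hk
    interval_cases a <;> omega
  rcases hcases with rfl | rfl | rfl
  · rw [pow_zero, Subgroup.card_eq_one] at hMc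
    rw [hMc, Subgroup.mem_bot] at hyM
    exact hyX (hyM ▸ one_mem _)
  · have hab := (IsPGroup.isMulCommutative_of_card_eq_prime_sq hMc).is_comm.comm
    have hle : Subgroup.zpowers E.x ≤ Subgroup.normalizer (M : Set G) :=
      Subgroup.zpowers_le.2 (Subgroup.mem_normalizer_iff.2 fun s => by
        constructor
        · intro hs
          rwa [← D.K_le s hs.1, mul_inv_cancel_right]
        · intro hs
          have e : E.x⁻¹ * (E.x * s * E.x⁻¹) * E.x = s := by group
          rw [← e, mul_assoc _ (E.x * s * E.x⁻¹), D.K_le _ hs.1, inv_mul_cancel_left]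
          exact hs)
    have hK : M ⊔ Subgroup.zpowers E.x = D.K := by
      refine Subgroup.eq_of_le_of_card_ge (sup_le inf_le_left (Subgroup.zpowers_le.2 D.x_mem)) ?_
      rw [Mathieu.card_sup_inf_bot _ _ hle ((Subgroup.eq_bot_iff_forall _).2 fun s hs => hMX s hs.1 hs.2), hMc,
        Nat.card_zpowers, E.orderOf_x, D.card_K]
      norm_num
    refine hyX (D.mem_X_of_central hn hy fun w hw => ?_)
    have hC : D.K ≤ Subgroup.centralizer ({y} : Set G) := by
      rw [← hK]
      exact sup_le (fun s hs => Subgroup.mem_centralizer_singleton_iff.2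
          (congrArg Subtype.val (hab (⟨s, hs⟩ : ↥M) ⟨y, hyM⟩)))
        (Subgroup.zpowers_le.2 (Subgroup.mem_centralizer_singleton_iff.2 (D.K_le y hy).symm))
    exact Subgroup.mem_centralizer_singleton_iff.1 (hC hw)
  · have e : M = D.K := Subgroup.eq_of_le_of_card_ge inf_le_left (by rw [hMc, D.card_K_cube])
    exact E.x_ne (hMX _ (e.ge D.x_mem) (Subgroup.mem_zpowers _))

include D in
theorem no_five (hn : ∃ a ∈ D.K, ∃ b ∈ D.K, a * b ≠ b * a) {u y : G}
    (hu : u ∈ Subgroup.normalizer (Subgroup.zpowers E.x : Set G)) (h5 : orderOf u = 5) (hy : y ∈ D.K)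
    (hyX : y ∉ Subgroup.zpowers E.x) : ¬ u * y = y * u := fun huy => by
  haveI : Fact (Nat.Prime 5) := ⟨by norm_num⟩
  set N := Subgroup.normalizer (Subgroup.zpowers E.x : Set G) with hN
  obtain ⟨⟨v, hv⟩, hv5⟩ := exists_prime_orderOf_dvd_card' (G := ↥E.NH) 5 (by rw [E.card_NH]; norm_num)
  rw [Subgroup.orderOf_mk] at hv5
  have hf : (Nat.card ↥N).factorization 5 = 1 := by
    rw [hN, D.card_NX, show 1331 * 240 = 5 * 63888 by norm_num, Nat.factorization_mul (by norm_num) (by norm_num),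
      Finsupp.add_apply, (by norm_num : Nat.Prime 5).factorization_self,
      Nat.factorization_eq_zero_of_not_dvd (by norm_num)]
  let T : Sylow 5 ↥N := Sylow.ofCard (Subgroup.zpowers ⟨u, hu⟩)
    (by rw [Nat.card_zpowers, Subgroup.orderOf_mk, h5, hf, pow_one])
  let T' : Sylow 5 ↥N := Sylow.ofCard (Subgroup.zpowers ⟨v, hv.2⟩)
    (by rw [Nat.card_zpowers, Subgroup.orderOf_mk, hv5, hf, pow_one])
  obtain ⟨g, hg⟩ := MulAction.exists_smul_eq ↥N T T'
  have hmem : g * ⟨u, hu⟩ * g⁻¹ ∈ Subgroup.zpowers (⟨v, hv.2⟩ : ↥N) :=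
    (congrArg (fun W : Sylow 5 ↥N => (W : Subgroup ↥N)) hg).le ⟨_, Subgroup.mem_zpowers _, rfl⟩
  obtain ⟨i, hi⟩ := Subgroup.mem_zpowers_iff.1 hmem
  have hi' : v ^ i = (g : G) * u * (g : G)⁻¹ := by simpa using congrArg Subtype.val hi
  have hw : (g : G) * u * (g : G)⁻¹ ∈ E.NH := hi' ▸ zpow_mem hv i
  have hk : (g : G) * y * (g : G)⁻¹ ∈ D.K := (Subgroup.mem_normalizer_iff.1 (D.normalizer_X_le g.2) y).1 hy
  refine D.no_five_H hn hw (by rw [← h5]; exact (MulAut.conj (g : G)).orderOf_eq u) hk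
    (fun h => hyX ((Subgroup.mem_normalizer_iff.1 g.2 y).2 h)) ?_
  calc (g : G) * u * (g : G)⁻¹ * ((g : G) * y * (g : G)⁻¹) = (g : G) * (u * y) * (g : G)⁻¹ := by group
    _ = _ := by rw [huy]; group

end Cfsg.Agent.Spor.JFour.ElevenG
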