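import Cfsg.Agent.Lib.Spor.JFourType.Eleven.GLTwoThree

/-!
A quaternion group with an element of order three permuting its three pairs of elements of order four, and an element
inverting the latter: generators with the relations of `GL(2, 3)`.
-/

set_option autoImplicit false
set_option linter.style.haveILetI false

namespace Cfsg.Agent.Spor.JFour.Eleven

open Cfsg.Agent.Transfer.SL23

variable {G : Type*} [Group G]

/-- The data. -/
structure QData (Q : Subgroup G) (z p : G) : Prop where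
  card : Nat.card ↥Q = 8
  sq : ∀ q ∈ Q, q * q = 1 ∨ q * q = z
  invol : ∀ u ∈ Q, u * u = 1 → u = 1 ∨ u = z
  z_mem : z ∈ Q
  zz : z * z = 1
  z_ne : z ≠ 1
  central : ∀ q ∈ Q, q * z = z * q
  p3 : p ^ 3 = 1
  p_ne : p ≠ 1
  pz : p * z = z * p
  norm : ∀ q ∈ Q, p * q * p⁻¹ ∈ Q
  fix : ∀ q ∈ Q, p * q = q * p → q = 1 ∨ q = z

namespace QData

variable {Q : Subgroup G} {z p : G} (h : QData Q z p)

/-- Outside the centre. -/
abbrev NT (Q : Subgroup G) (z q : G) : Prop := q ∈ Q ∧ q ≠ 1 ∧ q ≠ z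

include h

theorem sq_z {q : G} (hq : NT Q z q) : q * q = z :=
  (h.sq q hq.1).resolve_left fun e => (h.invol q hq.1 e).elim hq.2.1 hq.2.2

theorem inv_eq {q : G} (hq : NT Q z q) : q⁻¹ = q * z :=
  inv_eq_of_mul_eq_one_right (by rw [← mul_assoc, h.sq_z hq, h.zz])

theorem inv_nt {q : G} (hq : NT Q z q) : NT Q z q⁻¹ :=
  ⟨inv_mem hq.1, fun e => hq.2.1 (inv_eq_one.1 e), fun e => hq.2.2 (by
    rw [← inv_inv q, e, inv_eq_of_mul_eq_one_right h.zz])⟩

theorem conj_nt {q : G} (hq : NT Q z q) : NT Q z (p * q * p⁻¹) :=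
  ⟨h.norm q hq.1, fun e => hq.2.1 (conj_eq_one_iff.1 e), fun e => hq.2.2 (by
    calc q = p⁻¹ * (p * q * p⁻¹) * p := by group
      _ = p⁻¹ * (z * p) := by rw [e, mul_assoc]
      _ = z := by rw [← h.pz, inv_mul_cancel_left])⟩

theorem p_cube (q : G) : p * (p * (p * q * p⁻¹) * p⁻¹) * p⁻¹ = q := by
  calc _ = p ^ 3 * q * (p ^ 3)⁻¹ := by rw [pow_three']; group
    _ = q := by rw [h.p3]; group

theorem turn {q : G} (hq : NT Q z q) : p * q * p⁻¹ ≠ q ∧ p * q * p⁻¹ ≠ q⁻¹ := by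
  refine ⟨fun e => (h.fix q hq.1 (mul_inv_eq_iff_eq_mul.1 e)).elim hq.2.1 hq.2.2, fun e => ?_⟩
  have e2 : p * q⁻¹ * p⁻¹ = q := by rw [← conj_inv, e, inv_inv]
  have e3 := h.p_cube q
  rw [e, e2, e] at e3
  refine (h.invol q hq.1 ?_).elim hq.2.1 hq.2.2
  nth_rewrite 1 [← e3]
  exact inv_mul_cancel q

theorem anti {a b : G} (ha : NT Q z a) (hb : NT Q z b) (h1 : b ≠ a) (h2 : b ≠ a⁻¹) :
    b * a = a⁻¹ * b ∧ NT Q z (a * b) := by
  have hab : NT Q z (a * b) := ⟨mul_mem ha.1 hb.1, fun e => h2 (eq_inv_of_mul_eq_one_right e), fun e => h1 (by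
    rw [← inv_mul_cancel_left a b, e, h.inv_eq ha, mul_assoc, h.zz, mul_one])⟩
  refine ⟨?_, hab⟩
  calc b * a = a⁻¹ * ((a * b) * (a * b)) * b⁻¹ := by group
    _ = a⁻¹ * (z * b * z) := by rw [h.sq_z hab, h.inv_eq hb]; group
    _ = a⁻¹ * b := by rw [← h.central b hb.1, mul_assoc b, h.zz, mul_one]

theorem orderOf_four {q : G} (hq : NT Q z q) : orderOf q = 4 := by
  haveI : Fact (Nat.Prime 2) := ⟨Nat.prime_two⟩
  rw [show 4 = 2 ^ (1 + 1) by norm_num]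
  refine orderOf_eq_prime_pow ?_ ?_
  · rw [pow_one, pow_two, h.sq_z hq]; exact h.z_ne
  · rw [show 2 ^ (1 + 1) = 2 * 2 by norm_num, pow_mul, pow_two q, h.sq_z hq, pow_two, h.zz]

theorem four_pow {q : G} (hq : NT Q z q) (s : Fin 4) :
    q ^ s.val = 1 ∨ q ^ s.val = q ∨ q ^ s.val = z ∨ q ^ s.val = q⁻¹ := by
  fin_cases s
  · exact Or.inl (pow_zero q)
  · exact Or.inr (Or.inl (pow_one q))
  · exact Or.inr (Or.inr (Or.inl (by rw [pow_two]; exact h.sq_z hq)))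
  · refine Or.inr (Or.inr (Or.inr ?_))
    show q ^ 3 = q⁻¹
    rw [h.inv_eq hq, pow_three, h.sq_z hq]

theorem qev_bijective {i j : G} (hi : NT Q z i) (hj : NT Q z j) (h1 : j ≠ i) (h2 : j ≠ i⁻¹) :
    ∀ q ∈ Q, ∃ x, qev i j x = q := by
  haveI : Finite ↥Q := Nat.finite_of_card_ne_zero (by rw [h.card]; norm_num)
  let f : Fin 4 × Fin 2 → ↥Q := fun x => ⟨qev i j x, mul_mem (pow_mem hi.1 _) (pow_mem hj.1 _)⟩
  have hkey : ∀ s : Fin 4, i ^ s.val ≠ j := fun s e => by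
    rcases h.four_pow hi s with e1 | e1 | e1 | e1 <;> rw [e1] at e
    exacts [hj.2.1 e.symm, h1 e.symm, hj.2.2 e.symm, h2 e.symm]
  have hpow : ∀ s s' : Fin 4, i ^ s.val = i ^ s'.val → s = s' := fun s s' e => by
    have := pow_eq_pow_iff_modEq.1 e
    rw [h.orderOf_four hi, Nat.ModEq] at this
    exact Fin.ext (by omega)
  have hmix : ∀ s s' : Fin 4, i ^ s.val ≠ i ^ s'.val * j := fun s s' e => by
    refine hkey (s - s') ?_
    rw [← mul_right_inj (i ^ s'.val), ← e, ← pow_add]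
    conv_rhs => rw [show s = s' + (s - s') by abel, Fin.val_add]
    rw [← pow_eq_pow_mod _ (h.orderOf_four hi ▸ pow_orderOf_eq_one i : i ^ 4 = 1)]
  have hf : Function.Injective f := by
    rintro ⟨s, t⟩ ⟨s', t'⟩ e
    have e' : i ^ s.val * j ^ t.val = i ^ s'.val * j ^ t'.val := congrArg Subtype.val e
    fin_cases t <;> fin_cases t' <;> simp only [pow_zero, pow_one, mul_one] at e' <;>
      first
        | exact absurd e' (hmix _ _)
        | exact absurd e'.symm (hmix _ _)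
        | rw [hpow _ _ e']
        | rw [hpow _ _ (mul_right_cancel e')]
  intro q hq
  obtain ⟨x, hx⟩ := (hf.bijective_of_nat_card_le (by rw [h.card]; simp)).surjective ⟨q, hq⟩
  exact ⟨x, congrArg Subtype.val hx⟩

theorem cover {i j : G} (hi : NT Q z i) (hj : NT Q z j) (h1 : j ≠ i) (h2 : j ≠ i⁻¹) {q : G} (hq : NT Q z q) :
    q = i ∨ q = i⁻¹ ∨ q = j ∨ q = j⁻¹ ∨ q = i * j ∨ q = (i * j)⁻¹ := by
  obtain ⟨⟨s, t⟩, rfl⟩ := h.qev_bijective hi hj h1 h2 q hq.1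
  obtain ⟨-, hk⟩ := h.anti hi hj h1 h2
  fin_cases t
  · rcases h.four_pow hi s with e | e | e | e
    · exact absurd (by simp [qev, e]) hq.2.1
    · exact Or.inl (by simp [qev, e])
    · exact absurd (by simp [qev, e]) hq.2.2
    · exact Or.inr (Or.inl (by simp [qev, e]))
  · rcases h.four_pow hi s with e | e | e | e
    · exact Or.inr (Or.inr (Or.inl (by simp [qev, e])))
    · exact Or.inr (Or.inr (Or.inr (Or.inr (Or.inl (by simp [qev, e])))))
    · refine Or.inr (Or.inr (Or.inr (Or.inl ?_)))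
      rw [h.inv_eq hj, h.central j hj.1]
      simp [qev, e]
    · refine Or.inr (Or.inr (Or.inr (Or.inr (Or.inr ?_))))
      rw [h.inv_eq hk, mul_assoc, h.central j hj.1, ← mul_assoc, ← h.inv_eq hi]
      simp [qev, e]

theorem rel_of_nt {i : G} (hi : NT Q z i) :
    ∃ i', (i' = i ∨ i' = i⁻¹) ∧ Rel i' (p * i' * p⁻¹) p := by
  have hj := h.conj_nt hi
  obtain ⟨t1, t2⟩ := h.turn hi
  have hk := h.conj_nt hj
  obtain ⟨u1, u2⟩ := h.turn hj
  have hmk : ∀ {x : G}, NT Q z x → p * (p * x * p⁻¹) * p⁻¹ = x * (p * x * p⁻¹) → Rel x (p * x * p⁻¹) p :=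
    fun {x} hx e => ⟨h.orderOf_four hx ▸ pow_orderOf_eq_one x, by rw [h.sq_z hx, h.sq_z (h.conj_nt hx)],
      (h.anti hx (h.conj_nt hx) (h.turn hx).1 (h.turn hx).2).1, h.p3, rfl, e⟩
  rcases h.cover hi hj t1 t2 hk with e | e | e | e | e | e
  · exfalso
    have e2 := h.p_cube i
    rw [e] at e2
    exact t1 e2
  · exfalso
    have e2 := h.p_cube i
    rw [e, ← conj_inv, inv_eq_iff_eq_inv] at e2
    exact t2 e2
  · exact absurd e u1
  · exact absurd e u2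
  · exact ⟨i, Or.inl rfl, hmk hi e⟩
  · refine ⟨i⁻¹, Or.inr rfl, hmk (h.inv_nt hi) ?_⟩
    rw [← conj_inv, ← conj_inv, e, inv_inv, h.inv_eq hi, h.inv_eq hj, mul_assoc i z, ← mul_assoc z,
      ← h.central _ hj.1, mul_assoc (p * i * p⁻¹) z z, h.zz, mul_one]

/-- An element inverting the element of order three gives the relations. -/
theorem exists_flip {n : G} (hn : ∀ q ∈ Q, n * q * n⁻¹ ∈ Q) (hnz : n * z = z * n) (hnp : n * p * n⁻¹ = p⁻¹)
    {q0 : G} (hq0 : NT Q z q0) : ∃ i j, NT Q z i ∧ GL23.Flip i j p n := by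
  obtain ⟨i0, hi0', R0⟩ := h.rel_of_nt hq0
  have hi0 : NT Q z i0 := by rcases hi0' with rfl | rfl; exacts [hq0, h.inv_nt hq0]
  have hcl : NT Q z (n * i0 * n⁻¹) := ⟨hn i0 hi0.1, fun e => hi0.2.1 (conj_eq_one_iff.1 e), fun e => hi0.2.2 (by
    calc i0 = n⁻¹ * (n * i0 * n⁻¹) * n := by group
      _ = n⁻¹ * (z * n) := by rw [e, mul_assoc]
      _ = z := by rw [← hnz, inv_mul_cancel_left])⟩
  obtain ⟨m, hm⟩ : ∃ m : ℕ, n * i0 * n⁻¹ = p ^ m * i0 * (p ^ m)⁻¹ ∨ n * i0 * n⁻¹ = (p ^ m * i0 * (p ^ m)⁻¹)⁻¹ := by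
    have e1 : p ^ 2 * i0 * (p ^ 2)⁻¹ = i0 * (p * i0 * p⁻¹) := by
      rw [← R0.aj, pow_two]; group
    rcases h.cover hi0 (h.conj_nt hi0) (h.turn hi0).1 (h.turn hi0).2 hcl with e | e | e | e | e | e
    · exact ⟨0, Or.inl (by simp [e])⟩
    · exact ⟨0, Or.inr (by simp [e])⟩
    · exact ⟨1, Or.inl (by simp [e])⟩
    · exact ⟨1, Or.inr (by simp [e])⟩
    · exact ⟨2, Or.inl (e.trans e1.symm)⟩
    · exact ⟨2, Or.inr (by rw [e1]; exact e)⟩
  obtain ⟨i1, hi1⟩ : ∃ i1, i1 = (p ^ m)⁻¹ * i0 * p ^ m := ⟨_, rfl⟩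
  have hmconj : ∀ (k : ℕ) {x : G}, NT Q z x → NT Q z (p ^ k * x * (p ^ k)⁻¹) := fun k => by
    induction k with
    | zero => intro x hx; simpa using hx
    | succ k ih =>
      intro x hx
      rw [show p ^ (k + 1) * x * (p ^ (k + 1))⁻¹ = p * (p ^ k * x * (p ^ k)⁻¹) * p⁻¹ by rw [pow_succ']; group]
      exact h.conj_nt (ih hx)
  have hp3m : p ^ (2 * m) = (p ^ m)⁻¹ := eq_inv_of_mul_eq_one_left (by
    rw [← pow_add, show 2 * m + m = 3 * m by omega, pow_mul, h.p3, one_pow])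
  have hi1nt : NT Q z i1 := by
    rw [hi1, ← hp3m, show p ^ m = (p ^ (2 * m))⁻¹ by rw [hp3m, inv_inv]]
    exact hmconj _ hi0
  have hnm : n * p ^ m * n⁻¹ = (p ^ m)⁻¹ := by rw [← conj_pow, hnp, inv_pow]
  have hni1 : n * i1 * n⁻¹ = i1 ∨ n * i1 * n⁻¹ = i1⁻¹ := by
    have e : n * i1 * n⁻¹ = p ^ m * (n * i0 * n⁻¹) * (p ^ m)⁻¹ := by
      rw [hi1, show n * ((p ^ m)⁻¹ * i0 * p ^ m) * n⁻¹ = (n * p ^ m * n⁻¹)⁻¹ * (n * i0 * n⁻¹) * (n * p ^ m * n⁻¹) by group,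
        hnm, inv_inv]
    have e2 : ∀ x, p ^ m * (p ^ m * x * (p ^ m)⁻¹) * (p ^ m)⁻¹ = p ^ (2 * m) * x * (p ^ (2 * m))⁻¹ := fun x => by
      rw [two_mul, pow_add]; group
    rcases hm with e1 | e1 <;> rw [e, e1]
    · left; rw [e2, hp3m, inv_inv, hi1]
    · right; rw [← conj_inv, e2, hp3m, inv_inv, hi1]
  obtain ⟨i, hi', R⟩ := h.rel_of_nt hi1nt
  have hi : NT Q z i := by rcases hi' with rfl | rfl; exacts [hi1nt, h.inv_nt hi1nt]
  have hni : n * i * n⁻¹ = i ∨ n * i * n⁻¹ = i⁻¹ := by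
    rcases hi' with rfl | rfl
    · exact hni1
    · rw [← conj_inv, inv_inj, inv_inv]
      exact hni1.imp id (fun e => by rw [e, inv_inv])
  refine ⟨i, p * i * p⁻¹, hi, R, hnp, hni.resolve_left fun e => ?_⟩
  have hai : p⁻¹ * i * p = i * (p * i * p⁻¹) := by
    rw [← R.aj]
    calc p⁻¹ * i * p = (p ^ 3 * p⁻¹) * i * (p ^ 3 * p⁻¹)⁻¹ := by rw [h.p3]; group
      _ = _ := by rw [pow_three']; group
  have hnj : n * (p * i * p⁻¹) * n⁻¹ = i * (p * i * p⁻¹) := by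
    rw [← hai, show n * (p * i * p⁻¹) * n⁻¹ = (n * p * n⁻¹) * (n * i * n⁻¹) * (n * p * n⁻¹)⁻¹ by group, hnp, e,
      inv_inv]
  have e1 : n * (i * (p * i * p⁻¹)) * n⁻¹ = i * (i * (p * i * p⁻¹)) := by
    rw [show n * (i * (p * i * p⁻¹)) * n⁻¹ = (n * i * n⁻¹) * (n * (p * i * p⁻¹) * n⁻¹) by group, e, hnj]
  have e2 : n * (i * (p * i * p⁻¹)) * n⁻¹ = p * i * p⁻¹ := by
    nth_rewrite 1 [← R.aj]
    rw [show n * (p * (p * i * p⁻¹) * p⁻¹) * n⁻¹ = (n * p * n⁻¹) * (n * (p * i * p⁻¹) * n⁻¹) * (n * p * n⁻¹)⁻¹ by group,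
      hnp, hnj, inv_inv, ← R.aj]
    group
  rw [e2, ← mul_assoc, eq_comm, mul_eq_right] at e1
  exact (h.invol i hi.1 e1).elim hi.2.1 hi.2.2

theorem ev_eq_one {i j : G} (hi : NT Q z i) (R : Rel i j p) (x : Word) (he : ev i j p x = 1) : x = (0, 0, 0) := by
  have hj : NT Q z j := R.ai ▸ h.conj_nt hi
  have h1 : j ≠ i := R.ai ▸ (h.turn hi).1
  have h2 : j ≠ i⁻¹ := R.ai ▸ (h.turn hi).2
  obtain ⟨s, t, u⟩ := x
  have hq : i ^ s.val * j ^ t.val ∈ Q := mul_mem (pow_mem hi.1 _) (pow_mem hj.1 _)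
  have hu : p ^ u.val ∈ Q := by
    rw [show p ^ u.val = (i ^ s.val * j ^ t.val)⁻¹ from eq_inv_of_mul_eq_one_right he]
    exact inv_mem hq
  have hp : orderOf p = 3 := by
    haveI : Fact (Nat.Prime 3) := ⟨Nat.prime_three⟩
    exact orderOf_eq_prime h.p3 h.p_ne
  have hu0 : u = 0 := by
    have h4 : (p ^ u.val) ^ 4 = 1 := by
      rw [show 4 = 2 * 2 by norm_num, pow_mul, pow_two (p ^ u.val)]
      rcases h.sq _ hu with e | e <;> rw [e]
      · simp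
      · rw [pow_two]; exact h.zz
    have h3 : (p ^ u.val) ^ 3 = 1 := by rw [← pow_mul, mul_comm, pow_mul, h.p3, one_pow]
    have h1' := pow_gcd_eq_one.2 ⟨h4, h3⟩
    rw [show Nat.gcd 4 3 = 1 by norm_num, pow_one] at h1'
    have h2' := orderOf_dvd_of_pow_eq_one h1'
    rw [hp] at h2'
    exact Fin.ext (show u.val = 0 by omega)
  subst hu0
  have he' : i ^ s.val * j ^ t.val = 1 := by
    have e : ev i j p (s, t, 0) = i ^ s.val * j ^ t.val := by simp [ev]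
    exact e.symm.trans he
  fin_cases t
  · simp only [pow_zero, mul_one] at he'
    have := orderOf_dvd_of_pow_eq_one he'
    rw [h.orderOf_four hi] at this
    rw [show s = 0 from Fin.ext (show s.val = 0 by omega)]
    rfl
  · exfalso
    simp only [pow_one] at he'
    rcases h.four_pow hi s with e | e | e | e <;> rw [e] at he'
    · exact hj.2.1 (by simpa using he')
    · exact h2 (eq_inv_of_mul_eq_one_right he')
    · exact hj.2.2 ((eq_inv_of_mul_eq_one_right he').trans (inv_eq_of_mul_eq_one_right h.zz))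
    · exact h1 (inv_mul_eq_one.1 he').symm

end QData

end Cfsg.Agent.Spor.JFour.Eleven
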