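import Cfsg.Agent.Lib.Spor.JFourType.Eleven.Classes
import Cfsg.Agent.Lib.Spor.JFourType.Eleven.Quaternion

/-!
A subgroup isomorphic to `GL(2, 3)` in the normaliser of the Sylow subgroup for the prime eleven.
-/

set_option autoImplicit false
set_option maxRecDepth 100000
set_option Elab.async false
set_option linter.style.haveILetI false

open Cfsg Cfsg.Agent.Transfer.SL23
open scoped Pointwise

namespace Cfsg.Agent.Spor.JFour

variable {G : Type*} [Group G] [Finite G] {z : G} {P : Subgroup G} {S : Setting z P} {E : ElevenH S}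

namespace ElevenH

theorem mem_normalizer_X {g : G} (h : g * E.x * g⁻¹ ∈ Subgroup.zpowers E.x) :
    g ∈ Subgroup.normalizer (Subgroup.zpowers E.x : Set G) := by
  haveI : Fact (Nat.Prime 11) := ⟨by norm_num⟩
  refine Subgroup.mem_normalizer_iff.2 fun w => ?_
  have e : (Subgroup.zpowers E.x).map (MulAut.conj g).toMonoidHom = Subgroup.zpowers E.x := by
    rw [MonoidHom.map_zpowers]
    exact Eleven.zpowers_eq E.orderOf_x h fun e => E.x_ne (conj_eq_one_iff.1 e)
  conv_rhs => rw [← e]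
  exact (Subgroup.mem_map_iff_mem (f := (MulAut.conj g).toMonoidHom) (MulAut.conj g).injective).symm

theorem inverts_of_invol {s : G} (hs : s ∈ Subgroup.normalizer (Subgroup.zpowers E.x : Set G)) (h2 : s * s = 1)
    (hc : ¬ s * E.x = E.x * s) : s * E.x * s⁻¹ = E.x⁻¹ := by
  have hsi : s⁻¹ = s := inv_eq_of_mul_eq_one_right h2
  obtain ⟨i, hi⟩ := (isOfFinOrder_of_finite E.x).mem_powers_iff_mem_zpowers.2
    ((Subgroup.mem_normalizer_iff.1 hs E.x).1 (Subgroup.mem_zpowers _))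
  have hi' : E.x ^ i = s * E.x * s⁻¹ := hi
  have hh : E.x ^ (i * i) = E.x := by
    rw [pow_mul, hi', conj_pow, hi', show s * (s * E.x * s⁻¹) * s⁻¹ = (s * s) * E.x * (s * s)⁻¹ by group, h2]
    group
  have hii : i * i % 11 = 1 := by
    have := (pow_eq_pow_iff_modEq (x := E.x) (m := 1) (n := i * i)).1 (by rw [pow_one]; exact hh)
    rw [E.orderOf_x, Nat.ModEq] at this
    omega
  have hr : i % 11 = 1 ∨ i % 11 = 10 := by
    rw [Nat.mul_mod] at hii
    have hlt : i % 11 < 11 := Nat.mod_lt _ (by norm_num)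
    interval_cases i % 11 <;> omega
  rw [← hi', pow_eq_pow_mod i E.x_pow]
  rcases hr with e | e <;> rw [e]
  · refine absurd ?_ hc
    rw [pow_eq_pow_mod i E.x_pow, e, pow_one] at hi'
    exact mul_inv_eq_iff_eq_mul.1 hi'.symm
  · exact eq_inv_of_mul_eq_one_left (by rw [← pow_succ]; exact E.x_pow)

theorem qdata : Eleven.QData E.Q z S.p where
  card := E.card_Q
  sq := fun q hq => E.Q_sq hq
  invol := fun u hu h => E.Q_invol hu h
  z_mem := E.z_mem_Q
  zz := S.zz
  z_ne := S.ext.ne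
  central := fun q hq => E.Q_z hq
  p3 := by rw [pow_three']; exact S.p_pow
  p_ne := S.p_ne
  pz := S.pz
  norm := fun q hq => E.Q_norm S.pz E.x_p.symm hq
  fix := fun q hq h => S.fix q (E.mem_Q.1 hq).1 h

end ElevenH

namespace Eleven.GL23

theorem wmul2_surj : ∀ v : Word × Fin 2, ∃ w, wmul2 v w = ((0, 0, 0), 0) := by decide +kernel

end Eleven.GL23

namespace Frame

variable [IsSimpleGroup G] (Fr : Frame S)

include Fr in
theorem exists_inverting (hG : ¬ IsMulCommutative G) (hcard : Nat.card G = 86775571046077562880) (D : ElevenG E) :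
    ∃ s ∈ E.NH, s * s = 1 ∧ s * E.x * s⁻¹ = E.x⁻¹ := by
  classical
  haveI : Fact (Nat.Prime 11) := ⟨by norm_num⟩
  haveI : Fact (Nat.Prime 2) := ⟨Nat.prime_two⟩
  have hn := Fr.noncomm hG hcard D
  obtain ⟨hcls, -⟩ := Fr.classes_eleven hG hcard D
  obtain ⟨A, t, y, T, hyK⟩ := Fr.exists_second_in hG hcard D
  have hxy := second_not_conj D T
  have hyX : y ∉ Subgroup.zpowers E.x := fun h => by
    obtain ⟨n, -, hn'⟩ := D.conj_x_of_mem h T.y_ne
    exact hxy (isConj_iff.2 ⟨n, hn'⟩)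
  obtain ⟨R, -, -, -, hsq, hI⟩ := T.exists_core
  set B := D.K ⊓ Subgroup.centralizer ({y} : Set G) with hB
  have hmemB : ∀ {b : G}, b ∈ B ↔ b ∈ D.K ∧ b * y = y * b := fun {b} => by
    rw [hB, Subgroup.mem_inf, Subgroup.mem_centralizer_singleton_iff]
  have hxB : E.x ∈ B := hmemB.2 ⟨D.x_mem, (D.K_le y hyK).symm⟩
  have hyB : y ∈ B := hmemB.2 ⟨hyK, rfl⟩
  have hB121 : 121 ≤ Nat.card ↥B := by
    obtain ⟨a, ha, hc⟩ := (Nat.dvd_prime_pow (by norm_num : Nat.Prime 11)).1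
      (show Nat.card ↥B ∣ 11 ^ 3 by rw [← D.card_K_cube]; exact Subgroup.card_dvd_of_le inf_le_left)
    by_contra hlt
    have ha1 : a ≤ 1 := by
      by_contra h
      exact hlt (hc ▸ le_trans (by norm_num) (Nat.pow_le_pow_right (by norm_num) (show 2 ≤ a by omega)))
    have e : Subgroup.zpowers E.x = B := Subgroup.eq_of_le_of_card_ge (Subgroup.zpowers_le.2 hxB) (by
      rw [hc, Nat.card_zpowers, E.orderOf_x]
      exact le_trans (Nat.pow_le_pow_right (by norm_num) ha1) (by norm_num))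
    exact hyX (e.ge hyB)
  -- eleven-elements of the centraliser
  have hBmem : ∀ r, r * y = y * r → r ^ 1331 = 1 → r ∈ B := fun r hry hr => by
    by_contra hrB
    have hrR : r ∈ R := Eleven.Second.mem_core hsq hry (m := 665) hr
    have key : ∀ r' ∈ R, r' * y = y * r' → ∀ b ∈ B, r' * b * r'⁻¹ ∈ B := fun r' hr' hr'y b hb => by
      obtain ⟨w, hw, he⟩ := hI.comm hr' (Eleven.Second.mem_core hsq (hmemB.1 hb).2 (m := 665)
        (D.odd_pow (hmemB.1 hb).1))
      have hwr : w * r'⁻¹ = r'⁻¹ * w := by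
        obtain ⟨i, rfl⟩ := Subgroup.mem_zpowers_iff.1 hw
        exact (((show Commute r' y from hr'y).inv_left).zpow_right i).symm.eq
      rw [show r' * b * r'⁻¹ = b * w by rw [he, mul_assoc, hwr, ← mul_assoc, mul_inv_cancel_right]]
      exact mul_mem hb (Subgroup.zpowers_le.2 hyB hw)
    have hnorm : Subgroup.zpowers r ≤ Subgroup.normalizer (B : Set G) := Subgroup.zpowers_le.2
      (Subgroup.mem_normalizer_iff.2 fun b => ⟨key r hrR hry b, fun h => by
        have := key r⁻¹ (inv_mem hrR) ((show Commute r y from hry).inv_left).eq _ h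
        rwa [show r⁻¹ * (r * b * r⁻¹) * r⁻¹⁻¹ = b by group] at this⟩)
    obtain ⟨a, -, ho⟩ := (Nat.dvd_prime_pow (by norm_num : Nat.Prime 11)).1
      (orderOf_dvd_of_pow_eq_one hr : orderOf r ∣ 11 ^ 3)
    have hp : IsPGroup 11 ↥(Subgroup.zpowers r ⊔ B) :=
      IsPGroup.to_sup_of_normal_right' (IsPGroup.of_card (n := a) (by rw [Nat.card_zpowers, ho]))
        ((IsPGroup.of_card D.card_K_cube).to_le inf_le_left) hnorm
    obtain ⟨U, hU⟩ := hp.exists_le_sylow
    have hUc : Nat.card ↥(U : Subgroup G) = 1331 := by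
      rw [← D.card_K, D.card_K_eq hcard]; exact U.card_eq_multiplicity
    have hlt : B < Subgroup.zpowers r ⊔ B := lt_of_le_of_ne le_sup_right fun e =>
      hrB (e ▸ Subgroup.mem_sup_left (Subgroup.mem_zpowers r))
    have hUC : (U : Subgroup G) ≤ Subgroup.centralizer ({y} : Set G) := by
      obtain ⟨b, hb⟩ := IsPGroup.iff_card.1 hp
      have h1 : 121 < 11 ^ b := hb ▸ lt_of_le_of_lt hB121
        (Set.ncard_lt_ncard (SetLike.coe_ssubset_coe.2 hlt) (Set.toFinite _))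
      have hb3 : 3 ≤ b := by
        by_contra h
        exact absurd (lt_of_lt_of_le h1 (Nat.pow_le_pow_right (by norm_num) (show b ≤ 2 by omega))) (by norm_num)
      have e : Subgroup.zpowers r ⊔ B = (U : Subgroup G) := Subgroup.eq_of_le_of_card_ge hU (by
        rw [hUc, hb]; exact le_trans (by norm_num) (Nat.pow_le_pow_right (by norm_num) hb3))
      rw [← e]
      exact sup_le (Subgroup.zpowers_le.2 (Subgroup.mem_centralizer_singleton_iff.2 hry)) inf_le_right
    let U0 : Sylow 11 G := Sylow.ofCard D.K (D.card_K_eq hcard)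
    obtain ⟨g, hg⟩ := MulAction.exists_smul_eq G U U0
    have hmap : (U : Subgroup G).map (MulAut.conj g).toMonoidHom = D.K := by
      rw [← Sylow.coe_ofCard D.K (D.card_K_eq hcard)]
      exact congrArg (fun W : Sylow 11 G => (W : Subgroup G)) hg
    have hgy : g * y * g⁻¹ ∈ D.K := hmap ▸ ⟨y, hU (Subgroup.mem_sup_right hyB), rfl⟩
    have hX : g * y * g⁻¹ ∈ Subgroup.zpowers E.x := D.mem_X_of_central hn hgy fun a ha => by
      obtain ⟨u, hu, rfl⟩ := hmap.ge ha
      show g * u * g⁻¹ * (g * y * g⁻¹) = g * y * g⁻¹ * (g * u * g⁻¹)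
      calc g * u * g⁻¹ * (g * y * g⁻¹) = g * (u * y) * g⁻¹ := by group
        _ = _ := by rw [Subgroup.mem_centralizer_singleton_iff.1 (hUC hu)]; group
    obtain ⟨n, -, hn'⟩ := D.conj_x_of_mem hX (fun e => T.y_ne (conj_eq_one_iff.1 e))
    exact hxy ((isConj_iff.2 ⟨n, hn'⟩).trans (isConj_iff.2 ⟨g, rfl⟩).symm)
  -- the involution normalises the subgroup of order eleven
  have hti : t⁻¹ = t := inv_eq_of_mul_eq_one_right T.tt
  have htxB : t * E.x * t⁻¹ ∈ B := hBmem _
    (((show Commute t y from T.ty).mul_left (show Commute E.x y from (D.K_le y hyK).symm)).mul_left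
      (show Commute t y from T.ty).inv_left).eq
    (by rw [conj_pow, D.K_pow D.x_mem, mul_one, mul_inv_cancel])
  have htX : t * E.x * t⁻¹ ∈ Subgroup.zpowers E.x := by
    by_contra h
    exact hcls _ (hmemB.1 htxB).1 h (isConj_iff.2 ⟨t, rfl⟩)
  have htN : t ∈ Subgroup.normalizer (Subgroup.zpowers E.x : Set G) := E.mem_normalizer_X htX
  -- move it into the centraliser of the involution
  set N := Subgroup.normalizer (Subgroup.zpowers E.x : Set G) with hN
  have hf : (Nat.card ↥N).factorization 2 = 4 := by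
    rw [hN, D.card_NX, show 1331 * 240 = 2 ^ 4 * 19965 by norm_num, Nat.factorization_mul (by norm_num) (by norm_num),
      Finsupp.add_apply, Nat.Prime.factorization_pow Nat.prime_two, Finsupp.single_eq_same,
      Nat.factorization_eq_zero_of_not_dvd (by norm_num)]
  have hto : orderOf t = 2 := orderOf_eq_prime (by rw [pow_two]; exact T.tt) T.t_ne
  obtain ⟨W, hW⟩ := Sylow.exists_subgroup_card_pow_prime 2 (G := ↥E.NH) (n := 4) (by rw [E.card_NH]; norm_num)
  let V : Subgroup ↥N := W.map (Subgroup.inclusion (inf_le_right : E.NH ≤ N))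
  have hV : Nat.card ↥V = 2 ^ (Nat.card ↥N).factorization 2 := by
    rw [Subgroup.card_map_of_injective (Subgroup.inclusion_injective _), hW, hf]
  let Vs : Sylow 2 ↥N := Sylow.ofCard V hV
  obtain ⟨T1, hT1⟩ := (IsPGroup.of_card (p := 2) (n := 1)
    (by rw [Nat.card_zpowers, Subgroup.orderOf_mk, hto, pow_one]) :
      IsPGroup 2 ↥(Subgroup.zpowers (⟨t, htN⟩ : ↥N))).exists_le_sylow
  obtain ⟨g, hg⟩ := MulAction.exists_smul_eq ↥N T1 Vs
  have hmem : g * ⟨t, htN⟩ * g⁻¹ ∈ V :=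
    (congrArg (fun W : Sylow 2 ↥N => (W : Subgroup ↥N)) hg).le ⟨_, hT1 (Subgroup.mem_zpowers _), rfl⟩
  obtain ⟨w, -, hw⟩ := hmem
  have hw' : (w : G) = (g : G) * t * (g : G)⁻¹ := by simpa using congrArg Subtype.val hw
  have h2 : (w : G) * w = 1 := by
    rw [hw', show (g : G) * t * (g : G)⁻¹ * ((g : G) * t * (g : G)⁻¹) = (g : G) * (t * t) * (g : G)⁻¹ by group, T.tt]
    group
  refine ⟨w, w.2, h2, E.inverts_of_invol w.2.2 h2 fun hc => T.t_not_z ((D.C_invol_conj hc h2 fun e => T.t_ne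
    (conj_eq_one_iff.1 (hw'.symm.trans e))).trans (isConj_iff.2 ⟨(g : G), hw'.symm⟩).symm)⟩

include Fr in
/-- The subgroup isomorphic to `GL(2, 3)`. -/
theorem exists_GL23 (hG : ¬ IsMulCommutative G) (hcard : Nat.card G = 86775571046077562880) (D : ElevenG E) :
    ∃ J : Subgroup G, J ≤ Subgroup.normalizer (D.K : Set G) ∧ Nonempty (↥J ≃* GL (Fin 2) (ZMod 3)) := by
  classical
  haveI : Fact (Nat.Prime 3) := ⟨Nat.prime_three⟩
  obtain ⟨s, hs, h2, hsx⟩ := Fr.exists_inverting hG hcard D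
  have hsi : s⁻¹ = s := inv_eq_of_mul_eq_one_right h2
  have hsz : s * z = z * s := Subgroup.mem_centralizer_singleton_iff.1 hs.1
  have hsQ : ∀ q ∈ E.Q, s * q * s⁻¹ ∈ E.Q := fun q hq => by
    refine E.mem_Q.2 ⟨S.ext.norm s hsz q (E.mem_Q.1 hq).1, ?_⟩
    have h1 : s⁻¹ * E.x * s = E.x⁻¹ := by
      conv_lhs => rw [show s⁻¹ * E.x * s = s⁻¹ * E.x * s⁻¹⁻¹ by rw [inv_inv], hsi]
      exact hsx
    calc s * q * s⁻¹ * E.x = s * (q * (s⁻¹ * E.x * s)) * s⁻¹ := by group
      _ = s * ((s⁻¹ * E.x * s) * q) * s⁻¹ := by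
        rw [h1, ((show Commute q E.x from (E.mem_Q.1 hq).2).inv_right).eq]
      _ = _ := by group
  -- adjust
  have hpo : orderOf S.p = 3 := orderOf_eq_prime (by rw [pow_three']; exact S.p_pow) S.p_ne
  have hpC : S.p ∈ E.CH := Subgroup.mem_inf.2
    ⟨Subgroup.mem_centralizer_singleton_iff.2 S.pz, Subgroup.mem_centralizer_singleton_iff.2 E.x_p.symm⟩
  have hpC' : s * S.p * s⁻¹ ∈ E.CH := Subgroup.mem_inf.2
    ⟨mul_mem (mul_mem hs.1 hpC.1) (inv_mem hs.1), Subgroup.mem_centralizer_singleton_iff.2 (by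
      have h1 : s⁻¹ * E.x * s = E.x⁻¹ := by
        conv_lhs => rw [show s⁻¹ * E.x * s = s⁻¹ * E.x * s⁻¹⁻¹ by rw [inv_inv], hsi]
        exact hsx
      calc s * S.p * s⁻¹ * E.x = s * (S.p * (s⁻¹ * E.x * s)) * s⁻¹ := by group
        _ = s * ((s⁻¹ * E.x * s) * S.p) * s⁻¹ := by
          rw [h1, ((show Commute S.p E.x from E.x_p.symm).inv_right).eq]
        _ = _ := by group)⟩
  have hf : (Nat.card ↥E.CH).factorization 3 = 1 := by
    rw [E.card_CH, show 264 = 3 * 88 by norm_num, Nat.factorization_mul (by norm_num) (by norm_num), Finsupp.add_apply,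
      Nat.prime_three.factorization_self, Nat.factorization_eq_zero_of_not_dvd (by norm_num)]
  let Sp : Sylow 3 ↥E.CH := Sylow.ofCard (Subgroup.zpowers ⟨S.p, hpC⟩)
    (by rw [Nat.card_zpowers, Subgroup.orderOf_mk, hpo, hf, pow_one])
  let Ss : Sylow 3 ↥E.CH := Sylow.ofCard (Subgroup.zpowers ⟨s * S.p * s⁻¹, hpC'⟩)
    (by rw [Nat.card_zpowers, Subgroup.orderOf_mk, (show orderOf (s * S.p * s⁻¹) = orderOf S.p from
      (MulAut.conj s).orderOf_eq S.p), hpo, hf, pow_one])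
  obtain ⟨g, hg⟩ := MulAction.exists_smul_eq ↥E.CH Ss Sp
  obtain ⟨i, hi⟩ := (isOfFinOrder_of_finite (⟨S.p, hpC⟩ : ↥E.CH)).mem_powers_iff_mem_zpowers.2
    ((congrArg (fun W : Sylow 3 ↥E.CH => (W : Subgroup ↥E.CH)) hg).le ⟨_, Subgroup.mem_zpowers _, rfl⟩)
  have hi' : S.p ^ i = (g : G) * (s * S.p * s⁻¹) * (g : G)⁻¹ := by simpa using congrArg Subtype.val hi
  obtain ⟨⟨m, j, l⟩, e⟩ := E.el_bijective.surjective g
  have e' : (g : G) = (m : G) * S.p ^ j.val * E.x ^ l.val := (congrArg Subtype.val e).symm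
  obtain ⟨q, hq⟩ : ∃ q, q = (S.p ^ j.val)⁻¹ * m * S.p ^ j.val := ⟨_, rfl⟩
  have hqQ : q ∈ E.Q := by
    have := E.Q_norm (c := (S.p ^ j.val)⁻¹) ((show Commute S.p z from S.pz).pow_left j.val).inv_left.eq
      ((show Commute S.p E.x from E.x_p.symm).pow_left j.val).inv_left.eq m.2
    rwa [inv_inv, ← hq] at this
  have hqx : q * E.x = E.x * q := (E.mem_Q.1 hqQ).2
  have hkey : q⁻¹ * S.p ^ i * q = s * S.p * s⁻¹ := by
    have hc : Commute (q⁻¹ * S.p ^ i * q) (E.x ^ l.val) :=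
      (((show Commute q E.x from hqx).inv_left.mul_left ((show Commute S.p E.x from E.x_p.symm).pow_left i)).mul_left
        (show Commute q E.x from hqx)).pow_right _
    have hgq : (g : G) = S.p ^ j.val * q * E.x ^ l.val := by rw [e', hq]; group
    have hgm : (g : G)⁻¹ * S.p ^ i * g = s * S.p * s⁻¹ := by rw [hi']; group
    rw [← hgm, hgq]
    calc q⁻¹ * S.p ^ i * q = (E.x ^ l.val)⁻¹ * ((q⁻¹ * S.p ^ i * q) * E.x ^ l.val) := by
          rw [hc.eq, inv_mul_cancel_left]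
      _ = _ := by group
  obtain ⟨n, hn⟩ : ∃ n, n = q * s := ⟨_, rfl⟩
  have hnz : n * z = z * n := hn ▸ ((show Commute q z from E.Q_z hqQ).mul_left (show Commute s z from hsz)).eq
  have hnx : n * E.x * n⁻¹ = E.x⁻¹ := by
    calc n * E.x * n⁻¹ = q * (s * E.x * s⁻¹) * q⁻¹ := by rw [hn]; group
      _ = E.x⁻¹ := by rw [hsx, ((show Commute q E.x from hqx).inv_right).eq, mul_inv_cancel_right]
  have hnp : n * S.p * n⁻¹ = S.p ^ i := by
    calc n * S.p * n⁻¹ = q * (s * S.p * s⁻¹) * q⁻¹ := by rw [hn]; group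
      _ = _ := by rw [← hkey]; group
  have hp3 : S.p ^ 3 = 1 := by rw [pow_three']; exact S.p_pow
  have hnp' : n * S.p * n⁻¹ = S.p⁻¹ := by
    rw [hnp, pow_eq_pow_mod i hp3]
    have hlt : i % 3 < 3 := Nat.mod_lt _ (by norm_num)
    rcases (show i % 3 = 0 ∨ i % 3 = 1 ∨ i % 3 = 2 by omega) with e1 | e1 | e1 <;> rw [e1]
    · exfalso
      rw [pow_eq_pow_mod i hp3, e1, pow_zero] at hnp
      exact S.p_ne (conj_eq_one_iff.1 hnp)
    · exfalso
      rw [pow_eq_pow_mod i hp3, e1, pow_one] at hnp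
      exact E.no_inv (S.mem_iff.2 ⟨hnz, mul_inv_eq_iff_eq_mul.1 hnp⟩) hnx
    · exact eq_inv_of_mul_eq_one_left (by rw [← pow_succ]; exact hp3)
  have hnQ : ∀ v ∈ E.Q, n * v * n⁻¹ ∈ E.Q := fun v hv => by
    rw [hn, show q * s * v * (q * s)⁻¹ = q * (s * v * s⁻¹) * q⁻¹ by group]
    exact mul_mem (mul_mem hqQ (hsQ v hv)) (inv_mem hqQ)
  have hnn : n * n ∈ E.Q := by
    rw [hn, show q * s * (q * s) = q * (s * q * s⁻¹) * (s * s) by group, h2, mul_one]
    exact mul_mem hqQ (hsQ q hqQ)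
  have hnn' : n * n = 1 ∨ n * n = z := by
    refine S.fix _ (E.mem_Q.1 hnn).1 ?_
    have e1 : n * n * S.p * (n * n)⁻¹ = S.p := by
      rw [show n * n * S.p * (n * n)⁻¹ = n * (n * S.p * n⁻¹) * n⁻¹ by group, hnp', ← conj_inv, hnp', inv_inv]
    exact (mul_inv_eq_iff_eq_mul.1 e1).symm
  -- the generators
  have hqd := E.qdata
  obtain ⟨q0, hq0, hq01, hq0z⟩ : ∃ q0 ∈ E.Q, q0 ≠ 1 ∧ q0 ≠ z := by
    by_contra hcon
    push Not at hcon
    have hle : Nat.card ↥E.Q ≤ 2 := by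
      refine le_trans (Nat.card_le_card_of_injective (fun q : ↥E.Q => decide ((q : G) = 1))
        fun a b hab => ?_) (by simp)
      have := decide_eq_decide.1 hab
      by_cases h : (a : G) = 1
      · exact Subtype.ext (h.trans (this.1 h).symm)
      · exact Subtype.ext ((hcon a a.2 h).trans (hcon b b.2 (fun hb => h (this.2 hb))).symm)
    rw [E.card_Q] at hle
    omega
  obtain ⟨u, v, hu, F⟩ := hqd.exists_flip hnQ hnz hnp' ⟨hq0, hq01, hq0z⟩
  have h1 := hqd.ev_eq_one hu F.toRel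
  have hv : Eleven.QData.NT E.Q z v := F.ai ▸ hqd.conj_nt hu
  have hn2 : n * n = 1 := hnn'.resolve_right fun e1 => by
    obtain ⟨x0, hx0⟩ := hqd.qev_bijective hu hv (F.ai ▸ (hqd.turn hu).1) (F.ai ▸ (hqd.turn hu).2) _ (inv_mem hqQ)
    refine F.outer_sq_ne h1 (by rw [e1, pow_two, hqd.sq_z hu]) (x0.1, x0.2, 0) ?_
    have e2 : ev u v S.p (x0.1, x0.2, 0) * n = s := by
      have e3 : ev u v S.p (x0.1, x0.2, 0) = qev u v x0 := by simp [ev, qev]
      rw [e3, hx0, hn, inv_mul_cancel_left]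
    rw [e2, h2]
  have hcx : ∀ w, ev u v S.p w * E.x = E.x * ev u v S.p w := fun w =>
    ((((show Commute u E.x from (E.mem_Q.1 hu.1).2).pow_left _).mul_left
      ((show Commute v E.x from (E.mem_Q.1 hv.1).2).pow_left _)).mul_left
      ((show Commute S.p E.x from E.x_p.symm).pow_left _)).eq
  have hnot : ∀ w w', ev u v S.p w * n ≠ ev u v S.p w' := fun w w' e1 => by
    have hnc : n * E.x = E.x * n := by
      rw [show n = (ev u v S.p w)⁻¹ * ev u v S.p w' by rw [← e1, inv_mul_cancel_left]]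
      exact ((show Commute (ev u v S.p w) E.x from hcx w).inv_left.mul_left (show Commute _ E.x from hcx w')).eq
    have h22 : E.x ^ 2 = 1 := by
      rw [hnc, mul_inv_cancel_right] at hnx
      rw [pow_two]; exact mul_eq_one_iff_eq_inv.2 hnx
    have := pow_gcd_eq_one.2 ⟨h22, E.x_pow⟩
    rw [show Nat.gcd 2 11 = 1 by norm_num, pow_one] at this
    exact E.x_ne this
  have hinj : Function.Injective (Eleven.GL23.ev2 u v S.p n) := by
    rintro ⟨w, a⟩ ⟨w', a'⟩ e1
    change ev u v S.p w * n ^ a.val = ev u v S.p w' * n ^ a'.val at e1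
    fin_cases a <;> fin_cases a' <;> simp only [pow_zero, pow_one, mul_one] at e1
    · rw [F.toRel.injective h1 e1]
    · exact absurd e1.symm (hnot _ _)
    · exact absurd e1 (hnot _ _)
    · rw [F.toRel.injective h1 (mul_right_cancel e1)]
  have hone : Eleven.GL23.ev2 u v S.p n ((0, 0, 0), 0) = 1 := by simp [Eleven.GL23.ev2, ev]
  let J : Subgroup G :=
    { carrier := Set.range (Eleven.GL23.ev2 u v S.p n)
      one_mem' := ⟨_, hone⟩
      mul_mem' := by rintro _ _ ⟨a, rfl⟩ ⟨b, rfl⟩; exact ⟨_, (F.ev2_mul hn2 a b).symm⟩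
      inv_mem' := by
        rintro _ ⟨a, rfl⟩
        obtain ⟨b, hb⟩ := Eleven.GL23.wmul2_surj a
        exact ⟨b, eq_inv_of_mul_eq_one_right (by rw [F.ev2_mul hn2, hb, hone])⟩ }
  refine ⟨J, le_trans ?_ D.normalizer_X_le, Eleven.GL23.nonempty_equiv F hn2 hinj J fun w => Iff.rfl⟩
  rintro _ ⟨⟨w, a⟩, rfl⟩
  refine mul_mem ?_ (pow_mem ?_ _)
  · refine E.mem_normalizer_X ?_
    rw [hcx w, mul_inv_cancel_right]
    exact Subgroup.mem_zpowers _
  · refine E.mem_normalizer_X ?_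
    rw [hnx]
    exact inv_mem (Subgroup.mem_zpowers _)

end Frame

end Cfsg.Agent.Spor.JFour
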