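import Cfsg.Agent.Lib.Transfer.SL23Recognition

/-!
A presentation of `GL(2, 3)` as the group `SL(2, 3)` extended by an involution, and the squares of the outer elements
of the other extension.
-/

set_option autoImplicit false
set_option maxRecDepth 100000

namespace Cfsg.Agent.Spor.JFour.Eleven.GL23

open Cfsg.Agent.Transfer.SL23

/-- The image of a quaternion normal form under the outer element. -/
def qflip (x : Fin 4 × Fin 2) : Fin 4 × Fin 2 :=
  qmul (-x.1, 0) (if x.2 = 0 then (0, 0) else qmul (1, 1) (2, 0))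

/-- The image of a normal form under the outer element. -/
def flip (x : Word) : Word := ((qflip (x.1, x.2.1)).1, (qflip (x.1, x.2.1)).2, -x.2.2)

variable {Y : Type*} [Group Y] {i j a n : Y}

/-- The relations of the outer element. -/
structure Flip (i j a n : Y) : Prop extends Rel i j a where
  na : n * a * n⁻¹ = a⁻¹
  ni : n * i * n⁻¹ = i⁻¹

theorem Flip.nj (h : Flip i j a n) : n * j * n⁻¹ = (i * j)⁻¹ := by
  have e : a * (i * j) * a⁻¹ = i := by
    calc a * (i * j) * a⁻¹ = (a * i * a⁻¹) * (a * j * a⁻¹) := by group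
      _ = j * i * j := by rw [h.ai, h.aj, mul_assoc]
      _ = i := by rw [h.ji, mul_assoc, h.jj, inv_mul_cancel_left]
  calc n * j * n⁻¹ = n * (a * i * a⁻¹) * n⁻¹ := by rw [h.ai]
    _ = (n * a * n⁻¹) * (n * i * n⁻¹) * (n * a * n⁻¹)⁻¹ := by group
    _ = a⁻¹ * i⁻¹ * a⁻¹⁻¹ := by rw [h.na, h.ni]
    _ = a⁻¹ * (a * (i * j) * a⁻¹)⁻¹ * a := by rw [e, inv_inv]
    _ = (i * j)⁻¹ := by group

theorem Flip.qflip_eq (h : Flip i j a n) (x : Fin 4 × Fin 2) : n * qev i j x * n⁻¹ = qev i j (qflip x) := by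
  obtain ⟨s, t⟩ := x
  have hneg : ∀ s : Fin 4, (i⁻¹) ^ s.val = i ^ (-s).val := fun s => by
    rw [inv_pow, inv_eq_iff_mul_eq_one, ← h.pow_add4, add_neg_cancel]; simp
  have hij : (i * j)⁻¹ = qev i j (qmul (1, 1) (2, 0)) := by
    rw [← h.qev_mul]
    refine inv_eq_of_mul_eq_one_right ?_
    show i * j * (i ^ 1 * j ^ 1 * (i ^ 2 * j ^ 0)) = 1
    rw [pow_one, pow_one, pow_zero, mul_one]
    calc i * j * (i * j * i ^ 2) = i * (j * i) * j * i ^ 2 := by group
      _ = (j * j) * i ^ 2 := by rw [h.ji]; group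
      _ = i ^ 4 := by rw [h.jj, ← pow_two, ← pow_add]
      _ = 1 := h.i4
  rw [qflip, ← h.qev_mul]
  show n * (i ^ s.val * j ^ t.val) * n⁻¹ = _
  rw [show n * (i ^ s.val * j ^ t.val) * n⁻¹ = (n * i ^ s.val * n⁻¹) * (n * j ^ t.val * n⁻¹) by group,
    ← conj_pow, ← conj_pow, h.ni, h.nj, hneg]
  congr 1
  · simp [qev]
  · fin_cases t
    · simp [qev]
    · simpa using hij

theorem Flip.flip_eq (h : Flip i j a n) (x : Word) : n * ev i j a x * n⁻¹ = ev i j a (flip x) := by
  obtain ⟨s, t, u⟩ := x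
  show n * (qev i j (s, t) * a ^ u.val) * n⁻¹ = qev i j (qflip (s, t)) * a ^ (-u).val
  rw [← h.qflip_eq, show n * (qev i j (s, t) * a ^ u.val) * n⁻¹ = (n * qev i j (s, t) * n⁻¹) * (n * a ^ u.val * n⁻¹)
    by group, ← conj_pow, h.na]
  congr 1
  rw [inv_pow, inv_eq_iff_mul_eq_one, ← pow_add, pow_eq_pow_mod _ h.a3, ← Fin.val_add, add_neg_cancel]
  simp

theorem sq_check : ∀ x : Word, wmul x (flip x) ≠ (2, 0, 0) := by decide +kernel

/-- If the outer element squares to the central involution then no outer element is an involution. -/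
theorem Flip.outer_sq_ne (h : Flip i j a n) (h1 : ∀ x : Word, ev i j a x = 1 → x = (0, 0, 0))
    (hn : n * n = i ^ 2) (x : Word) : ev i j a x * n * (ev i j a x * n) ≠ 1 := fun e => by
  refine sq_check x (h.injective h1 ?_)
  have e2 : ev i j a (wmul x (flip x)) * i ^ 2 = 1 := by
    rw [← h.ev_mul, ← h.flip_eq, ← hn, ← e]
    group
  have e3 : ev i j a (2, 0, 0) = i ^ 2 := by
    show i ^ 2 * j ^ 0 * a ^ 0 = i ^ 2
    rw [pow_zero, pow_zero, mul_one, mul_one]
  rw [e3, eq_inv_of_mul_eq_one_left e2]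
  exact inv_eq_of_mul_eq_one_right (by rw [← pow_add]; exact h.i4)

/-- Normal forms with the outer element. -/
def ev2 (i j a n : Y) (w : Word × Fin 2) : Y := ev i j a w.1 * n ^ w.2.val

/-- Their product. -/
def wmul2 (v w : Word × Fin 2) : Word × Fin 2 := (wmul v.1 (if v.2 = 0 then w.1 else flip w.1), v.2 + w.2)

theorem Flip.ev2_mul (h : Flip i j a n) (hn : n * n = 1) (v w : Word × Fin 2) :
    ev2 i j a n v * ev2 i j a n w = ev2 i j a n (wmul2 v w) := by
  obtain ⟨x, e⟩ := v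
  obtain ⟨y, f⟩ := w
  have hn' : n⁻¹ = n := inv_eq_of_mul_eq_one_right hn
  fin_cases e <;> fin_cases f <;>
    simp [ev2, wmul2, ← h.ev_mul, ← h.flip_eq, mul_assoc, hn, hn']

local notation "GL23" => GL (Fin 2) (ZMod 3)

/-- The first generator. -/
def mI : GL23 := ⟨!![0, 2; 1, 0], !![0, 1; 2, 0], by decide, by decide⟩

/-- The second generator. -/
def mJ : GL23 := ⟨!![1, 1; 1, 2], !![2, 2; 2, 1], by decide, by decide⟩

/-- The element of order three. -/
def mA : GL23 := ⟨!![1, 1; 0, 1], !![1, 2; 0, 1], by decide, by decide⟩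

/-- The outer involution. -/
def mN : GL23 := ⟨!![1, 0; 0, 2], !![1, 0; 0, 2], by decide, by decide⟩

theorem rel_GL : Flip mI mJ mA mN ∧ mN * mN = 1 :=
  ⟨⟨⟨by decide +kernel, by decide +kernel, by decide +kernel, by decide +kernel, by decide +kernel, by decide +kernel⟩,
    by decide +kernel, by decide +kernel⟩, by decide +kernel⟩

theorem bijective_GL : Function.Bijective (ev2 mI mJ mA mN) := by
  refine (Fintype.bijective_iff_injective_and_card _).2 ⟨?_, ?_⟩ <;> decide +kernel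

/-- A group with these relations and normal forms is `GL(2, 3)`. -/
theorem nonempty_equiv (h : Flip i j a n) (hn : n * n = 1) (hinj : Function.Injective (ev2 i j a n))
    (J : Subgroup Y) (hJ : ∀ g, g ∈ J ↔ ∃ w, ev2 i j a n w = g) : Nonempty (↥J ≃* GL23) := by
  let e₁ : Word × Fin 2 ≃ ↥J := Equiv.ofBijective (fun w => ⟨ev2 i j a n w, (hJ _).2 ⟨w, rfl⟩⟩)
    ⟨fun v w e => hinj (congrArg Subtype.val e), fun g => by
      obtain ⟨w, hw⟩ := (hJ _).1 g.2; exact ⟨w, Subtype.ext hw⟩⟩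
  let e₂ := Equiv.ofBijective (ev2 mI mJ mA mN) bijective_GL
  refine ⟨{ e₁.symm.trans e₂ with map_mul' := fun x y => ?_ }⟩
  show e₂ (e₁.symm (x * y)) = e₂ (e₁.symm x) * e₂ (e₁.symm y)
  have he : e₁.symm (x * y) = wmul2 (e₁.symm x) (e₁.symm y) := by
    rw [Equiv.symm_apply_eq]
    refine Subtype.ext ?_
    show (x : Y) * y = ev2 i j a n _
    rw [← h.ev2_mul hn]
    exact congrArg₂ (fun u v : ↥J => (u : Y) * v) (e₁.apply_symm_apply x).symm (e₁.apply_symm_apply y).symm
  rw [he]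
  exact (rel_GL.1.ev2_mul rel_GL.2 _ _).symm

end Cfsg.Agent.Spor.JFour.Eleven.GL23
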