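import Mathlib

/-!
Counting lemmas for conjugation actions: fixed points of an element of prime order, free actions, and the index of
the centraliser in the normaliser of a cyclic subgroup of prime order.
-/

set_option autoImplicit false
set_option linter.style.haveILetI false

namespace Cfsg.Agent.Spor.JFour.Eleven

variable {G : Type*} [Group G] [Finite G]

/-- An element of prime order normalising a subgroup: the order is the number of fixed elements modulo the prime. -/
theorem card_fixed_modEq {p : ℕ} [hp : Fact p.Prime] {x : G} (hx : x ^ p = 1) {S : Subgroup G}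
    (hn : ∀ s ∈ S, x * s * x⁻¹ ∈ S) :
    Nat.card ↥S ≡ Nat.card ↥(S ⊓ Subgroup.centralizer ({x} : Set G)) [MOD p] := by
  classical
  let f : Function.End ↥S := fun s => ⟨x * s * x⁻¹, hn _ s.2⟩
  have hit : ∀ (n : ℕ) (s : ↥S), (((f ^ n : Function.End ↥S) s : ↥S) : G) = x ^ n * s * (x ^ n)⁻¹ := by
    intro n
    induction n with
    | zero => intro s; simp; rfl
    | succ n ih =>
      intro s
      rw [pow_succ']
      show x * (((f ^ n : Function.End ↥S) s : ↥S) : G) * x⁻¹ = _
      rw [ih]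
      group
  have hf : f ^ p ^ 1 = 1 := funext fun s => Subtype.ext (by
    rw [pow_one, hit, hx]; simp; rfl)
  haveI := Fintype.ofFinite ↥S
  have h := Equiv.Perm.card_fixedPoints_modEq hf
  rw [← Nat.card_eq_fintype_card, ← Nat.card_eq_fintype_card] at h
  refine h.trans ?_
  suffices e : Nat.card (Function.fixedPoints f) = Nat.card ↥(S ⊓ Subgroup.centralizer ({x} : Set G)) by rw [e]
  refine Nat.card_congr
    { toFun := fun s => ⟨(s.1 : G), s.1.2, Subgroup.mem_centralizer_singleton_iff.2 ?_⟩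
      invFun := fun s => ⟨⟨s.1, s.2.1⟩, Subtype.ext ?_⟩
      left_inv := fun s => rfl
      right_inv := fun s => rfl }
  · have : x * (s.1 : G) * x⁻¹ = s.1 := congrArg (fun w : ↥S => (w : G)) s.2
    exact (mul_inv_eq_iff_eq_mul.1 this).symm
  · show x * (s : G) * x⁻¹ = s
    rw [← Subgroup.mem_centralizer_singleton_iff.1 s.2.2, mul_inv_cancel_right]

/-- A subgroup acting freely on a normalised subgroup outside a part it fixes. -/
theorem free_dvd {Q S : Subgroup G} {X : Subgroup G} (hXS : X ≤ S) (hn : ∀ q ∈ Q, ∀ s ∈ S, q * s * q⁻¹ ∈ S)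
    (hX : ∀ q ∈ Q, ∀ s ∈ X, q * s * q⁻¹ ∈ X) (hfree : ∀ q ∈ Q, q ≠ 1 → ∀ s ∈ S, q * s = s * q → s ∈ X) :
    ∃ k, Nat.card ↥S = Nat.card ↥X + Nat.card ↥Q * k := by
  classical
  let T : Type _ := {s : G // s ∈ S ∧ s ∉ X}
  have hmem : ∀ q ∈ Q, ∀ s : T, q * s.1 * q⁻¹ ∈ S ∧ q * s.1 * q⁻¹ ∉ X := fun q hq s =>
    ⟨hn q hq _ s.2.1, fun h => s.2.2 (by
      have := hX _ (inv_mem hq) _ h
      rwa [show q⁻¹ * (q * s.1 * q⁻¹) * q⁻¹⁻¹ = s.1 by group] at this)⟩
  letI : MulAction ↥Q T :=
    { smul := fun q s => ⟨(q : G) * s.1 * (q : G)⁻¹, hmem _ q.2 s⟩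
      one_smul := fun s => Subtype.ext (show ((1 : ↥Q) : G) * s.1 * ((1 : ↥Q) : G)⁻¹ = s.1 by simp)
      mul_smul := fun a b s => Subtype.ext (show ((a * b : ↥Q) : G) * s.1 * ((a * b : ↥Q) : G)⁻¹ =
        (a : G) * ((b : G) * s.1 * (b : G)⁻¹) * (a : G)⁻¹ by simp [mul_assoc]) }
  have hstab : ∀ s : T, MulAction.stabilizer ↥Q s = ⊥ := fun s => by
    rw [Subgroup.eq_bot_iff_forall]
    intro q hq
    by_contra hne
    have h : (q : G) * s.1 * (q : G)⁻¹ = s.1 := congrArg Subtype.val (MulAction.mem_stabilizer_iff.1 hq)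
    exact s.2.2 (hfree q q.2 (fun e => hne (Subtype.ext e)) _ s.2.1 (mul_inv_eq_iff_eq_mul.1 h))
  have hT : Nat.card T = Nat.card ↥Q * Nat.card (MulAction.orbitRel.Quotient ↥Q T) := by
    haveI : Finite T := Subtype.finite
    rw [mul_comm, ← Nat.card_prod]
    refine Nat.card_congr ((MulAction.selfEquivSigmaOrbitsQuotientStabilizer ↥Q T).trans ?_)
    refine (Equiv.sigmaCongrRight fun ω => ?_).trans (Equiv.sigmaEquivProd _ _)
    rw [hstab]
    exact (QuotientGroup.quotientBot (G := ↥Q)).toEquiv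
  refine ⟨Nat.card (MulAction.orbitRel.Quotient ↥Q T), ?_⟩
  haveI : Finite T := Subtype.finite
  rw [← hT, ← Nat.card_sum]
  exact Nat.card_congr
    { toFun := fun s => if h : (s : G) ∈ X then Sum.inl ⟨s, h⟩ else Sum.inr ⟨s, s.2, h⟩
      invFun := fun s : ↥X ⊕ T => Sum.elim (fun a : ↥X => (⟨a, hXS a.2⟩ : ↥S)) (fun a : T => ⟨a.1, a.2.1⟩) s
      left_inv := fun s => by by_cases h : (s : G) ∈ X <;> simp [h]
      right_inv := fun s => by
        rcases s with a | a
        · simp [a.2]
        · simp [a.2.2] }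

/-- The index of the centraliser in the normaliser of a subgroup of prime order divides one less than the prime. -/
theorem card_normalizer_cyclic {p : ℕ} [hp : Fact p.Prime] {x : G} (hx : orderOf x = p) :
    ∃ d, d ∣ p - 1 ∧ Nat.card ↥(Subgroup.normalizer (Subgroup.zpowers x : Set G)) =
      Nat.card ↥(Subgroup.centralizer ({x} : Set G)) * d := by
  classical
  set X := Subgroup.zpowers x with hX
  let φ := X.normalizerMonoidHom
  have hcX : Nat.card ↥X = p := by rw [Nat.card_zpowers, hx]
  haveI : IsCyclic ↥X := isCyclic_of_prime_card hcX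
  refine ⟨Nat.card ↥φ.range, ?_, ?_⟩
  · have h := Subgroup.card_subgroup_dvd_card φ.range
    rwa [IsCyclic.card_mulAut, hcX, Nat.totient_prime hp.out] at h
  · have h := Subgroup.card_eq_card_quotient_mul_card_subgroup φ.ker
    rw [Nat.card_congr (QuotientGroup.quotientKerEquivRange φ).toEquiv, mul_comm] at h
    rw [h]
    congr 1
    have hC : Subgroup.centralizer (X : Set G) = Subgroup.centralizer ({x} : Set G) := by
      rw [hX, Subgroup.zpowers_eq_closure, Subgroup.centralizer_closure]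
    rw [← hC]
    have hk : φ.ker = (Subgroup.centralizer (X : Set G)).subgroupOf (Subgroup.normalizer (X : Set G)) :=
      Subgroup.normalizerMonoidHom_ker X
    rw [hk, Nat.card_congr (Subgroup.subgroupOfEquivOfLe (Subgroup.centralizer_le_normalizer _)).toEquiv]

/-- Sylow congruence for the normaliser of a subgroup of prime order with cofactor prime to it. -/
theorem sylow_congr {p : ℕ} [hp : Fact p.Prime] {x : G} (hx : orderOf x = p) {m : ℕ}
    (hcard : Nat.card G = p * m) (hm : ¬ p ∣ m) :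
    ∃ n, Nat.card G = Nat.card ↥(Subgroup.normalizer (Subgroup.zpowers x : Set G)) * n ∧ n % p = 1 := by
  have hm0 : m ≠ 0 := fun e => hm (e ▸ dvd_zero p)
  have hfac : (Nat.card G).factorization p = 1 := by
    rw [hcard, Nat.factorization_mul hp.out.ne_zero hm0, Finsupp.add_apply, hp.out.factorization_self,
      Nat.factorization_eq_zero_of_not_dvd hm]
  let S : Sylow p G := Sylow.ofCard (Subgroup.zpowers x) (by rw [Nat.card_zpowers, hx, hfac, pow_one])
  refine ⟨Nat.card (Sylow p G), ?_, ?_⟩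
  · rw [S.card_eq_index_normalizer]
    exact (Subgroup.card_mul_index _).symm
  · have h := card_sylow_modEq_one p G
    rw [Nat.ModEq, Nat.one_mod_eq_one.2 hp.out.ne_one] at h
    exact h

/-- The same inside a subgroup. -/
theorem sylow_congr_in {p : ℕ} [hp : Fact p.Prime] {L : Subgroup G} {x : G} (hxL : x ∈ L) (hx : orderOf x = p) {m c : ℕ}
    (hcard : Nat.card ↥L = p * m) (hm : ¬ p ∣ m)
    (hc : Nat.card ↥(L ⊓ Subgroup.centralizer ({x} : Set G)) = c) :
    ∃ d n, d ∣ p - 1 ∧ Nat.card ↥(L ⊓ Subgroup.normalizer (Subgroup.zpowers x : Set G)) = c * d ∧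
      p * m = c * d * n ∧ n % p = 1 := by
  have hx' : orderOf (⟨x, hxL⟩ : ↥L) = p := by rw [Subgroup.orderOf_mk]; exact hx
  have eC : Nat.card ↥(Subgroup.centralizer ({(⟨x, hxL⟩ : ↥L)} : Set ↥L)) = c := by
    rw [← hc]
    exact Nat.card_congr
      { toFun := fun g => ⟨g.1, g.1.2, Subgroup.mem_centralizer_singleton_iff.2
          (congrArg Subtype.val (Subgroup.mem_centralizer_singleton_iff.1 g.2))⟩
        invFun := fun g => ⟨⟨g.1, g.2.1⟩, Subgroup.mem_centralizer_singleton_iff.2
          (Subtype.ext (Subgroup.mem_centralizer_singleton_iff.1 g.2.2))⟩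
        left_inv := fun g => rfl
        right_inv := fun g => rfl }
  have hz : ∀ g : ↥L, g ∈ Subgroup.zpowers (⟨x, hxL⟩ : ↥L) ↔ (g : G) ∈ Subgroup.zpowers x := fun g => by
    simp only [Subgroup.mem_zpowers_iff]
    exact exists_congr fun i => by rw [Subtype.ext_iff, SubgroupClass.coe_zpow]
  have eN : Nat.card ↥(Subgroup.normalizer (Subgroup.zpowers (⟨x, hxL⟩ : ↥L) : Set ↥L)) =
      Nat.card ↥(L ⊓ Subgroup.normalizer (Subgroup.zpowers x : Set G)) := by
    have h : Subgroup.normalizer (Subgroup.zpowers (⟨x, hxL⟩ : ↥L) : Set ↥L) =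
        (Subgroup.normalizer (Subgroup.zpowers x : Set G)).subgroupOf L := by
      ext g
      rw [Subgroup.mem_subgroupOf, Subgroup.mem_normalizer_iff, Subgroup.mem_normalizer_iff]
      constructor
      · intro h y
        by_cases hy : y ∈ L
        · have := h ⟨y, hy⟩
          rwa [hz, hz] at this
        · constructor
          · intro hy'; exact absurd (Subgroup.zpowers_le.2 hxL hy') hy
          · intro hy'
            refine absurd ?_ hy
            have := mul_mem (mul_mem (inv_mem g.2) (Subgroup.zpowers_le.2 hxL hy')) g.2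
            rwa [show (g : G)⁻¹ * ((g : G) * y * (g : G)⁻¹) * g = y by group] at this
      · intro h y
        rw [hz, hz]
        exact h y
    rw [h, inf_comm, ← Subgroup.inf_subgroupOf_right,
      Nat.card_congr (Subgroup.subgroupOfEquivOfLe inf_le_right).toEquiv]
  obtain ⟨d, hd, hN⟩ := card_normalizer_cyclic hx'
  obtain ⟨n, hn, hn1⟩ := sylow_congr hx' hcard hm
  rw [eC] at hN
  exact ⟨d, n, hd, eN ▸ hN, by rw [← hcard, hn, hN], hn1⟩

/-- A non-trivial element of a subgroup of prime order generates it. -/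
theorem zpowers_eq {p : ℕ} [hp : Fact p.Prime] {x y : G} (hx : orderOf x = p) (hy : y ∈ Subgroup.zpowers x)
    (hy1 : y ≠ 1) : Subgroup.zpowers y = Subgroup.zpowers x := by
  refine Subgroup.eq_of_le_of_card_ge (Subgroup.zpowers_le.2 hy) ?_
  have h : orderOf y ∣ p := by
    have := Subgroup.orderOf_dvd_natCard _ hy
    rwa [Nat.card_zpowers, hx] at this
  rw [Nat.card_zpowers, Nat.card_zpowers, hx]
  rcases (Nat.dvd_prime hp.out).1 h with e | e
  · exact absurd (orderOf_eq_one_iff.1 e) hy1
  · rw [e]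

end Cfsg.Agent.Spor.JFour.Eleven
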