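import Cfsg.Agent.Lib.Spor.JFourType.FiveRigid
import Cfsg.Agent.Lib.Spor.JFourType.Perms

/-!
Elements of order eleven in the Mathieu group of degree 24 are self-centralising, and subgroups of order 1024 of this
group have not exponent two.
-/

set_option autoImplicit false
set_option maxRecDepth 100000
set_option Elab.async false
set_option linter.style.haveILetI false

namespace Cfsg.Agent.Spor.JFour.Eleven

open Cfsg Cfsg.Agent.Spor.Golay Cfsg.Agent.Spor.JFour.Seven Cfsg.Agent.Spor.JFour.Five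
open scoped Pointwise

/-- The orbit of a position. -/
def orb11 (P x : ℕ) : List ℕ := (List.range 11).map fun i => it P i x

/-- The element of order eleven. -/
def s11P : ℕ := 962288400431251374433104520298368608

/-- The test octad. -/
def s11Oct : ℕ := 13811730

theorem s11_checks : wordP [8, 3, 0] = s11P ∧
    comp s11P (comp s11P (comp s11P (comp s11P (comp s11P (comp s11P (comp s11P (comp s11P (comp s11P
      (comp s11P s11P))))))))) = idP ∧
    get s11P 0 = 0 ∧ get s11P 23 = 23 ∧ get s11P 1 = 19 ∧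
    ((List.range 24).all fun y => !(get s11P y == y) || [0, 23].contains y) = true ∧
    octList.contains s11Oct = true ∧ trivOk [] ([0, 23] ++ orb11 s11P 1) = true := by
  decide +kernel

theorem s11_rigid_check : ((List.range 24).all fun y => (get s11P y == y) ||
    (((orb11 s11P 1).contains y || neg ([0, 23] ++ orb11 s11P 1) ([0, 23] ++ orb11 s11P y) s11Oct) &&
      neg ([0, 23] ++ orb11 s11P 1) ([23, 0] ++ orb11 s11P y) s11Oct)) = true := by
  decide +kernel

theorem s11_valid : valid s11P = true := s11_checks.1 ▸ wordP_valid _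

theorem s11_mem22 : permOf s11P ∈ Cfsg.Spor.M22 := by
  rw [← s11_checks.1, ← wordπ_eq]
  refine list_prod_mem fun a ha => ?_
  obtain ⟨k, hk, rfl⟩ := List.mem_map.1 ha
  exact pk_mem ((by decide : ∀ k ∈ ([8, 3, 0] : List ℕ), k < 9) k hk)

theorem s11_mem : permOf s11P ∈ Cfsg.M24 := s11_mem22.1.1

theorem s11_pow : permOf s11P ^ 11 = 1 := by
  have hx := s11_valid
  have h : ∀ {P : ℕ}, valid P = true → permOf (comp s11P P) = permOf s11P * permOf P := fun hP => permOf_comp hx hP
  have v := fun {P : ℕ} (hP : valid P = true) => valid_comp hx hP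
  rw [← permOf_idP, ← s11_checks.2.1, h (v (v (v (v (v (v (v (v (v hx))))))))),
    h (v (v (v (v (v (v (v (v hx)))))))), h (v (v (v (v (v (v (v hx))))))), h (v (v (v (v (v (v hx)))))),
    h (v (v (v (v (v hx))))), h (v (v (v (v hx)))), h (v (v (v hx))), h (v (v hx)), h (v hx), h hx]
  simp only [pow_succ', pow_zero, mul_one]

theorem s11_ne : permOf s11P ≠ 1 := fun h => by
  have h1 := idx_permOf s11_valid (pt 1)
  rw [h, Equiv.Perm.one_apply, idx_pt (by norm_num), s11_checks.2.2.2.2.1] at h1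
  omega

/-- The rigidity. -/
theorem s11_centralizer {g : Equiv.Perm GolayPt} (hg : g ∈ Cfsg.M24) (hint : g * permOf s11P = permOf s11P * g) :
    ∃ k : ℕ, g = permOf s11P ^ k := by
  obtain ⟨-, -, hP0, hP23, hP1, hfix, hm, ht⟩ := s11_checks
  have hP := s11_valid
  simp only [List.all_eq_true, List.mem_range, Bool.or_eq_true, Bool.not_eq_true', beq_eq_false_iff_ne,
    List.contains_iff_mem, List.mem_cons, List.not_mem_nil, or_false] at hfix hm
  have hall := s11_rigid_check
  simp only [List.all_eq_true, List.mem_range, Bool.or_eq_true, Bool.and_eq_true, beq_iff_eq,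
    List.contains_iff_mem] at hall
  have hfp : ∀ r < 24, get s11P r = r → g (pt r) = pt 0 ∨ g (pt r) = pt 23 := by
    intro r hr hPr
    have h1 : permOf s11P (g (pt r)) = g (pt r) := by
      rw [← Equiv.Perm.mul_apply, ← hint, Equiv.Perm.mul_apply, permOf_pt hP hr, hPr]
    have h2 := congrArg idx h1
    rw [idx_permOf hP] at h2
    rcases hfix _ (idx_lt (g (pt r))) with e | e | e
    · exact absurd h2 e
    · exact Or.inl (by rw [← e, pt_idx])
    · exact Or.inr (by rw [← e, pt_idx])
  have hne : g (pt 0) ≠ g (pt 23) := fun e => absurd (congrArg idx (g.injective e))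
    (by rw [idx_pt (by norm_num), idx_pt (by norm_num)]; norm_num)
  set y := idx (g (pt 1)) with hy
  have hgx : ∀ i, g (pt (it s11P i 1)) = pt (it s11P i y) := intertwine_pt hP hP hint (by norm_num)
  have hknown : ∀ a' b', g (pt 0) = pt a' → g (pt 23) = pt b' → a' < 24 → b' < 24 →
      ∀ e ∈ ([0, 23] ++ orb11 s11P 1).zip ([a', b'] ++ orb11 s11P y), g (pt e.1) = pt e.2 ∧ e.1 < 24 ∧ e.2 < 24 := by
    intro a' b' ea eb la lb e he
    simp only [orb11, List.cons_append, List.nil_append, List.zip_cons_cons, List.mem_cons, List.zip_map',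
      List.mem_map, List.mem_range] at he
    rcases he with rfl | rfl | ⟨i, -, rfl⟩
    exacts [⟨ea, by norm_num, la⟩, ⟨eb, by norm_num, lb⟩,
      ⟨hgx i, it_lt hP (by norm_num) i, it_lt hP (idx_lt _) i⟩]
  rcases hall y (idx_lt _) with e | ⟨e1, e2⟩
  · exfalso
    have h1 : g (permOf s11P (pt 1)) = g (pt 1) := by
      rw [← Equiv.Perm.mul_apply, hint, Equiv.Perm.mul_apply]
      refine idx_injective ?_
      rw [idx_permOf hP, ← hy, e]
    have := congrArg idx (g.injective h1)
    rw [idx_permOf hP, idx_pt (by norm_num), hP1] at this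
    omega
  rcases hfp 0 (by norm_num) hP0 with ea | ea
  swap
  · rcases hfp 23 (by norm_num) hP23 with eb | eb
    · exact (neg_sound e2 hm hg (hknown 23 0 ea eb (by norm_num) (by norm_num))).elim
    · exact absurd (ea.trans eb.symm) hne
  rcases hfp 23 (by norm_num) hP23 with eb | eb
  · exact absurd (ea.trans eb.symm) hne
  rcases e1 with hmem | e1
  swap
  · exact (neg_sound e1 hm hg (hknown 0 23 ea eb (by norm_num) (by norm_num))).elim
  simp only [orb11, List.mem_map, List.mem_range] at hmem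
  obtain ⟨k, -, hk⟩ := hmem
  refine ⟨k, ?_⟩
  have h1 : (permOf s11P ^ k)⁻¹ * g = 1 := by
    refine Census.eq_one_of_small (mul_mem (inv_mem (pow_mem s11_mem k)) hg) ht fun j hj => ?_
    rw [Equiv.Perm.mul_apply, Equiv.Perm.inv_eq_iff_eq]
    simp only [orb11, List.mem_append, List.mem_map, List.mem_range, List.mem_cons, List.not_mem_nil, or_false] at hj
    rcases hj with (rfl | rfl) | ⟨i, -, rfl⟩
    · rw [ea]; exact ((pow_pt hP (by norm_num) k).trans (congrArg pt (it_fix hP0 k))).symm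
    · rw [eb]; exact ((pow_pt hP (by norm_num) k).trans (congrArg pt (it_fix hP23 k))).symm
    · rw [hgx i, ← pow_pt hP (show 1 < 24 by norm_num) i, ← Equiv.Perm.mul_apply (permOf s11P ^ k), ← pow_add, add_comm,
        pow_add, Equiv.Perm.mul_apply, pow_pt hP (show 1 < 24 by norm_num) k, hk]
      exact (pow_pt hP (idx_lt _) i).symm
  exact (inv_mul_eq_one.1 h1).symm

theorem card_M24_eleven : Nat.card Cfsg.M24 = 11 * 22256640 := by rw [card_M24]

/-- Elements of order eleven are self-centralising. -/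
theorem M24_centralizer {x g : ↥Cfsg.M24} (hx : orderOf x = 11) (hc : g * x = x * g) :
    g ∈ Subgroup.zpowers x := by
  haveI : Fact (Nat.Prime 11) := ⟨by norm_num⟩
  set s : ↥Cfsg.M24 := ⟨permOf s11P, s11_mem⟩ with hs
  have hso : orderOf s = 11 := orderOf_eq_prime (Subtype.ext s11_pow) fun e => s11_ne (congrArg Subtype.val e)
  have hfac : (Nat.card Cfsg.M24).factorization 11 = 1 := by
    rw [card_M24_eleven, Nat.factorization_mul (by norm_num) (by norm_num), Finsupp.add_apply,
      Nat.Prime.factorization_self (by norm_num), Nat.factorization_eq_zero_of_not_dvd (by norm_num)]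
  let Sx : Sylow 11 ↥Cfsg.M24 := Sylow.ofCard (Subgroup.zpowers x) (by rw [Nat.card_zpowers, hx, hfac, pow_one])
  let Ss : Sylow 11 ↥Cfsg.M24 := Sylow.ofCard (Subgroup.zpowers s) (by rw [Nat.card_zpowers, hso, hfac, pow_one])
  obtain ⟨c, hcS⟩ := MulAction.exists_smul_eq ↥Cfsg.M24 Sx Ss
  have hmap : (Subgroup.zpowers x).map (MulAut.conj c).toMonoidHom = Subgroup.zpowers s :=
    congrArg (fun T : Sylow 11 ↥Cfsg.M24 => (T : Subgroup ↥Cfsg.M24)) hcS
  have hxs : c * x * c⁻¹ ∈ Subgroup.zpowers s := hmap ▸ Subgroup.mem_map_of_mem _ (Subgroup.mem_zpowers x)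
  have hsx : s ∈ (Subgroup.zpowers x).map (MulAut.conj c).toMonoidHom := hmap.symm ▸ Subgroup.mem_zpowers s
  obtain ⟨_, hw, hws⟩ := hsx
  obtain ⟨i, rfl⟩ := Subgroup.mem_zpowers_iff.1 hw
  have hws' : c * x ^ i * c⁻¹ = s := hws
  have hcg : (c * g * c⁻¹) * s = s * (c * g * c⁻¹) := by
    rw [← hws']
    calc c * g * c⁻¹ * (c * x ^ i * c⁻¹) = c * (g * x ^ i) * c⁻¹ := by group
      _ = c * (x ^ i * g) * c⁻¹ := by rw [((show Commute g x from hc).zpow_right i).eq]
      _ = _ := by group
  obtain ⟨k, hk⟩ := s11_centralizer (c * g * c⁻¹).2 (congrArg Subtype.val hcg)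
  have hk' : c * g * c⁻¹ = s ^ k := Subtype.ext hk
  refine Subgroup.mem_zpowers_iff.2 ⟨i * k, ?_⟩
  calc x ^ (i * (k : ℤ)) = c⁻¹ * (c * x ^ i * c⁻¹) ^ k * c := by
        rw [conj_pow, zpow_mul, zpow_natCast]; group
    _ = c⁻¹ * (c * g * c⁻¹) * c := by rw [hws', hk']
    _ = g := by group

theorem four_checks : comp (comp (pk 6) (pk 6)) (comp (pk 6) (pk 6)) = idP ∧ comp (pk 6) (pk 6) ≠ idP ∧
    get (comp (pk 6) (pk 6)) 2 ≠ 2 := by
  decide +kernel

/-- No subgroup of order 1024 has exponent two. -/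
theorem M24_no_elem {S : Subgroup ↥Cfsg.M24} (hS : Nat.card ↥S = 1024) (hsq : ∀ s ∈ S, s * s = 1) : False := by
  haveI : Fact (Nat.Prime 2) := ⟨Nat.prime_two⟩
  set g : ↥Cfsg.M24 := ⟨permOf (pk 6), (pk_mem (by norm_num : 6 < 9)).1.1⟩ with hg
  have hv := pk_valid 6
  have hv2 := valid_comp hv hv
  have hg4 : g ^ 4 = 1 := Subtype.ext (by
    show permOf (pk 6) ^ 4 = 1
    rw [← permOf_idP, ← four_checks.1, permOf_comp hv2 hv2, permOf_comp hv hv]
    simp only [pow_succ, pow_zero, one_mul, mul_assoc])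
  have hg2 : g * g ≠ 1 := fun e => four_checks.2.2 (by
    have h1 : permOf (comp (pk 6) (pk 6)) = 1 := by rw [permOf_comp hv hv]; exact congrArg Subtype.val e
    have h2 := idx_permOf hv2 (pt 2)
    rw [h1, Equiv.Perm.one_apply, idx_pt (by norm_num)] at h2
    exact h2.symm)
  have hfac : (Nat.card Cfsg.M24).factorization 2 = 10 := by
    rw [card_M24, show 244823040 = 2 ^ 10 * 239085 by norm_num, Nat.factorization_mul (by norm_num) (by norm_num),
      Finsupp.add_apply, Nat.Prime.factorization_pow Nat.prime_two, Finsupp.single_eq_same,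
      Nat.factorization_eq_zero_of_not_dvd (by norm_num)]
  let T : Sylow 2 ↥Cfsg.M24 := Sylow.ofCard S (by rw [hS, hfac]; norm_num)
  obtain ⟨i, -, hi⟩ := (Nat.dvd_prime_pow Nat.prime_two).1 (orderOf_dvd_of_pow_eq_one hg4 : orderOf g ∣ 2 ^ 2)
  obtain ⟨U, hU⟩ := (IsPGroup.of_card (p := 2) (n := i) (by rw [Nat.card_zpowers, hi]) :
    IsPGroup 2 ↥(Subgroup.zpowers g)).exists_le_sylow
  obtain ⟨c, hc⟩ := MulAction.exists_smul_eq ↥Cfsg.M24 U T
  have hmap : (U : Subgroup ↥Cfsg.M24).map (MulAut.conj c).toMonoidHom = S :=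
    congrArg (fun W : Sylow 2 ↥Cfsg.M24 => (W : Subgroup ↥Cfsg.M24)) hc
  have h := hsq _ (hmap ▸ Subgroup.mem_map_of_mem _ (hU (Subgroup.mem_zpowers g)))
  refine hg2 ?_
  have h' : c * g * c⁻¹ * (c * g * c⁻¹) = 1 := h
  calc g * g = c⁻¹ * (c * g * c⁻¹ * (c * g * c⁻¹)) * c := by group
    _ = 1 := by rw [h']; group

end Cfsg.Agent.Spor.JFour.Eleven
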