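import Cfsg.Agent.Lib.Spor.JFourType.SylowH
import Cfsg.Agent.Lib.Spor.JFourType.Eleven.Rigid
import Cfsg.Agent.Lib.Spor.JFourType.Eleven.General

/-!
An element of order eleven in the centraliser of the involution: its centraliser and normaliser there.
-/

set_option autoImplicit false
set_option maxRecDepth 100000
set_option Elab.async false
set_option linter.style.haveILetI false

open Cfsg Cfsg.Agent.Spor.Golay

namespace Cfsg.Agent.Spor.JFour

namespace Eleven

theorem pk9_checks : inM24 (pk 9) = true ∧ get (pk 9) 23 ≠ 23 := by decide +kernel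

theorem inverted_pow {A : Type*} [Group A] {g x : A} (h : g * x * g⁻¹ = x⁻¹) (i : ℕ) :
    g ^ (2 * i + 1) * x * (g ^ (2 * i + 1))⁻¹ = x⁻¹ := by
  induction i with
  | zero => simpa using h
  | succ i ih =>
    calc g ^ (2 * (i + 1) + 1) * x * (g ^ (2 * (i + 1) + 1))⁻¹
        = g * (g * (g ^ (2 * i + 1) * x * (g ^ (2 * i + 1))⁻¹) * g⁻¹) * g⁻¹ := by
          rw [show 2 * (i + 1) + 1 = (2 * i + 1) + 1 + 1 by omega, pow_succ', pow_succ']; group
      _ = g * (g * x * g⁻¹)⁻¹ * g⁻¹ := by rw [ih]; group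
      _ = g * x * g⁻¹ := by conv_lhs => rw [h, inv_inv]
      _ = x⁻¹ := h

/-- No element of the group on 22 points inverts the element of order eleven. -/
theorem M22_no_inv {g : Equiv.Perm GolayPt} (hg : g ∈ Cfsg.Spor.M22) :
    g * permOf s11P * g⁻¹ ≠ (permOf s11P)⁻¹ := fun hinv => by
  haveI : Fact (Nat.Prime 11) := ⟨by norm_num⟩
  set σ := permOf s11P with hσ
  have hso : orderOf σ = 11 := orderOf_eq_prime s11_pow s11_ne
  have hC : Cfsg.Spor.M22 ⊓ Subgroup.centralizer ({σ} : Set (Equiv.Perm GolayPt)) = Subgroup.zpowers σ := by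
    refine le_antisymm (fun h hh => ?_) (le_inf (Subgroup.zpowers_le.2 s11_mem22)
      (Subgroup.zpowers_le.2 (Subgroup.mem_centralizer_singleton_iff.2 rfl)))
    obtain ⟨k, rfl⟩ := s11_centralizer hh.1.1.1 (Subgroup.mem_centralizer_singleton_iff.1 hh.2)
    exact pow_mem (Subgroup.mem_zpowers σ) k
  obtain ⟨d, n, hd, hN, heq, hn⟩ := sylow_congr_in s11_mem22 hso (m := 40320) (c := 11)
    (by rw [Fus.Mathieu.card22]) (by norm_num) (by rw [hC, Nat.card_zpowers, hso])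
  have hd5 : d = 5 := by
    rcases (by decide : ∀ d, d < 11 → d ∣ 10 → d = 1 ∨ d = 2 ∨ d = 5 ∨ d = 10) d
      (Nat.lt_succ_of_le (Nat.le_of_dvd (by norm_num) hd)) hd with rfl | rfl | rfl | rfl <;> omega
  have hmem : g ∈ Cfsg.Spor.M22 ⊓ Subgroup.normalizer (Subgroup.zpowers σ : Set (Equiv.Perm GolayPt)) := by
    refine Subgroup.mem_inf.2 ⟨hg, Subgroup.mem_normalizer_iff.2 fun h => ?_⟩
    have e : (Subgroup.zpowers σ).map (MulAut.conj g).toMonoidHom = Subgroup.zpowers σ := by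
      rw [MonoidHom.map_zpowers]
      show Subgroup.zpowers (g * σ * g⁻¹) = _
      rw [hinv, Subgroup.zpowers_inv]
    conv_rhs => rw [← e]
    exact (Subgroup.mem_map_iff_mem (f := (MulAut.conj g).toMonoidHom) (MulAut.conj g).injective).symm
  have h55 : g ^ 55 = 1 := by
    have := Subgroup.orderOf_dvd_natCard _ hmem
    rw [hN, hd5] at this
    exact orderOf_dvd_iff_pow_eq_one.1 this
  have h := inverted_pow hinv 27
  rw [h55, one_mul, inv_one, mul_one] at h
  have h2 : σ ^ 2 = 1 := by rw [pow_two]; exact mul_eq_one_iff_eq_inv.2 h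
  have h3 := orderOf_dvd_of_pow_eq_one h2
  rw [hso] at h3
  norm_num at h3

end Eleven

open Eleven

variable {G : Type*} [Group G] {z : G} {P : Subgroup G}

/-- An element of order eleven commuting with the three-group, above the element on 22 points. -/
structure ElevenH (S : Setting z P) where
  /-- the element -/
  x : G
  x_pow : x ^ 11 = 1
  x_mem : x ∈ CP z P
  x_ψ : S.ψ x = permOf s11P

namespace Setting

theorem eq_of_ψ_eleven (S : Setting z P) {x y : G} (hx : x ∈ CP z P) (hy : y ∈ CP z P) (hx11 : x ^ 11 = 1)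
    (hy11 : y ^ 11 = 1) (h : S.ψ x = S.ψ y) : x = y := by
  have hk : x * y⁻¹ ∈ CP z P := mul_mem hx (inv_mem hy)
  have hψ : S.ψ (x * y⁻¹) = 1 := by rw [S.ψ_mul _ hx _ (inv_mem hy), S.ψ_inv hy, h, mul_inv_cancel]
  have hc : Commute (x * y⁻¹) y := S.ker_central hk hψ hy
  have h11 : (x * y⁻¹) ^ 11 = 1 := by
    have := hc.mul_pow 11
    rwa [inv_mul_cancel_right, hx11, hy11, mul_one, eq_comm] at this
  obtain ⟨i, j, hij⟩ := S.ψ_ker _ hk hψ
  have h6 : (x * y⁻¹) ^ 6 = 1 := by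
    rw [hij, ((show Commute z S.p from S.pz.symm).pow_pow i j).mul_pow, ← pow_mul, ← pow_mul,
      show z ^ (i * 6) = (z * z) ^ (i * 3) by rw [← pow_two, ← pow_mul]; congr 1; ring,
      show S.p ^ (j * 6) = (S.p * S.p * S.p) ^ (j * 2) by
        rw [show S.p * S.p * S.p = S.p ^ 3 by simp [pow_succ], ← pow_mul]; congr 1; ring,
      S.zz, S.p_pow, one_pow, one_pow, one_mul]
  refine mul_inv_eq_one.1 ?_
  have h1 := pow_gcd_eq_one.2 ⟨h11, h6⟩
  rwa [show Nat.gcd 11 6 = 1 by norm_num, pow_one] at h1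

theorem core_CP (S : Setting z P) {g : G} (h1 : g ∈ twoCoreOfCentralizer z) (h2 : g ∈ CP z P) : g = 1 ∨ g = z :=
  S.fix g h1 (S.mem_iff.1 h2).2.symm

theorem exists_elevenH (S : Setting z P) : Nonempty (ElevenH S) := by
  obtain ⟨c, hc, hcψ⟩ := S.ψ_surj _ s11_mem22
  have h66 : c ^ 66 = 1 := by
    obtain ⟨i, j, hij⟩ := S.ψ_ker _ (pow_mem hc 11) (by rw [S.ψ_pow hc, hcψ, s11_pow])
    rw [show (66 : ℕ) = 11 * 6 by norm_num, pow_mul, hij, ((show Commute z S.p from S.pz.symm).pow_pow i j).mul_pow,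
      ← pow_mul, ← pow_mul, show z ^ (i * 6) = (z * z) ^ (i * 3) by rw [← pow_two, ← pow_mul]; congr 1; ring,
      show S.p ^ (j * 6) = (S.p * S.p * S.p) ^ (j * 2) by
        rw [show S.p * S.p * S.p = S.p ^ 3 by simp [pow_succ], ← pow_mul]; congr 1; ring,
      S.zz, S.p_pow, one_pow, one_pow, one_mul]
  refine ⟨⟨c ^ 12, ?_, pow_mem hc 12, ?_⟩⟩
  · rw [← pow_mul, show 12 * 11 = 66 * 2 by norm_num, pow_mul, h66, one_pow]
  · rw [S.ψ_pow hc, hcψ, show (12 : ℕ) = 11 + 1 by norm_num, pow_succ, s11_pow, one_mul]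

end Setting

namespace ElevenH

variable {S : Setting z P} (E : ElevenH S)

theorem x_ne : E.x ≠ 1 := fun e => s11_ne (by rw [← E.x_ψ, e, S.ψ_one])

theorem x_z : E.x * z = z * E.x := S.commz E.x_mem

theorem x_p : E.x * S.p = S.p * E.x := (S.mem_iff.1 E.x_mem).2

theorem orderOf_x : orderOf E.x = 11 := by
  haveI : Fact (Nat.Prime 11) := ⟨by norm_num⟩
  exact orderOf_eq_prime E.x_pow E.x_ne

/-- Its centraliser in the extraspecial group. -/
def Q : Subgroup G := twoCoreOfCentralizer z ⊓ Subgroup.centralizer ({E.x} : Set G)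

theorem mem_Q {g : G} : g ∈ E.Q ↔ g ∈ twoCoreOfCentralizer z ∧ g * E.x = E.x * g := by
  rw [Q, Subgroup.mem_inf, Subgroup.mem_centralizer_singleton_iff]

theorem z_mem_Q : z ∈ E.Q := E.mem_Q.2 ⟨S.ext.mem, E.x_z.symm⟩

theorem Q_sq {q : G} (hq : q ∈ E.Q) : q * q = 1 ∨ q * q = z := S.ext.sq q (E.mem_Q.1 hq).1

theorem Q_z {q : G} (hq : q ∈ E.Q) : q * z = z * q := S.ext.central q (E.mem_Q.1 hq).1

theorem Q_norm {c q : G} (hc : c * z = z * c) (hx : c * E.x = E.x * c) (hq : q ∈ E.Q) : c * q * c⁻¹ ∈ E.Q := by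
  refine E.mem_Q.2 ⟨S.ext.norm c hc q (E.mem_Q.1 hq).1, ?_⟩
  exact (((show Commute c E.x from hx).mul_left (show Commute q E.x from (E.mem_Q.1 hq).2)).mul_left
    (show Commute c E.x from hx).inv_left).eq

variable [Finite G]

theorem card_Q : Nat.card ↥E.Q = 8 := by
  haveI : Fact (Nat.Prime 11) := ⟨by norm_num⟩
  have h : Nat.card ↥(twoCoreOfCentralizer z) ≡ Nat.card ↥E.Q [MOD 11] :=
    card_fixed_modEq E.x_pow fun s hs => S.ext.norm _ E.x_z s hs
  obtain ⟨k, hk, hQ⟩ := (Nat.dvd_prime_pow Nat.prime_two).1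
    (S.cardE ▸ Subgroup.card_dvd_of_le (show E.Q ≤ twoCoreOfCentralizer z from inf_le_left))
  rw [S.cardE, hQ, Nat.ModEq] at h
  have hk13 : k ≠ 13 := by
    rintro rfl
    have e : E.Q = twoCoreOfCentralizer z :=
      Subgroup.eq_of_le_of_card_ge inf_le_left (by rw [hQ, S.cardE])
    have hxE : E.x ∈ twoCoreOfCentralizer z :=
      S.ext.self _ fun q hq => (E.mem_Q.1 (e ▸ hq)).2
    have h4 : E.x ^ 4 = 1 := by
      rcases S.ext.sq _ hxE with e' | e' <;>
        rw [show E.x ^ 4 = (E.x * E.x) * (E.x * E.x) by simp [pow_succ, mul_assoc], e'] <;> simp [S.zz]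
    have h1 := pow_gcd_eq_one.2 ⟨E.x_pow, h4⟩
    rw [show Nat.gcd 11 4 = 1 by norm_num, pow_one] at h1
    exact E.x_ne h1
  rw [hQ]
  interval_cases k <;> simp_all

/-- The centre is the only involution. -/
theorem Q_invol {u : G} (hu : u ∈ E.Q) (h2 : u * u = 1) : u = 1 ∨ u = z := by
  by_contra hcon
  push Not at hcon
  obtain ⟨hu1, huz⟩ := hcon
  haveI : Fact (Nat.Prime 11) := ⟨by norm_num⟩
  have hzu : z * u = u * z := (E.Q_z hu).symm
  let V : Subgroup G :=
    { carrier := {1, z, u, u * z}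
      one_mem' := Or.inl rfl
      mul_mem' := by
        rintro a b ha hb
        simp only [Set.mem_insert_iff, Set.mem_singleton_iff] at ha hb ⊢
        have e1 : u * (u * z) = z := by rw [← mul_assoc, h2, one_mul]
        have e2 : u * z * u = z := by rw [mul_assoc, hzu, e1]
        have e3 : z * (u * z) = u := by rw [← mul_assoc, hzu, mul_assoc, S.zz, mul_one]
        have e4 : u * z * z = u := by rw [mul_assoc, S.zz, mul_one]
        have e5 : u * z * (u * z) = 1 := by rw [← mul_assoc, e2, S.zz]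
        rcases ha with ha | ha | ha | ha <;> rcases hb with hb | hb | hb | hb <;>
          simp [ha, hb, hzu, h2, S.zz, e1, e2, e3, e4, e5]
      inv_mem' := by
        rintro a ha
        simp only [Set.mem_insert_iff, Set.mem_singleton_iff] at ha ⊢
        rcases ha with ha | ha | ha | ha <;>
          simp [ha, inv_eq_of_mul_eq_one_right S.zz, inv_eq_of_mul_eq_one_right h2, hzu] }
  have hVmem : ∀ {v : G}, v ∈ V ↔ v = 1 ∨ v = z ∨ v = u ∨ v = u * z := fun {v} => Iff.rfl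
  have hVQ : V ≤ E.Q := fun v hv => by
    rcases hVmem.1 hv with rfl | rfl | rfl | rfl
    exacts [one_mem _, E.z_mem_Q, hu, mul_mem hu E.z_mem_Q]
  have hVcard : Nat.card ↥V = 4 := by
    classical
    rw [show Nat.card ↥V = Nat.card ↥(({1, z, u, u * z} : Finset G) : Set G) from
      Nat.card_congr (Equiv.subtypeEquivRight fun v => by simpa using hVmem), Nat.card_eq_fintype_card]
    simp only [Fintype.card_coe, Finset.coe_sort_coe]
    have e1 : (1 : G) ≠ u * z := fun e => huz (by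
      rw [← inv_eq_of_mul_eq_one_right S.zz]; exact eq_inv_of_mul_eq_one_left e.symm)
    have e2 : z ≠ u * z := fun e => hu1 (right_eq_mul.1 e)
    have e3 : u ≠ u * z := fun e => S.ext.ne (left_eq_mul.1 e)
    simp [S.ext.ne.symm, Ne.symm hu1, Ne.symm huz, e1, e2, e3]
  set V' := V.subgroupOf E.Q with hV'
  have hidx : V'.index = 2 := by
    have := V'.card_mul_index
    rw [hV', Nat.card_congr (Subgroup.subgroupOfEquivOfLe hVQ).toEquiv, hVcard, E.card_Q] at this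
    rw [hV']
    omega
  have hprod : ∀ a ∈ E.Q, ∀ b ∈ E.Q, (a * b ∈ V ↔ (a ∈ V ↔ b ∈ V)) := fun a ha b hb => by
    have := Subgroup.mul_mem_iff_of_index_two hidx (a := ⟨a, ha⟩) (b := ⟨b, hb⟩)
    simpa [hV', Subgroup.mem_subgroupOf] using this
  have hpn : ∀ q ∈ E.Q, S.p * q * S.p⁻¹ ∈ E.Q := fun q hq => E.Q_norm S.pz E.x_p.symm hq
  have hpz' : S.p * z * S.p⁻¹ = z := by rw [S.pz, mul_inv_cancel_right]
  have hpfix : ∀ q ∈ E.Q, S.p * q * S.p⁻¹ = q → q = 1 ∨ q = z := fun q hq e =>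
    S.fix q (E.mem_Q.1 hq).1 (mul_inv_eq_iff_eq_mul.1 e)
  have hp3 : ∀ q, S.p * (S.p * (S.p * q * S.p⁻¹) * S.p⁻¹) * S.p⁻¹ = q := fun q => by
    calc _ = (S.p * S.p * S.p) * q * (S.p * S.p * S.p)⁻¹ := by group
      _ = q := by rw [S.p_pow]; group
  set u1 := S.p * u * S.p⁻¹ with hu1def
  set u2 := S.p * u1 * S.p⁻¹ with hu2def
  have h12 : u2 * u2 = 1 := by
    rw [hu2def, hu1def]
    calc S.p * (S.p * u * S.p⁻¹) * S.p⁻¹ * (S.p * (S.p * u * S.p⁻¹) * S.p⁻¹) =
          S.p * S.p * (u * u) * (S.p * S.p)⁻¹ := by group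
      _ = 1 := by rw [h2]; group
  have h11' : u1 * u1 = 1 := by
    rw [hu1def]
    calc _ = S.p * (u * u) * S.p⁻¹ := by group
      _ = 1 := by rw [h2]; group
  have hu1Q : u1 ∈ E.Q := hpn u hu
  have hu2Q : u2 ∈ E.Q := hpn u1 hu1Q
  have hne0 : u1 ≠ u := fun e => (hpfix u hu (hu1def ▸ e)).elim hu1 huz
  have hne1 : u1 ≠ u * z := fun e => by
    have e2 : u2 = u := by
      rw [hu2def, e, show S.p * (u * z) * S.p⁻¹ = (S.p * u * S.p⁻¹) * (S.p * z * S.p⁻¹) by group, ← hu1def, e, hpz',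
        mul_assoc, S.zz, mul_one]
    have e3 := hp3 u
    rw [← hu1def, ← hu2def, e2, ← hu1def] at e3
    exact hne0 e3
  have hu1V : u1 ∉ V := fun h => by
    rcases hVmem.1 h with e | e | e | e
    · exact hu1 (conj_eq_one_iff.1 (hu1def ▸ e))
    · refine huz ?_
      calc u = S.p⁻¹ * u1 * S.p := by rw [hu1def]; group
        _ = z := by rw [e, mul_assoc, ← S.pz, inv_mul_cancel_left]
    · exact hne0 e
    · exact hne1 e
  have hu2V : u2 ∉ V := fun h => by
    have h3 := hp3 u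
    rw [← hu1def, ← hu2def] at h3
    rcases hVmem.1 h with e | e | e | e <;> rw [e] at h3
    · exact hu1 (by rw [← h3]; group)
    · exact huz (by rw [← h3, hpz'])
    · exact hne0 (hu1def.trans h3)
    · refine hne1 ?_
      rw [show S.p * (u * z) * S.p⁻¹ = (S.p * u * S.p⁻¹) * (S.p * z * S.p⁻¹) by group, ← hu1def, hpz'] at h3
      calc u1 = u1 * z * z := by rw [mul_assoc, S.zz, mul_one]
        _ = u * z := by rw [h3]
  have hcomm : u1 * u = u * u1 := by
    have h12V : u1 * u2 ∈ V := (hprod _ hu1Q _ hu2Q).2 (iff_of_false hu1V hu2V)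
    have e0 : u2 = u1 * (u1 * u2) := by rw [← mul_assoc, h11', one_mul]
    rcases hVmem.1 h12V with e | e | e | e <;> rw [e] at e0
    · exfalso
      rw [mul_one] at e0
      exact (hpfix u1 hu1Q (hu2def ▸ e0)).elim (fun e' => hu1V (hVmem.2 (Or.inl e')))
        (fun e' => hu1V (hVmem.2 (Or.inr (Or.inl e'))))
    · exfalso
      refine hne1 ?_
      have h3 := hp3 u
      rw [← hu1def, ← hu2def, e0, show S.p * (u1 * z) * S.p⁻¹ = (S.p * u1 * S.p⁻¹) * (S.p * z * S.p⁻¹) by group,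
        ← hu2def, e0, hpz', mul_assoc, S.zz, mul_one] at h3
      exact absurd h3 hne0
    · rw [e0] at h12
      calc u1 * u = (u1 * u) * (u1 * u) * (u⁻¹ * u1⁻¹) := by group
        _ = u * u1 := by rw [h12, one_mul, inv_eq_of_mul_eq_one_right h2, inv_eq_of_mul_eq_one_right h11']
    · rw [e0] at h12
      have hc1 : Commute (u1 * u) z := E.Q_z (mul_mem hu1Q hu)
      have h' : (u1 * u) * (u1 * u) = 1 := by
        calc (u1 * u) * (u1 * u) = (u1 * u) * (u1 * u) * (z * z) := by rw [S.zz, mul_one]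
          _ = (u1 * u * z) * (u1 * u * z) := (hc1.mul_mul_mul_comm _ _).symm ▸ by group
          _ = 1 := by rw [mul_assoc u1 u z]; exact h12
      calc u1 * u = (u1 * u) * (u1 * u) * (u⁻¹ * u1⁻¹) := by group
        _ = u * u1 := by rw [h', one_mul, inv_eq_of_mul_eq_one_right h2, inv_eq_of_mul_eq_one_right h11']
  have hall : ∀ q ∈ E.Q, q * u = u * q := fun q hq => by
    have hV0 : ∀ v ∈ V, v * u = u * v := fun v hv => by
      rcases hVmem.1 hv with rfl | rfl | rfl | rfl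
      · rw [one_mul, mul_one]
      · exact hzu
      · rfl
      · rw [mul_assoc, hzu]
    by_cases hqV : q ∈ V
    · exact hV0 q hqV
    have h := hV0 _ ((hprod _ hu1Q _ hq).2 (iff_of_false hu1V hqV))
    rw [show q = u1 * (u1 * q) by rw [← mul_assoc, h11', one_mul], mul_assoc, h, ← mul_assoc, hcomm, mul_assoc]
  set X0 := twoCoreOfCentralizer z ⊓ Subgroup.centralizer ({u} : Set G) with hX0
  have hX0x : ∀ s ∈ X0, E.x * s * E.x⁻¹ ∈ X0 := fun s hs => by
    refine Subgroup.mem_inf.2 ⟨S.ext.norm _ E.x_z s hs.1, Subgroup.mem_centralizer_singleton_iff.2 ?_⟩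
    have hxu : Commute E.x u := (E.mem_Q.1 hu).2.symm
    exact ((hxu.mul_left (show Commute s u from Subgroup.mem_centralizer_singleton_iff.1 hs.2)).mul_left
      hxu.inv_left).eq
  have hfx : X0 ⊓ Subgroup.centralizer ({E.x} : Set G) = E.Q :=
    le_antisymm (fun g hg => Subgroup.mem_inf.2 ⟨hg.1.1, hg.2⟩) fun g hg => Subgroup.mem_inf.2
      ⟨Subgroup.mem_inf.2 ⟨hg.1, Subgroup.mem_centralizer_singleton_iff.2 (hall g hg)⟩, hg.2⟩
  have hm := card_fixed_modEq (p := 11) E.x_pow hX0x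
  rw [hfx, E.card_Q] at hm
  obtain ⟨k, hk, hX⟩ := (Nat.dvd_prime_pow Nat.prime_two).1
    (S.cardE ▸ Subgroup.card_dvd_of_le (inf_le_left : X0 ≤ twoCoreOfCentralizer z))
  have hle := S.ext.card_le_centralizing (E.mem_Q.1 hu).1
  rw [S.cardE, ← hX0, hX] at hle
  rw [hX, Nat.ModEq] at hm
  have hk13 : k = 13 := by
    interval_cases k <;> simp_all
  have e : X0 = twoCoreOfCentralizer z := Subgroup.eq_of_le_of_card_ge inf_le_left (by rw [hX, S.cardE, hk13])
  exact (S.ext.cen u (E.mem_Q.1 hu).1 fun q hq => Subgroup.mem_centralizer_singleton_iff.1 (e.ge hq).2).elim hu1 huz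

omit [Finite G] in
/-- The centraliser in the centraliser of the involution. -/
theorem cent {h : G} (hz : h * z = z * h) (hx : h * E.x = E.x * h) :
    ∃ m ∈ E.Q, ∃ j k : ℕ, h = m * S.p ^ j * E.x ^ k := by
  obtain ⟨e, he, c, hc, hcase⟩ := S.frattini h hz
  -- a conjugate in the centraliser of the three-group has the same image
  have key : ∀ {n : G}, h = e * n → n * E.x * n⁻¹ ∈ CP z P →
      S.ψ (n * E.x * n⁻¹) = permOf s11P ∧ n * E.x * n⁻¹ = E.x := fun {n} hn hmem => by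
    have e1 : n * E.x * n⁻¹ = e⁻¹ * E.x * e := by
      rw [show n = e⁻¹ * h by rw [hn, inv_mul_cancel_left],
        show e⁻¹ * h * E.x * (e⁻¹ * h)⁻¹ = e⁻¹ * (h * E.x) * h⁻¹ * e by group, hx]
      group
    have hd : n * E.x * n⁻¹ * E.x⁻¹ = 1 ∨ n * E.x * n⁻¹ * E.x⁻¹ = z := by
      refine S.core_CP ?_ (mul_mem hmem (inv_mem E.x_mem))
      rw [e1, show e⁻¹ * E.x * e * E.x⁻¹ = e⁻¹ * (E.x * e * E.x⁻¹) by group]
      exact mul_mem (inv_mem he) (S.ext.norm _ E.x_z _ he)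
    have hψ : S.ψ (n * E.x * n⁻¹) = permOf s11P := by
      have h1 : S.ψ (n * E.x * n⁻¹ * E.x⁻¹) = 1 := by rcases hd with e2 | e2 <;> rw [e2]; exacts [S.ψ_one, S.ψ_z]
      rwa [S.ψ_mul _ hmem _ (inv_mem E.x_mem), S.ψ_inv E.x_mem, mul_inv_eq_one, E.x_ψ] at h1
    exact ⟨hψ, S.eq_of_ψ_eleven hmem E.x_mem (by rw [conj_pow, E.x_pow, mul_one, mul_inv_cancel]) E.x_pow
      (by rw [hψ, E.x_ψ])⟩
  rcases hcase with rfl | rfl
  · obtain ⟨hψ, heq⟩ := key rfl (mul_mem (mul_mem hc E.x_mem) (inv_mem hc))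
    rw [S.ψ_conj hc E.x_mem, E.x_ψ, mul_inv_eq_iff_eq_mul] at hψ
    obtain ⟨k, hk⟩ := s11_centralizer (S.ψ_mem c hc).1.1 hψ
    obtain ⟨i, j, hij⟩ := S.ψ_ker (c * (E.x ^ k)⁻¹) (mul_mem hc (inv_mem (pow_mem E.x_mem k))) (by
      rw [S.ψ_mul _ hc _ (inv_mem (pow_mem E.x_mem k)), S.ψ_inv (pow_mem E.x_mem k), S.ψ_pow E.x_mem, E.x_ψ, hk,
        mul_inv_cancel])
    have heQ : e ∈ E.Q := by
      refine E.mem_Q.2 ⟨he, ?_⟩
      have hcx : c * E.x = E.x * c := mul_inv_eq_iff_eq_mul.1 heq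
      calc e * E.x = e * c * E.x * c⁻¹ := by rw [mul_assoc e c, hcx]; group
        _ = E.x * e := by rw [hx]; group
    exact ⟨e * z ^ i, mul_mem heQ (pow_mem E.z_mem_Q i), j, k, by rw [mul_inv_eq_iff_eq_mul.1 hij]; group⟩
  · exfalso
    have hoc : S.o * E.x * S.o⁻¹ ∈ CP z P := by
      refine S.mem_iff.2 ⟨?_, ?_⟩
      · exact (((show Commute S.o z from S.oz).mul_left (show Commute E.x z from E.x_z)).mul_left
          (show Commute S.o z from S.oz).inv_left).eq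
      · have hi : S.o⁻¹ * S.p * S.o = S.p * S.p := by
          have h := congrArg (fun y => S.o⁻¹ * (y * y) * S.o) S.op
          rw [show S.p * S.p * (S.p * S.p) = S.p * S.p * S.p * S.p by group, S.p_pow, one_mul,
            show S.o⁻¹ * (S.o * S.p * S.o⁻¹ * (S.o * S.p * S.o⁻¹)) * S.o = S.p * S.p by group] at h
          exact h.symm
        have hxp2 : E.x * (S.p * S.p) = S.p * S.p * E.x := by rw [← mul_assoc, E.x_p, mul_assoc, E.x_p, ← mul_assoc]
        calc S.o * E.x * S.o⁻¹ * S.p = S.o * (E.x * (S.o⁻¹ * S.p * S.o)) * S.o⁻¹ := by group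
          _ = (S.o * (S.p * S.p) * S.o⁻¹) * (S.o * E.x * S.o⁻¹) := by rw [hi, hxp2]; group
          _ = S.p * (S.o * E.x * S.o⁻¹) := by
            rw [show S.o * (S.p * S.p) * S.o⁻¹ = (S.o * S.p * S.o⁻¹) * (S.o * S.p * S.o⁻¹) by group, S.op,
              show S.p * S.p * (S.p * S.p) = S.p * S.p * S.p * S.p by group, S.p_pow, one_mul]
    obtain ⟨hψ, -⟩ := key (n := c * S.o) (mul_assoc e c S.o) (by
      rw [show c * S.o * E.x * (c * S.o)⁻¹ = c * (S.o * E.x * S.o⁻¹) * c⁻¹ by group]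
      exact mul_mem (mul_mem hc hoc) (inv_mem hc))
    rw [show c * S.o * E.x * (c * S.o)⁻¹ = c * (S.o * E.x * S.o⁻¹) * c⁻¹ by group, S.ψ_conj hc hoc,
      S.ψ_o E.x E.x_mem, E.x_ψ,
      show S.ψ c * (permOf (pk 9) * permOf s11P * (permOf (pk 9))⁻¹) * (S.ψ c)⁻¹ =
        S.ψ c * permOf (pk 9) * permOf s11P * (S.ψ c * permOf (pk 9))⁻¹ by group, mul_inv_eq_iff_eq_mul] at hψ
    obtain ⟨k, hk⟩ := s11_centralizer (mul_mem (S.ψ_mem c hc).1.1 (permOf_mem_M24 pk9_checks.1)) hψ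
    have hfix : (S.ψ c * permOf (pk 9)) (pt 23) = pt 23 := by
      rw [hk, Seven.pow_pt s11_valid (by norm_num), Seven.it_fix s11_checks.2.2.2.1]
    rw [Equiv.Perm.mul_apply] at hfix
    have h23 : S.ψ c (pt 23) = pt 23 := by
      rw [show pt 23 = none by decide]; exact (S.ψ_mem c hc).1.2
    have h9 := congrArg idx ((S.ψ c).injective (hfix.trans h23.symm))
    rw [idx_permOf (pk_valid 9), idx_pt (by norm_num)] at h9
    exact pk9_checks.2 h9

/-- The centraliser in the centraliser of the involution. -/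
abbrev CH : Subgroup G := Subgroup.centralizer ({z} : Set G) ⊓ Subgroup.centralizer ({E.x} : Set G)

/-- Its elements. -/
def el (w : ↥E.Q × Fin 3 × Fin 11) : G := (w.1 : G) * S.p ^ w.2.1.val * E.x ^ w.2.2.val

omit [Finite G] in
theorem el_mem (w : ↥E.Q × Fin 3 × Fin 11) : E.el w ∈ E.CH := by
  have hq := E.mem_Q.1 w.1.2
  refine mul_mem (mul_mem (Subgroup.mem_inf.2 ⟨?_, ?_⟩) (Subgroup.mem_inf.2 ⟨?_, ?_⟩))
    (Subgroup.mem_inf.2 ⟨?_, ?_⟩) <;> rw [Subgroup.mem_centralizer_singleton_iff]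
  exacts [E.Q_z w.1.2, hq.2, ((show Commute S.p z from S.pz).pow_left _).eq,
    ((show Commute S.p E.x from E.x_p.symm).pow_left _).eq, ((show Commute E.x z from E.x_z).pow_left _).eq,
    ((Commute.refl E.x).pow_left _).eq]

theorem el_bijective : Function.Bijective fun w => (⟨E.el w, E.el_mem w⟩ : ↥E.CH) := by
  have hso : orderOf (permOf s11P) = 11 := by
    haveI : Fact (Nat.Prime 11) := ⟨by norm_num⟩
    exact orderOf_eq_prime s11_pow s11_ne
  have hpo : orderOf S.p = 3 := by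
    haveI : Fact (Nat.Prime 3) := ⟨Nat.prime_three⟩
    exact orderOf_eq_prime (by rw [pow_three']; exact S.p_pow) S.p_ne
  constructor
  · rintro ⟨m, j, k⟩ ⟨m', j', k'⟩ e
    have e' : (m : G) * S.p ^ j.val * E.x ^ k.val = (m' : G) * S.p ^ j'.val * E.x ^ k'.val := congrArg Subtype.val e
    have hw : (m' : G)⁻¹ * m = S.p ^ j'.val * (E.x ^ k'.val * (E.x ^ k.val)⁻¹) * (S.p ^ j.val)⁻¹ := by
      calc (m' : G)⁻¹ * m = (m' : G)⁻¹ * ((m : G) * S.p ^ j.val * E.x ^ k.val) * (E.x ^ k.val)⁻¹ * (S.p ^ j.val)⁻¹ := by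
            group
        _ = _ := by rw [e']; group
    have hC : (m' : G)⁻¹ * m ∈ CP z P := hw ▸ mul_mem (mul_mem (pow_mem S.p_mem _)
      (mul_mem (pow_mem E.x_mem _) (inv_mem (pow_mem E.x_mem _)))) (inv_mem (pow_mem S.p_mem _))
    have hcases := S.core_CP (mul_mem (inv_mem (E.mem_Q.1 m'.2).1) (E.mem_Q.1 m.2).1) hC
    have hψ : S.ψ ((m' : G)⁻¹ * m) = 1 := by rcases hcases with h | h <;> rw [h]; exacts [S.ψ_one, S.ψ_z]
    have hk : k = k' := by
      rw [hw, S.ψ_mul _ (mul_mem (pow_mem S.p_mem _) (mul_mem (pow_mem E.x_mem _) (inv_mem (pow_mem E.x_mem _))))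
        _ (inv_mem (pow_mem S.p_mem _)), S.ψ_mul _ (pow_mem S.p_mem _) _
        (mul_mem (pow_mem E.x_mem _) (inv_mem (pow_mem E.x_mem _))), S.ψ_inv (pow_mem S.p_mem _),
        S.ψ_mul _ (pow_mem E.x_mem _) _ (inv_mem (pow_mem E.x_mem _)), S.ψ_inv (pow_mem E.x_mem _),
        S.ψ_pow S.p_mem, S.ψ_pow S.p_mem, S.ψ_pow E.x_mem, S.ψ_pow E.x_mem, S.ψ_p, E.x_ψ, one_pow, one_pow,
        one_mul, inv_one, mul_one, mul_inv_eq_one] at hψ
      exact Fin.ext (pow_injOn_Iio_orderOf (x := permOf s11P) (by rw [hso]; exact k.2) (by rw [hso]; exact k'.2) hψ.symm)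
    subst hk
    rw [mul_inv_cancel, mul_one] at hw
    have hj3 : ((m' : G)⁻¹ * m) ^ 3 = 1 := by
      rw [hw, ((Commute.pow_pow_self S.p j'.val j.val).inv_right).mul_pow, inv_pow, ← pow_mul, ← pow_mul,
        mul_comm j'.val 3, mul_comm j.val 3, pow_mul, pow_mul, pow_three', S.p_pow, one_pow, one_pow, inv_one, mul_one]
    have h1 : (m' : G)⁻¹ * m = 1 := by
      rcases hcases with h | h
      · exact h
      · rw [h, pow_three', S.zz, one_mul] at hj3
        exact absurd hj3 S.ext.ne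
    have hj : j = j' := Fin.ext (pow_injOn_Iio_orderOf (x := S.p) (by rw [hpo]; exact j.2) (by rw [hpo]; exact j'.2)
      (mul_inv_eq_one.1 (hw.symm.trans h1)).symm)
    subst hj
    rw [Subtype.ext (inv_mul_eq_one.1 h1).symm]
  · rintro ⟨h, hz, hx⟩
    obtain ⟨m, hm, j, k, rfl⟩ := E.cent (Subgroup.mem_centralizer_singleton_iff.1 hz)
      (Subgroup.mem_centralizer_singleton_iff.1 hx)
    refine ⟨⟨⟨m, hm⟩, ⟨j % 3, Nat.mod_lt _ (by norm_num)⟩, ⟨k % 11, Nat.mod_lt _ (by norm_num)⟩⟩, Subtype.ext ?_⟩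
    show m * S.p ^ (j % 3) * E.x ^ (k % 11) = m * S.p ^ j * E.x ^ k
    rw [← pow_eq_pow_mod _ (show S.p ^ 3 = 1 by rw [pow_three']; exact S.p_pow), ← pow_eq_pow_mod _ E.x_pow]

theorem card_CH : Nat.card ↥E.CH = 264 := by
  rw [← Nat.card_congr (Equiv.ofBijective _ E.el_bijective), Nat.card_prod, Nat.card_prod, E.card_Q, Nat.card_fin,
    Nat.card_fin]

/-- The normaliser in the centraliser of the involution. -/
abbrev NH : Subgroup G := Subgroup.centralizer ({z} : Set G) ⊓ Subgroup.normalizer (Subgroup.zpowers E.x : Set G)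

theorem card_NH : Nat.card ↥E.NH = 2640 := by
  haveI : Fact (Nat.Prime 11) := ⟨by norm_num⟩
  obtain ⟨d, n, hd, hN, heq, hn⟩ := sylow_congr_in (L := Subgroup.centralizer ({z} : Set G))
    (Subgroup.mem_centralizer_singleton_iff.2 E.x_z) E.orderOf_x (m := 2 ^ 21 * 945) (c := 264)
    (by rw [S.card_H]; norm_num) (by norm_num) E.card_CH
  rcases (by decide : ∀ d, d < 11 → d ∣ 10 → d = 1 ∨ d = 2 ∨ d = 5 ∨ d = 10) d
    (Nat.lt_succ_of_le (Nat.le_of_dvd (by norm_num) hd)) hd with rfl | rfl | rfl | rfl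
  iterate 3 omega
  rw [hN]

omit [Finite G] in
/-- Nothing inside inverts it. -/
theorem no_inv {c : G} (hc : c ∈ CP z P) : c * E.x * c⁻¹ ≠ E.x⁻¹ := fun e => by
  have h := congrArg S.ψ e
  rw [S.ψ_conj hc E.x_mem, S.ψ_inv E.x_mem, E.x_ψ] at h
  exact M22_no_inv (S.ψ_mem c hc) h

end ElevenH

end Cfsg.Agent.Spor.JFour
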