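import Mathlib

/-!
A group of odd order with an involution whose fixed points lie in a central cyclic subgroup is abelian modulo it.
-/

set_option autoImplicit false

namespace Cfsg.Agent.Spor.JFour.Eleven

variable {G : Type*} [Group G] [Finite G]

/-- The hypotheses. -/
structure Inverting (R : Subgroup G) (t x : G) : Prop where
  odd : ∀ k ∈ R, ∃ i : ℕ, k ^ (2 * i + 1) = 1
  tt : t * t = 1
  norm : ∀ k ∈ R, t * k * t ∈ R
  fix : ∀ k ∈ R, k * t = t * k → k ∈ Subgroup.zpowers x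
  central : ∀ k ∈ R, k * x = x * k
  tx : t * x = x * t

namespace Inverting

variable {R : Subgroup G} {t x : G}

theorem invert (h : Inverting R t x) {k : G} (hk : k ∈ R) : ∃ i : ℕ, k * (t * k * t) = x ^ i := by
  have hti : t⁻¹ = t := inv_eq_of_mul_eq_one_right h.tt
  obtain ⟨a, ha⟩ := h.odd (k⁻¹ * (t * k * t)) (mul_mem (inv_mem hk) (h.norm k hk))
  set u := k⁻¹ * (t * k * t) with hu
  have hzu : t * u * t = u⁻¹ := by
    rw [hu, mul_inv_rev, inv_inv]
    calc t * (k⁻¹ * (t * k * t)) * t = t * k⁻¹ * t * k * (t * t) := by group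
      _ = (t⁻¹ * k⁻¹ * t⁻¹) * k := by rw [h.tt, hti, mul_one]
      _ = _ := by group
  set v := u ^ (a + 1) with hv
  have hvR : v ∈ R := pow_mem (mul_mem (inv_mem hk) (h.norm k hk)) _
  have hzv : t * v * t = v⁻¹ := by
    have := congrArg (fun y => y ^ (a + 1)) hzu
    rw [show t * u * t = t * u * t⁻¹ by rw [hti], conj_pow, hti, inv_pow] at this
    exact this
  have huv : u * v⁻¹ = v := by
    rw [mul_inv_eq_iff_eq_mul, hv, ← pow_add, show a + 1 + (a + 1) = (2 * a + 1) + 1 by omega, pow_succ, ha, one_mul]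
  have hkv : k * v * t = t * (k * v) := by
    have : t * (k * v) * t = k * v := by
      calc t * (k * v) * t = (t * k * t) * (t⁻¹ * v * t) := by group
        _ = k * (u * v⁻¹) := by rw [hti, hzv, hu]; group
        _ = k * v := by rw [huv]
    conv_lhs => rw [← this]
    rw [mul_assoc _ t t, h.tt, mul_one]
  obtain ⟨i, hi⟩ := (isOfFinOrder_of_finite x).mem_powers_iff_mem_zpowers.2 (h.fix _ (mul_mem hk hvR) hkv)
  refine ⟨i + i, ?_⟩
  have hk' : k = x ^ i * v⁻¹ := by rw [show x ^ i = k * v from hi]; group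
  have hzxi : t * x ^ i = x ^ i * t := ((show Commute t x from h.tx).pow_right i).eq
  have hvx : v⁻¹ * x ^ i = x ^ i * v⁻¹ := ((show Commute v x from h.central v hvR).inv_left.pow_right i).eq
  calc k * (t * k * t) = x ^ i * v⁻¹ * (t * x ^ i * v⁻¹ * t) := by rw [hk']; group
    _ = x ^ i * (v⁻¹ * x ^ i) * (t * v * t)⁻¹ := by rw [hzxi, mul_inv_rev, mul_inv_rev, hti]; group
    _ = x ^ (i + i) := by rw [hvx, hzv, inv_inv, pow_add]; group

/-- Products commute modulo the central subgroup. -/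
theorem comm (h : Inverting R t x) {a b : G} (ha : a ∈ R) (hb : b ∈ R) :
    ∃ w ∈ Subgroup.zpowers x, a * b = b * a * w := by
  obtain ⟨i, hi⟩ := h.invert ha
  obtain ⟨j, hj⟩ := h.invert hb
  obtain ⟨l, hl⟩ := h.invert (mul_mem ha hb)
  have hxR : ∀ k ∈ R, ∀ n : ℕ, Commute (x ^ n) k := fun k hk n =>
    ((show Commute k x from h.central k hk).pow_right n).symm
  have ea : t * a * t = a⁻¹ * x ^ i := by rw [← hi, inv_mul_cancel_left]
  have eb : t * b * t = b⁻¹ * x ^ j := by rw [← hj, inv_mul_cancel_left]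
  have ec : t * (a * b) * t = (a * b)⁻¹ * x ^ l := by rw [← hl, inv_mul_cancel_left]
  have e2 : a⁻¹ * b⁻¹ * (x ^ i * x ^ j) = (a * b)⁻¹ * x ^ l := by
    rw [← ec, show t * (a * b) * t = t * a * (t * t) * b * t by rw [h.tt, mul_one]; group,
      show t * a * (t * t) * b * t = (t * a * t) * (t * b * t) by group, ea, eb, mul_assoc a⁻¹ (x ^ i),
      ← mul_assoc (x ^ i), (hxR _ (inv_mem hb) i).eq]
    group
  have hc : (a * b) * (a⁻¹ * b⁻¹) = x ^ l * (x ^ i * x ^ j)⁻¹ := by
    rw [eq_mul_inv_iff_mul_eq, mul_assoc, e2, mul_inv_cancel_left]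
  have hcen : ∀ k ∈ R, ∀ u ∈ Subgroup.zpowers x, Commute k u := fun k hk u hu => by
    obtain ⟨n, rfl⟩ := Subgroup.mem_zpowers_iff.1 hu
    exact (show Commute k x from h.central k hk).zpow_right n
  have hw : x ^ l * (x ^ i * x ^ j)⁻¹ ∈ Subgroup.zpowers x :=
    mul_mem (pow_mem (Subgroup.mem_zpowers _) _)
      (inv_mem (mul_mem (pow_mem (Subgroup.mem_zpowers _) _) (pow_mem (Subgroup.mem_zpowers _) _)))
  refine ⟨_, hw, ?_⟩
  calc a * b = ((a * b) * (a⁻¹ * b⁻¹)) * (b * a) := by group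
    _ = (b * a) * (x ^ l * (x ^ i * x ^ j)⁻¹) := by rw [hc, ← (hcen _ (mul_mem hb ha) _ hw).eq]

end Inverting

end Cfsg.Agent.Spor.JFour.Eleven
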