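import Cfsg.Agent.Lib.Spor.JFourType.Eleven.GLSubgroup

/-!
The Sylow subgroups for the prime eleven and the classes of elements of order eleven in a group of Janko-four type of
the given order.
-/

set_option autoImplicit false
set_option maxRecDepth 100000
set_option Elab.async false
set_option linter.style.haveILetI false

open Cfsg
open scoped Pointwise

namespace Cfsg.Agent.Spor.JFour

theorem sylow_eleven_structure {G : Type*} [Group G] [Finite G] [IsSimpleGroup G] (hG : ¬ IsMulCommutative G)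
    (hcard : Nat.card G = 86775571046077562880) (hJ : Cfsg.IsOfJankoFourType G) (U : Sylow 11 G) :
    Cfsg.IsExtraspecial 11 ↥(U : Subgroup G) ∧ Nat.card ↥(U : Subgroup G) = 11 ^ 3 ∧
      Monoid.exponent ↥(U : Subgroup G) = 11 ∧
      Nat.card ↥(Subgroup.normalizer ((U : Subgroup G) : Set G)) = 2 ^ 4 * 3 * 5 * 11 ^ 3 ∧
      ∃ K : Subgroup G, K ≤ Subgroup.normalizer ((U : Subgroup G) : Set G) ∧
        Nonempty (↥K ≃* GL (Fin 2) (ZMod 3)) := by
  classical
  haveI : Fact (Nat.Prime 11) := ⟨by norm_num⟩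
  obtain ⟨z, P, hJ⟩ := hJ
  obtain ⟨S⟩ := exists_setting hJ
  obtain ⟨Fr⟩ := exists_frameA S
  obtain ⟨E⟩ := S.exists_elevenH
  obtain ⟨D⟩ := Fr.exists_elevenG hG hcard E
  have hn := Fr.noncomm hG hcard D
  let U0 : Sylow 11 G := Sylow.ofCard D.K (D.card_K_eq hcard)
  obtain ⟨g, hg⟩ := MulAction.exists_smul_eq G U0 U
  set c := MulAut.conj g with hc
  have hU : (U : Subgroup G) = D.K.map c.toMonoidHom := by
    rw [← hg, ← Sylow.coe_ofCard D.K (D.card_K_eq hcard)]; rfl
  have hcardU : Nat.card ↥(U : Subgroup G) = 11 ^ 3 := by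
    rw [hU, Subgroup.card_map_of_injective c.injective, D.card_K_cube]
  have hback : ∀ u : ↥(U : Subgroup G), ∃ k ∈ D.K, c k = u := fun u => by
    have hu : (u : G) ∈ D.K.map c.toMonoidHom := hU ▸ u.2
    exact hu
  have hna : ¬ IsMulCommutative ↥(U : Subgroup G) := fun h => by
    obtain ⟨a, ha, b, hb, hne⟩ := hn
    refine hne (c.injective ?_)
    rw [map_mul, map_mul]
    exact congrArg Subtype.val (h.is_comm.comm (⟨c a, hU ▸ ⟨a, ha, rfl⟩⟩ : ↥(U : Subgroup G))
      ⟨c b, hU ▸ ⟨b, hb, rfl⟩⟩)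
  refine ⟨Fus.extraspecial_of_cube hcardU hna, hcardU, ?_, ?_, ?_⟩
  · refine ((Nat.dvd_prime (by norm_num : Nat.Prime 11)).1 (Monoid.exponent_dvd_of_forall_pow_eq_one fun u => ?_))
      |>.resolve_left fun e => hna ?_
    · obtain ⟨k, hk, hku⟩ := hback u
      refine Subtype.ext ?_
      rw [SubgroupClass.coe_pow, ← hku, ← map_pow, D.pow_eleven hn hk, map_one, Subgroup.coe_one]
    · haveI := Monoid.exp_eq_one_iff.1 e
      exact ⟨⟨fun a b => Subsingleton.elim _ _⟩⟩
  · rw [hU, ← Subgroup.map_equiv_normalizer_eq D.K c, Subgroup.card_map_of_injective c.injective,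
      le_antisymm (Fr.normalizer_K_le hG hcard D) D.normalizer_X_le, D.card_NX]
    norm_num
  · obtain ⟨J, hJN, ⟨e⟩⟩ := Fr.exists_GL23 hG hcard D
    refine ⟨J.map c.toMonoidHom, ?_, ⟨(Subgroup.equivMapOfInjective J c.toMonoidHom c.injective).symm.trans e⟩⟩
    rw [hU, ← Subgroup.map_equiv_normalizer_eq D.K c]
    exact Subgroup.map_mono hJN

theorem two_classes_eleven {G : Type*} [Group G] [Finite G] [IsSimpleGroup G] (hG : ¬ IsMulCommutative G)
    (hcard : Nat.card G = 86775571046077562880) (hJ : Cfsg.IsOfJankoFourType G) :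
    ∃ x y : G, orderOf x = 11 ∧ orderOf y = 11 ∧ ¬ IsConj x y ∧
      ∀ w : G, orderOf w = 11 → IsConj w x ∨ IsConj w y := by
  obtain ⟨z, P, hJ⟩ := hJ
  obtain ⟨S⟩ := exists_setting hJ
  obtain ⟨Fr⟩ := exists_frameA S
  obtain ⟨E⟩ := S.exists_elevenH
  obtain ⟨D⟩ := Fr.exists_elevenG hG hcard E
  obtain ⟨-, y, hy, hxy, hw⟩ := Fr.classes_eleven hG hcard D
  exact ⟨E.x, y, E.orderOf_x, hy, hxy, hw⟩

end Cfsg.Agent.Spor.JFour
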