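import Cfsg.Agent.Lib.Spor.JFourType.Eleven.Second

/-!
Two normalisers of elementary abelian groups of order 2048 through one element of order eleven: their intersection
meets either group trivially, and the element is not self-normalising in it.
-/

set_option autoImplicit false
set_option maxRecDepth 100000
set_option Elab.async false
set_option linter.style.haveILetI false

open Cfsg
open scoped Pointwise

namespace Cfsg.Agent.Spor.JFour.Eleven.Second

variable {G : Type*} [Group G] [Finite G] {z : G} {A A' : Subgroup G} {t t' y : G}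

omit [Finite G] in
theorem pow_cases (T : Second z A t y) (i : ℕ) : t ^ i = 1 ∨ t ^ i = t := by
  rcases Nat.even_or_odd i with ⟨k, rfl⟩ | ⟨k, rfl⟩
  · left; rw [← two_mul, pow_mul, pow_two, T.tt, one_pow]
  · right; rw [pow_succ, pow_mul, pow_two, T.tt, one_pow, one_mul]

omit [Finite G] in
/-- An involution of the normaliser commuting with the element is the given one. -/
theorem invol_eq (T : Second z A t y) {u : G} (hu : u ∈ Subgroup.normalizer (A : Set G)) (huy : u * y = y * u)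
    (h2 : u * u = 1) : u = 1 ∨ u = t := by
  obtain ⟨i, j, he⟩ := T.cN u hu huy
  have hj : y ^ j = 1 := by
    have hcm : Commute (t ^ i) (y ^ j) := (show Commute t y from T.ty).pow_pow i j
    have h := h2
    rw [he, ← pow_two, hcm.mul_pow, ← pow_mul, mul_comm i 2, pow_mul, pow_two t, T.tt, one_pow, one_mul] at h
    have h11 : (y ^ j) ^ 11 = 1 := by rw [← pow_mul, mul_comm, pow_mul, T.y_pow, one_pow]
    have := pow_gcd_eq_one.2 ⟨h, h11⟩
    rwa [show Nat.gcd 2 11 = 1 by norm_num, pow_one] at this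
  rw [he, hj, mul_one]
  exact T.pow_cases i

omit [Finite G] in
theorem not_mem_normalizer (T : Second z A t y) (T' : Second z A' t' y) (hne : t ≠ t') :
    t ∉ Subgroup.normalizer (A' : Set G) := fun h =>
  (T'.invol_eq h T.ty T.tt).elim T.t_ne hne

theorem inter_trivial (T : Second z A t y) (T' : Second z A' t' y) (hne : t ≠ t') {a : G} (ha : a ∈ A)
    (ha' : a ∈ Subgroup.normalizer (A' : Set G)) : a = 1 := by
  classical
  haveI : Fact (Nat.Prime 11) := ⟨by norm_num⟩
  haveI : Fact (Nat.Prime 2) := ⟨Nat.prime_two⟩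
  set W := A ⊓ Subgroup.normalizer (A' : Set G) with hW
  have hyN := T.y_mem
  have hyN' := T'.y_mem
  have hyconj : ∀ {B : Subgroup G}, y ∈ Subgroup.normalizer (B : Set G) → ∀ b ∈ B, y * b * y⁻¹ ∈ B :=
    fun hB b hb => (Subgroup.mem_normalizer_iff.1 hB b).1 hb
  have hWy : ∀ w ∈ W, y * w * y⁻¹ ∈ W := fun w hw =>
    Subgroup.mem_inf.2 ⟨hyconj hyN w hw.1, mul_mem (mul_mem hyN' hw.2) (inv_mem hyN')⟩
  have hfpf : ∀ w ∈ W, w * y = y * w → w = 1 := fun w hw hwy => by
    rcases T.invol_eq (Subgroup.le_normalizer hw.1) hwy (T.A_sq w hw.1) with e | e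
    · exact e
    · exact absurd (e ▸ hw.2) (T.not_mem_normalizer T' hne)
  have hsub : ∀ V : Subgroup G, V ≤ W → (∀ v ∈ V, y * v * y⁻¹ ∈ V) → Nat.card ↥V = 1 ∨ Nat.card ↥V = 1024 := by
    intro V hV hVy
    have hm := card_fixed_modEq (p := 11) T.y_pow hVy
    have hbot : V ⊓ Subgroup.centralizer ({y} : Set G) = ⊥ := by
      rw [Subgroup.eq_bot_iff_forall]
      exact fun w hw => hfpf w (hV hw.1) (Subgroup.mem_centralizer_singleton_iff.1 hw.2)
    rw [hbot, Subgroup.card_bot] at hm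
    obtain ⟨k, hk, hc⟩ := (Nat.dvd_prime_pow Nat.prime_two).1
      (T.card_A ▸ Subgroup.card_dvd_of_le (hV.trans inf_le_left : V ≤ A))
    rw [hc, Nat.ModEq] at hm
    rw [hc]
    interval_cases k <;> omega
  rcases hsub W le_rfl hWy with h1 | h1
  · exact Subgroup.mem_bot.1 ((Subgroup.eq_bot_of_card_eq W h1) ▸ Subgroup.mem_inf.2 ⟨ha, ha'⟩)
  exfalso
  rcases hsub (W ⊓ A') inf_le_left (fun w hw => Subgroup.mem_inf.2 ⟨hWy w hw.1, hyconj hyN' w hw.2⟩) with h2 | h2
  · -- the subgroup embeds in the Mathieu group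
    obtain ⟨f, hf⟩ := T'.toM24
    have hWN : W ≤ Subgroup.normalizer (A' : Set G) := inf_le_right
    let g : ↥W →* ↥Cfsg.M24 := f.comp (Subgroup.inclusion hWN)
    have hg : Function.Injective g := (injective_iff_map_eq_one g).2 fun w hw => by
      have h3 : (w : G) ∈ W ⊓ A' := Subgroup.mem_inf.2 ⟨w.2, (hf _).1 hw⟩
      rw [Subgroup.eq_bot_of_card_eq _ h2] at h3
      exact Subtype.ext (Subgroup.mem_bot.1 h3)
    refine M24_no_elem (S := g.range) ?_ ?_
    · rw [← h1]
      exact (Nat.card_congr (MonoidHom.ofInjective hg).toEquiv).symm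
    · rintro _ ⟨w, rfl⟩
      rw [← map_mul, show w * w = 1 from Subtype.ext (T.A_sq _ w.2.1), map_one]
  · have hWA' : W ≤ A' := fun w hw => by
      have e : W ⊓ A' = W := Subgroup.eq_of_le_of_card_ge inf_le_left (by rw [h1, h2])
      exact (e.ge hw).2
    -- an element of the second class in the subgroup
    obtain ⟨u, v, hu, hv, huv⟩ := T.three
    have hidx : (W.subgroupOf A).index = 2 := by
      have := (W.subgroupOf A).card_mul_index
      rw [Nat.card_congr (Subgroup.subgroupOfEquivOfLe inf_le_left).toEquiv, h1, T.card_A] at this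
      omega
    have hprod := Subgroup.mul_mem_iff_of_index_two hidx (a := ⟨u, hu⟩) (b := ⟨v, hv⟩)
    simp only [Subgroup.mem_subgroupOf, Subgroup.coe_mul] at hprod
    have hin : t' ∈ Subgroup.normalizer (A : Set G) := by
      by_cases h3 : u ∈ W
      · exact huv t' (Or.inl (T'.A_comm _ T'.t_mem _ (hWA' h3)))
      by_cases h4 : v ∈ W
      · exact huv t' (Or.inr (Or.inl (T'.A_comm _ T'.t_mem _ (hWA' h4))))
      exact huv t' (Or.inr (Or.inr (T'.A_comm _ T'.t_mem _ (hWA' (hprod.2 (iff_of_false h3 h4))))))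
    exact T'.not_mem_normalizer T hne.symm hin

/-- The element is properly normalised in the intersection. -/
theorem pair_false (T : Second z A t y) (T' : Second z A' t' y) (hne : t ≠ t')
    (hcard : Nat.card G = 86775571046077562880)
    (hN : ∀ h ∈ Subgroup.normalizer (A : Set G) ⊓ Subgroup.normalizer (A' : Set G),
      h ∈ Subgroup.normalizer (Subgroup.zpowers y : Set G) → h ∈ Subgroup.zpowers y) : False := by
  classical
  haveI : Fact (Nat.Prime 11) := ⟨by norm_num⟩
  haveI : Fact (Nat.Prime 2) := ⟨Nat.prime_two⟩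
  set D := Subgroup.normalizer (A : Set G) ⊓ Subgroup.normalizer (A' : Set G) with hD
  have hyD : y ∈ D := Subgroup.mem_inf.2 ⟨T.y_mem, T'.y_mem⟩
  obtain ⟨f0, hf0⟩ := T.toM24
  let f : ↥D →* ↥Cfsg.M24 := f0.comp (Subgroup.inclusion inf_le_left)
  have hf : Function.Injective f := (injective_iff_map_eq_one f).2 fun w hw =>
    Subtype.ext (T.inter_trivial T' hne ((hf0 _).1 hw) w.2.2)
  have hDd : Nat.card ↥D ∣ 244823040 := by
    rw [← Golay.card_M24, Nat.card_congr (MonoidHom.ofInjective hf).toEquiv]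
    exact Subgroup.card_subgroup_dvd_card _
  -- it is large
  have hbig : 2897 ≤ Nat.card ↥D := by
    have h1 := Subgroup.index_inf_le (H := Subgroup.normalizer (A : Set G)) (K := Subgroup.normalizer (A' : Set G))
    have e1 := Subgroup.card_mul_index (Subgroup.normalizer (A : Set G))
    have e2 := Subgroup.card_mul_index (Subgroup.normalizer (A' : Set G))
    have e3 := Subgroup.card_mul_index D
    rw [T.card_N, hcard, show 86775571046077562880 = 2 ^ 11 * 244823040 * 173067389 by norm_num] at e1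
    rw [T'.card_N, hcard, show 86775571046077562880 = 2 ^ 11 * 244823040 * 173067389 by norm_num] at e2
    rw [Nat.eq_of_mul_eq_mul_left (by norm_num) e1, Nat.eq_of_mul_eq_mul_left (by norm_num) e2] at h1
    by_contra hlt
    push Not at hlt
    have := Nat.mul_le_mul (show Nat.card ↥D ≤ 2896 by omega) h1
    rw [← hD, e3, hcard] at this
    norm_num at this
  -- the transfer
  set yD : ↥D := ⟨y, hyD⟩ with hyDdef
  have hyo : orderOf yD = 11 := by rw [hyDdef, Subgroup.orderOf_mk, T.orderOf_y]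
  have h11 : ¬ 11 ^ 2 ∣ Nat.card ↥D := fun h => absurd (h.trans hDd) (by norm_num)
  have hfac : (Nat.card ↥D).factorization 11 = 1 := by
    have h1 : 11 ∣ Nat.card ↥D := hyo ▸ orderOf_dvd_natCard yD
    have h2 := (Fact.out : Nat.Prime 11).factorization_pos_of_dvd Nat.card_pos.ne' h1
    by_contra hne1
    exact h11 (((Fact.out : Nat.Prime 11).pow_dvd_iff_le_factorization Nat.card_pos.ne').2 (by omega))
  let Y : Sylow 11 ↥D := Sylow.ofCard (Subgroup.zpowers yD) (by rw [Nat.card_zpowers, hyo, hfac, pow_one])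
  have hYc : (Y : Subgroup ↥D) = Subgroup.zpowers yD := Sylow.coe_ofCard _ _
  have hz : ∀ g : ↥D, g ∈ Subgroup.zpowers yD ↔ (g : G) ∈ Subgroup.zpowers y := fun g => by
    simp only [Subgroup.mem_zpowers_iff]
    exact exists_congr fun i => by rw [Subtype.ext_iff, SubgroupClass.coe_zpow]
  have hNY : ∀ g ∈ Subgroup.normalizer ((Y : Subgroup ↥D) : Set ↥D), g ∈ Subgroup.zpowers yD := fun g hg => by
    rw [hYc] at hg
    refine (hz g).2 (hN _ g.2 (Subgroup.mem_normalizer_iff.2 fun w => ?_))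
    constructor
    · intro hw
      have hwD : w ∈ D := Subgroup.zpowers_le.2 hyD hw
      exact (hz _).1 ((Subgroup.mem_normalizer_iff.1 hg ⟨w, hwD⟩).1 ((hz _).2 hw))
    · intro hw
      have hwD : w ∈ D := by
        have := mul_mem (mul_mem (inv_mem g.2) (Subgroup.zpowers_le.2 hyD hw)) g.2
        rwa [show (g : G)⁻¹ * ((g : G) * w * (g : G)⁻¹) * g = w by group] at this
      exact (hz ⟨w, hwD⟩).1 ((Subgroup.mem_normalizer_iff.1 hg ⟨w, hwD⟩).2 ((hz _).2 hw))
  have hP : Subgroup.normalizer ((Y : Subgroup ↥D) : Set ↥D) ≤ Subgroup.centralizer ((Y : Subgroup ↥D) : Set ↥D) := by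
    intro g hg
    refine Subgroup.mem_centralizer_iff.2 fun w hw => ?_
    rw [SetLike.mem_coe, hYc] at hw
    obtain ⟨i, rfl⟩ := Subgroup.mem_zpowers_iff.1 hw
    obtain ⟨j, rfl⟩ := Subgroup.mem_zpowers_iff.1 (hNY g hg)
    exact ((Commute.refl yD).zpow_zpow i j).eq
  set M := (MonoidHom.transferSylow Y hP).ker with hM
  have hcomp := MonoidHom.ker_transferSylow_isComplement' Y hP
  have hMc : Nat.card ↥M * 11 = Nat.card ↥D := by
    have := hcomp.card_mul_card
    have hYcard : Nat.card ↥(Y : Subgroup ↥D) = 11 := by rw [hYc, Nat.card_zpowers, hyo]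
    rwa [hYcard] at this
  have hMy : ∀ m ∈ M, yD * m * yD⁻¹ ∈ M := fun m hm => (MonoidHom.normal_ker _).conj_mem m hm yD
  have hMf : ∀ m ∈ M, m * yD = yD * m → m = 1 := fun m hm hc => by
    have hmY : m ∈ (Y : Subgroup ↥D) := by
      rw [hYc]
      refine hNY m (Subgroup.centralizer_le_normalizer _ ?_)
      rw [hYc, Subgroup.zpowers_eq_closure, Subgroup.centralizer_closure, Subgroup.mem_centralizer_singleton_iff]
      exact hc
    exact Subgroup.mem_bot.1 (hcomp.disjoint.eq_bot ▸ Subgroup.mem_inf.2 ⟨hm, hmY⟩)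
  have hMd : Nat.card ↥M ∣ 22256640 := by
    have := hDd
    rw [← hMc, show 244823040 = 22256640 * 11 by norm_num] at this
    exact Nat.dvd_of_mul_dvd_mul_right (by norm_num) this
  -- invariant Sylow subgroups of the complement
  have hinv : ∀ (q : ℕ) [Fact q.Prime], ∃ V : Subgroup ↥D, V ≤ M ∧ (∀ v ∈ V, yD * v * yD⁻¹ ∈ V) ∧
      Nat.card ↥V = q ^ (Nat.card ↥M).factorization q := by
    intro q hq
    obtain ⟨T0⟩ : Nonempty (Sylow q ↥M) := inferInstance
    set V0 := (T0 : Subgroup ↥M).map M.subtype with hV0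
    haveI : M.Normal := MonoidHom.normal_ker _
    have hsup := Sylow.normalizer_sup_eq_top T0
    set N0 := Subgroup.normalizer (V0 : Set ↥D) with hN0
    have hidx : N0.index ∣ Nat.card ↥M := by
      have e1 : M.index = M.relIndex N0 := by
        rw [← Subgroup.relIndex_top_right M, ← hsup, Subgroup.relIndex_sup_right]
      have e2 := (M.subgroupOf N0).card_mul_index
      rw [show (M.subgroupOf N0).index = M.index from e1.symm, ← Subgroup.inf_subgroupOf_right,
        Nat.card_congr (Subgroup.subgroupOfEquivOfLe inf_le_right).toEquiv] at e2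
      have e3 := Subgroup.card_mul_index N0
      have e4 := Subgroup.card_mul_index M
      refine ⟨Nat.card ↥(M ⊓ N0), ?_⟩
      have hpos : 0 < M.index := Nat.pos_of_ne_zero Subgroup.FiniteIndex.index_ne_zero
      refine Nat.eq_of_mul_eq_mul_right hpos ?_
      rw [e4, ← e3, ← e2]
      ring
    have h11M : ¬ 11 ∣ Nat.card ↥M := fun h => absurd (h.trans hMd) (by norm_num)
    have h11N : 11 ∣ Nat.card ↥N0 := by
      have h1 : 11 ∣ Nat.card ↥N0 * N0.index := by rw [Subgroup.card_mul_index, ← hMc]; exact dvd_mul_left _ _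
      exact ((Fact.out : Nat.Prime 11).dvd_mul.1 h1).resolve_right fun h => h11M (h.trans hidx)
    obtain ⟨⟨w, hw⟩, hwo⟩ := exists_prime_orderOf_dvd_card' 11 h11N
    rw [Subgroup.orderOf_mk] at hwo
    let Y' : Sylow 11 ↥D := Sylow.ofCard (Subgroup.zpowers w) (by rw [Nat.card_zpowers, hwo, hfac, pow_one])
    obtain ⟨c, hc⟩ := MulAction.exists_smul_eq ↥D Y' Y
    have hmap : (Subgroup.zpowers w).map (MulAut.conj c).toMonoidHom = Subgroup.zpowers yD := by
      rw [← hYc]
      exact congrArg (fun W : Sylow 11 ↥D => (W : Subgroup ↥D)) hc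
    have hyin : yD ∈ (Subgroup.zpowers w).map (MulAut.conj c).toMonoidHom := hmap.symm ▸ Subgroup.mem_zpowers _
    obtain ⟨w', hw', hwy⟩ := hyin
    have hw'N : w' ∈ N0 := Subgroup.zpowers_le.2 hw hw'
    refine ⟨V0.map (MulAut.conj c).toMonoidHom, ?_, ?_, ?_⟩
    · rintro _ ⟨v, hv, rfl⟩
      exact (MonoidHom.normal_ker _).conj_mem v (Subgroup.map_subtype_le _ hv) c
    · rintro _ ⟨v, hv, rfl⟩
      refine ⟨w' * v * w'⁻¹, (Subgroup.mem_normalizer_iff.1 hw'N v).1 hv, ?_⟩
      rw [map_mul, map_mul, map_inv, hwy]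
    · rw [Subgroup.card_map_of_injective (MulAut.conj c).injective, hV0,
        Subgroup.card_map_of_injective M.subtype_injective]
      exact T0.card_eq_multiplicity
  have hmod : ∀ (q : ℕ) [Fact q.Prime], q ^ (Nat.card ↥M).factorization q % 11 = 1 := fun q hq => by
    obtain ⟨V, hVM, hVy, hVc⟩ := hinv q
    have h := card_fixed_modEq (p := 11) (show yD ^ 11 = 1 from hyo ▸ pow_orderOf_eq_one yD) hVy
    have hbot : V ⊓ Subgroup.centralizer ({yD} : Set ↥D) = ⊥ := by
      rw [Subgroup.eq_bot_iff_forall]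
      exact fun v hv => hMf v (hVM hv.1) (Subgroup.mem_centralizer_singleton_iff.1 hv.2)
    rw [hVc, hbot, Subgroup.card_bot] at h
    exact h
  -- the order of the complement
  set n := Nat.card ↥M with hn
  have hn0 : n ≠ 0 := Nat.card_pos.ne'
  have hfle : ∀ (r e : ℕ), r.Prime → ¬ r ^ (e + 1) ∣ 22256640 → n.factorization r ≤ e := fun r e hr hnd => by
    by_contra hlt
    exact hnd (((hr.pow_dvd_iff_le_factorization hn0).2 (by omega)).trans hMd)
  have hnot : ∀ (r : ℕ) [Fact r.Prime] (e : ℕ), ¬ r ^ (e + 1) ∣ 22256640 → (∀ a, 1 ≤ a → a ≤ e → r ^ a % 11 ≠ 1) →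
      ¬ r ∣ n := fun r hr e hnd hall hdvd =>
    hall _ (hr.out.factorization_pos_of_dvd hn0 hdvd) (hfle r e hr.out hnd) (hmod r)
  have hn2 : n ∣ 2 ^ 10 * 23 := by
    have key : ∀ (r M : ℕ) [Fact r.Prime], ¬ r ∣ n → n ∣ M * r → n ∣ M := fun r M hr h hd =>
      Nat.Coprime.dvd_of_dvd_mul_right ((hr.out.coprime_iff_not_dvd.2 h).symm) hd
    haveI : Fact (Nat.Prime 3) := ⟨Nat.prime_three⟩
    haveI : Fact (Nat.Prime 5) := ⟨by norm_num⟩
    haveI : Fact (Nat.Prime 7) := ⟨by norm_num⟩
    have h3 := hnot 3 3 (by norm_num) (fun a h1 h2 => by interval_cases a <;> norm_num)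
    have h5 := hnot 5 1 (by norm_num) (fun a h1 h2 => by interval_cases a; norm_num)
    have h7 := hnot 7 1 (by norm_num) (fun a h1 h2 => by interval_cases a; norm_num)
    refine key 7 _ h7 (key 5 _ h5 (key 3 _ h3 (key 3 _ h3 (key 3 _ h3 ?_))))
    exact hMd.trans (by norm_num)
  have hS10 : n.factorization 2 = 10 := by
    have hle := hfle 2 10 Nat.prime_two (by norm_num)
    have hm2 := hmod 2
    have h264 : 264 ≤ n := by omega
    have h0 : n.factorization 2 ≠ 0 := fun h0 => by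
      have hodd : ¬ 2 ∣ n := fun hd => by
        have := Nat.prime_two.factorization_pos_of_dvd hn0 hd
        omega
      have := Nat.le_of_dvd (by norm_num : 0 < 23)
        (((Nat.prime_two.coprime_iff_not_dvd.2 hodd).symm.pow_right 10).dvd_of_dvd_mul_left hn2)
      omega
    generalize n.factorization 2 = a at *
    interval_cases a <;> omega
  obtain ⟨V, hVM, hVy, hVc⟩ := hinv 2
  rw [hS10] at hVc
  have hVp : IsPGroup 2 ↥V := IsPGroup.of_card hVc
  haveI : Nontrivial ↥V := Finite.one_lt_card_iff_nontrivial.1 (by rw [hVc]; norm_num)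
  have hsub : ∀ W : Subgroup ↥D, W ≤ V → (∀ w ∈ W, yD * w * yD⁻¹ ∈ W) → (∃ w ∈ W, w ≠ 1) → W = V := by
    intro W hW hWy ⟨w, hw, hw1⟩
    have h := card_fixed_modEq (p := 11) (show yD ^ 11 = 1 from hyo ▸ pow_orderOf_eq_one yD) hWy
    have hbot : W ⊓ Subgroup.centralizer ({yD} : Set ↥D) = ⊥ := by
      rw [Subgroup.eq_bot_iff_forall]
      exact fun v hv => hMf v (hVM (hW hv.1)) (Subgroup.mem_centralizer_singleton_iff.1 hv.2)
    rw [hbot, Subgroup.card_bot] at h
    obtain ⟨k, hk, hc⟩ := (Nat.dvd_prime_pow Nat.prime_two).1 (hVc ▸ Subgroup.card_dvd_of_le hW)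
    rw [hc, Nat.ModEq] at h
    have hk10 : k = 10 := by
      have hk0 : k ≠ 0 := by
        rintro rfl
        rw [pow_zero] at hc
        exact hw1 (Subgroup.mem_bot.1 ((Subgroup.eq_bot_of_card_eq W hc) ▸ hw))
      interval_cases k <;> omega
    exact Subgroup.eq_of_le_of_card_ge hW (by rw [hc, hVc, hk10])
  -- abelian
  have habel : ∀ a ∈ V, ∀ b ∈ V, a * b = b * a := by
    haveI := hVp.center_nontrivial
    obtain ⟨c, hc⟩ := exists_ne (1 : Subgroup.center ↥V)
    set Z := (Subgroup.center ↥V).map V.subtype with hZ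
    have hZy : ∀ w ∈ Z, yD * w * yD⁻¹ ∈ Z := by
      rintro _ ⟨w, hw, rfl⟩
      refine ⟨⟨yD * (w : ↥D) * yD⁻¹, hVy _ w.2⟩, Subgroup.mem_center_iff.2 fun u => Subtype.ext ?_, rfl⟩
      show (u : ↥D) * (yD * (w : ↥D) * yD⁻¹) = yD * (w : ↥D) * yD⁻¹ * u
      have hu' : yD⁻¹ * (u : ↥D) * yD ∈ V := by
        have hpow : ∀ k : ℕ, ∀ v ∈ V, yD ^ k * v * (yD ^ k)⁻¹ ∈ V := by
          intro k
          induction k with
          | zero => intro v hv; simpa using hv
          | succ k ih =>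
            intro v hv
            rw [pow_succ', show yD * yD ^ k * v * (yD * yD ^ k)⁻¹ = yD * (yD ^ k * v * (yD ^ k)⁻¹) * yD⁻¹ by group]
            exact hVy _ (ih v hv)
        have h := hpow 10 _ u.2
        have e : yD⁻¹ = yD ^ 10 := inv_eq_of_mul_eq_one_right (by rw [← pow_succ']; exact (orderOf_dvd_iff_pow_eq_one (n := 11)).1 (by rw [hyo]))
        rw [← e, inv_inv] at h
        exact h
      have h := congrArg Subtype.val (Subgroup.mem_center_iff.1 hw ⟨_, hu'⟩)
      change yD⁻¹ * (u : ↥D) * yD * (w : ↥D) = (w : ↥D) * (yD⁻¹ * (u : ↥D) * yD) at h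
      calc (u : ↥D) * (yD * (w : ↥D) * yD⁻¹) = yD * (yD⁻¹ * (u : ↥D) * yD * (w : ↥D)) * yD⁻¹ := by group
        _ = _ := by rw [h]; group
    have e := hsub Z (Subgroup.map_subtype_le _) hZy
      ⟨((c : ↥V) : ↥D), ⟨(c : ↥V), c.2, rfl⟩, fun e => hc (Subtype.ext (Subtype.ext e))⟩
    intro a ha b hb
    obtain ⟨a', ha', rfl⟩ := e.ge ha
    exact (congrArg Subtype.val (Subgroup.mem_center_iff.1 ha' ⟨b, hb⟩)).symm
  -- exponent two
  let O : Subgroup ↥D :=
    { carrier := {v | v ∈ V ∧ v * v = 1}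
      one_mem' := ⟨one_mem V, mul_one 1⟩
      mul_mem' := fun {a b} ha hb => ⟨mul_mem ha.1 hb.1, by
        rw [(show Commute b a from habel _ hb.1 _ ha.1).mul_mul_mul_comm, ha.2, hb.2, mul_one]⟩
      inv_mem' := fun {a} ha => ⟨inv_mem ha.1, by rw [← mul_inv_rev, ha.2, inv_one]⟩ }
  have hO : O = V := by
    obtain ⟨s, hs⟩ := exists_prime_orderOf_dvd_card' (G := ↥V) 2 (by rw [hVc]; exact dvd_pow_self 2 (by norm_num))
    refine hsub O (fun v hv => hv.1) (fun v hv => ⟨hVy v hv.1, ?_⟩) ⟨(s : ↥D), ⟨s.2, ?_⟩, fun e => ?_⟩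
    · rw [show yD * v * yD⁻¹ * (yD * v * yD⁻¹) = yD * (v * v) * yD⁻¹ by group, hv.2]; group
    · rw [← pow_two, ← hs, ← Subgroup.orderOf_coe, pow_orderOf_eq_one]
    · rw [← Subgroup.orderOf_coe, e, orderOf_one] at hs; norm_num at hs
  refine M24_no_elem (S := V.map f) (by rw [Subgroup.card_map_of_injective hf, hVc]; norm_num) ?_
  rintro _ ⟨v, hv, rfl⟩
  rw [← map_mul, (hO.ge hv).2, map_one]

end Cfsg.Agent.Spor.JFour.Eleven.Second
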