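import Cfsg.Agent.Lib.Spor.JFourType.Eleven.Fixed
import Cfsg.Agent.Lib.Spor.JFourType.Eleven.Pair

/-!
The Sylow subgroup for the prime eleven is not abelian.
-/

set_option autoImplicit false
set_option maxRecDepth 100000
set_option Elab.async false
set_option linter.style.haveILetI false

open Cfsg
open scoped Pointwise

namespace Cfsg.Agent.Spor.JFour.Frame

variable {G : Type*} [Group G] [Finite G] [IsSimpleGroup G] {z : G} {P : Subgroup G} {S : Setting z P}
  {E : ElevenH S} (Fr : Frame S)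

include Fr in
theorem exists_second_in (hG : ¬ IsMulCommutative G) (hcard : Nat.card G = 86775571046077562880) (D : ElevenG E) :
    ∃ (A : Subgroup G) (t y : G), Eleven.Second z A t y ∧ y ∈ D.K := by
  obtain ⟨A, t, y, T⟩ := Fr.exists_second_eleven hG
  obtain ⟨g, hg⟩ := D.exists_conj_mem hcard T.y_pow
  exact ⟨_, _, _, T.conj g, hg⟩

include Fr in
/-- The Sylow subgroup is not abelian. -/
theorem noncomm (hG : ¬ IsMulCommutative G) (hcard : Nat.card G = 86775571046077562880) (D : ElevenG E) :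
    ∃ a ∈ D.K, ∃ b ∈ D.K, a * b ≠ b * a := by
  classical
  haveI : Fact (Nat.Prime 11) := ⟨by norm_num⟩
  by_contra hcon
  push Not at hcon
  obtain ⟨A, t, y, T, hyK⟩ := Fr.exists_second_in hG hcard D
  obtain ⟨R, hRC, -, hRn, hsq, hI⟩ := T.exists_core
  have hti : t⁻¹ = t := inv_eq_of_mul_eq_one_right T.tt
  have hzi : z⁻¹ = z := inv_eq_of_mul_eq_one_right S.zz
  have hKR : D.K ≤ R := fun k hk =>
    Eleven.Second.mem_core hsq (hcon k hk y hyK) (m := 665) (D.odd_pow hk)
  -- the centraliser of the element normalises the Sylow subgroup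
  have hRN : R ≤ Subgroup.normalizer (D.K : Set G) := by
    have key : ∀ r ∈ R, ∀ k ∈ D.K, r * k * r⁻¹ ∈ D.K := fun r hr k hk => by
      obtain ⟨w, hw, he⟩ := hI.comm hr (hKR hk)
      have hwr : w * r⁻¹ = r⁻¹ * w := by
        obtain ⟨i, rfl⟩ := Subgroup.mem_zpowers_iff.1 hw
        exact (((show Commute r y from hI.central r hr).inv_left).zpow_right i).symm.eq
      rw [show r * k * r⁻¹ = k * w by rw [he, mul_assoc, hwr, ← mul_assoc, mul_inv_cancel_right]]
      exact mul_mem hk (Subgroup.zpowers_le.2 hyK hw)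
    intro r hr
    refine Subgroup.mem_normalizer_iff.2 fun k => ⟨key r hr k, fun h => ?_⟩
    have := key _ (inv_mem hr) _ h
    rwa [show r⁻¹ * (r * k * r⁻¹) * r⁻¹⁻¹ = k by group] at this
  have hCn : ∀ c, c * y = y * c → c ∈ Subgroup.normalizer (D.K : Set G) := by
    have key : ∀ c, c * y = y * c → ∀ k ∈ D.K, c * k * c⁻¹ ∈ D.K := fun c hc k hk =>
      D.mem_K_of_normalizes hcard (hRN (hRn c hc k (hKR hk)))
        (by rw [conj_pow, D.K_pow hk, mul_one, mul_inv_cancel])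
    intro c hc
    refine Subgroup.mem_normalizer_iff.2 fun k => ⟨key c hc k, fun h => ?_⟩
    have := key c⁻¹ ((show Commute c y from hc).inv_left).eq _ h
    rwa [show c⁻¹ * (c * k * c⁻¹) * c⁻¹⁻¹ = k by group] at this
  have hNX : ∀ {g : G}, g ∈ Subgroup.normalizer (D.K : Set G) →
      ∀ w ∈ Subgroup.zpowers E.x, g * w * g⁻¹ ∈ Subgroup.zpowers E.x := fun hg w hw =>
    (Subgroup.mem_normalizer_iff.1 (Fr.normalizer_K_le hG hcard D hg) w).1 hw
  -- inverted elements
  have hinvV : ∀ {g : G}, g ∈ Subgroup.normalizer (D.K : Set G) → ∀ k ∈ D.K, z * k * z = k⁻¹ →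
      z * (g * k * g⁻¹) * z = (g * k * g⁻¹)⁻¹ := fun {g} hg k hk hzk => by
    obtain ⟨i, hi⟩ := Subgroup.mem_zpowers_iff.1 (hNX hg _ (Subgroup.mem_zpowers _))
    have hu : g⁻¹ * z * g * E.x = E.x * (g⁻¹ * z * g) := by
      have hzx : Commute z (g * E.x * g⁻¹) := hi ▸ ((show Commute z E.x from E.x_z.symm).zpow_right i)
      calc g⁻¹ * z * g * E.x = g⁻¹ * (z * (g * E.x * g⁻¹)) * g := by group
        _ = _ := by rw [hzx.eq]; group
    obtain ⟨v, hv, hvu⟩ := D.C_invol hu
      (by rw [show g⁻¹ * z * g * (g⁻¹ * z * g) = g⁻¹ * (z * z) * g by group, S.zz]; group)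
      (fun e => S.ext.ne (by
        calc z = g * (g⁻¹ * z * g) * g⁻¹ := by group
          _ = 1 := by rw [e]; group))
    have h1 : (g⁻¹ * z * g) * k * (g⁻¹ * z * g) = k⁻¹ := by
      rw [hvu]
      have e1 : v⁻¹ * k * v = k := by rw [mul_assoc, hcon k hk v hv, inv_mul_cancel_left]
      calc v * z * v⁻¹ * k * (v * z * v⁻¹) = v * (z * (v⁻¹ * k * v) * z) * v⁻¹ := by group
        _ = k⁻¹ := by rw [e1, hzk, hcon v hv _ (inv_mem hk), mul_inv_cancel_right]
    calc z * (g * k * g⁻¹) * z = g * ((g⁻¹ * z * g) * k * (g⁻¹ * z * g)) * g⁻¹ := by group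
      _ = _ := by rw [h1]; group
  have hXV : ∀ w ∈ Subgroup.zpowers E.x, z * w * z = w⁻¹ → w = 1 := fun w hw hzw => by
    obtain ⟨i, rfl⟩ := Subgroup.mem_zpowers_iff.1 hw
    rw [((show Commute z E.x from E.x_z.symm).zpow_right i).eq, mul_assoc, S.zz, mul_one] at hzw
    have h2 : (E.x ^ i) ^ 2 = 1 := by
      rw [pow_two]
      nth_rewrite 2 [hzw]
      exact mul_inv_cancel _
    have h11 : (E.x ^ i) ^ 11 = 1 := by
      rw [← zpow_natCast, zpow_comm, zpow_natCast, E.x_pow, one_zpow]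
    have := pow_gcd_eq_one.2 ⟨h2, h11⟩
    rwa [show Nat.gcd 2 11 = 1 by norm_num, pow_one] at this
  have hzK : ∀ k ∈ D.K, z * k * z ∈ D.K := fun k hk => by
    have := D.K_norm z E.x_z.symm k hk
    rwa [hzi] at this
  have hsplitK : ∀ k ∈ D.K, ∃ a ∈ Subgroup.zpowers E.x, ∃ b ∈ D.K, z * b * z = b⁻¹ ∧ k * k = a * b := fun k hk => by
    refine ⟨k * (z * k * z), D.K_z _ (mul_mem hk (hzK k hk)) ?_, k * (z * k * z)⁻¹,
      mul_mem hk (inv_mem (hzK k hk)), ?_, ?_⟩
    · have e := hcon k hk _ (hzK k hk)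
      calc k * (z * k * z) * z = k * z * k * (z * z) := by group
        _ = z * ((z * k * z) * k) := by
          rw [S.zz, mul_one, ← mul_assoc z, ← mul_assoc z, ← mul_assoc z, S.zz, one_mul]
        _ = z * (k * (z * k * z)) := by rw [← e]
    · calc z * (k * (z * k * z)⁻¹) * z = (z * k * z⁻¹) * k⁻¹ := by group
        _ = _ := by rw [hzi]; group
    · rw [show k * (z * k * z) * (k * (z * k * z)⁻¹) = k * ((z * k * z) * k) * (z * k * z)⁻¹ by group,
        ← hcon k hk _ (hzK k hk)]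
      group
  -- the action of the involution
  have htK : t ∈ Subgroup.normalizer (D.K : Set G) := hCn t T.ty
  have htnC : ¬ t * E.x = E.x * t := fun h => T.t_not_z (D.C_invol_conj h T.tt T.t_ne)
  have htx : t * E.x * t = E.x⁻¹ := by
    have hmem := hNX htK _ (Subgroup.mem_zpowers E.x)
    rw [hti] at hmem
    obtain ⟨i, hi⟩ := (isOfFinOrder_of_finite E.x).mem_powers_iff_mem_zpowers.2 hmem
    have hi' : E.x ^ i = t * E.x * t := hi
    have h2 : E.x ^ (i * i) = E.x := by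
      rw [pow_mul, hi', show t * E.x * t = t * E.x * t⁻¹ by rw [hti], conj_pow, hi', hti,
        show t * (t * E.x * t) * t = (t * t) * E.x * (t * t) by group, T.tt, one_mul, mul_one]
    have hii : i * i % 11 = 1 := by
      have := (pow_eq_pow_iff_modEq (x := E.x) (m := 1) (n := i * i)).1 (by rw [pow_one]; exact h2)
      rwa [E.orderOf_x] at this
    have hr : i % 11 = 1 ∨ i % 11 = 10 := by
      rw [Nat.mul_mod] at hii
      have hlt : i % 11 < 11 := Nat.mod_lt _ (by norm_num)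
      interval_cases i % 11 <;> omega
    rw [← hi', pow_eq_pow_mod i E.x_pow]
    rcases hr with e | e <;> rw [e]
    · refine absurd ?_ htnC
      rw [pow_eq_pow_mod i E.x_pow, e, pow_one] at hi'
      calc t * E.x = t * E.x * (t * t) := by rw [T.tt, mul_one]
        _ = (t * E.x * t) * t := by group
        _ = E.x * t := by rw [← hi']
    · exact eq_inv_of_mul_eq_one_left (by rw [← pow_succ]; exact E.x_pow)
  have hzy : z * y * z = y⁻¹ := by
    obtain ⟨a, ha, b, hb, hzb, hab⟩ := hsplitK y hyK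
    have hta : t * a * t = a⁻¹ := by
      obtain ⟨i, rfl⟩ := Subgroup.mem_zpowers_iff.1 ha
      rw [show t * E.x ^ i * t = t * E.x ^ i * t⁻¹ by rw [hti], ← conj_zpow, hti, htx, inv_zpow]
    have htb : z * (t * b * t) * z = (t * b * t)⁻¹ := by
      have := hinvV htK b hb hzb
      rwa [hti] at this
    have hbb : t * b * t = a * a * b := by
      have h : t * (y * y) * t = y * y := by
        rw [← mul_assoc, T.ty, mul_assoc y, T.ty, ← mul_assoc, mul_assoc, T.tt, mul_one]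
      rw [hab, show t * (a * b) * t = (t * a * t⁻¹) * (t * b * t) by group, hti, hta] at h
      calc t * b * t = a * (a⁻¹ * (t * b * t)) := by group
        _ = a * a * b := by rw [h]; group
    have ha2K : a * a ∈ D.K := Subgroup.zpowers_le.2 D.x_mem (mul_mem ha ha)
    have hbbK : t * b * t ∈ D.K := by
      have := (Subgroup.mem_normalizer_iff.1 htK b).1 hb
      rwa [hti] at this
    have haa : a * a = 1 := hXV _ (mul_mem ha ha) (by
      have e : a * a = t * b * t * b⁻¹ := by rw [hbb]; group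
      rw [e]
      calc z * (t * b * t * b⁻¹) * z = (z * (t * b * t) * z) * (z⁻¹ * b * z)⁻¹ := by group
        _ = (t * b * t)⁻¹ * b := by rw [hzi, htb, hzb, inv_inv]
        _ = b * (t * b * t)⁻¹ := hcon _ (inv_mem hbbK) b hb
        _ = _ := by group)
    have ha1 : a = 1 := by
      have h11 : a ^ 11 = 1 := by
        have := Subgroup.orderOf_dvd_natCard _ ha
        rw [Nat.card_zpowers, E.orderOf_x] at this
        exact orderOf_dvd_iff_pow_eq_one.1 this
      have := pow_gcd_eq_one.2 ⟨(show a ^ 2 = 1 by rw [pow_two]; exact haa), h11⟩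
      rwa [show Nat.gcd 2 11 = 1 by norm_num, pow_one] at this
    rw [ha1, one_mul] at hab
    have h6 : y = b ^ 6 := by
      rw [← hab, ← pow_two, ← pow_mul, show 2 * 6 = 11 + 1 by norm_num, pow_succ, T.y_pow, one_mul]
    rw [h6, show z * b ^ 6 * z = z * b ^ 6 * z⁻¹ by rw [hzi], ← conj_pow, hzi, hzb, inv_pow]
  -- an inverted element moved by the involution
  obtain ⟨w, hwK, hzw, hwt⟩ : ∃ w ∈ D.K, z * w * z = w⁻¹ ∧ t * w ≠ w * t := by
    by_contra h
    push Not at h
    have hsmall : ∀ k ∈ D.K, ∃ i j : ℕ, k = E.x ^ i * y ^ j := fun k hk => by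
      obtain ⟨a, ha, b, hb, hzb, hab⟩ := hsplitK k hk
      have htb := h b hb hzb
      obtain ⟨c, d, hcd⟩ := T.cN b (T.cent_le b htb.symm) (hcon b hb y hyK)
      have hb' : b ∈ Subgroup.zpowers y := by
        rcases T.pow_cases c with e | e <;> rw [e] at hcd
        · rw [hcd, one_mul]; exact pow_mem (Subgroup.mem_zpowers _) _
        · exfalso
          refine T.t_ne ?_
          have htK' : t ∈ D.K := by
            rw [show t = b * (y ^ d)⁻¹ by rw [hcd, mul_inv_cancel_right]]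
            exact mul_mem hb (inv_mem (pow_mem hyK _))
          have h3 := pow_gcd_eq_one.2 ⟨D.K_pow htK', (show t ^ 2 = 1 by rw [pow_two]; exact T.tt)⟩
          rwa [show Nat.gcd 1331 2 = 1 by norm_num, pow_one] at h3
      have e : k = a ^ 666 * b ^ 666 := by
        rw [← (show Commute a b from hcon a (Subgroup.zpowers_le.2 D.x_mem ha) b hb).mul_pow, ← hab, ← pow_two,
          ← pow_mul, show 2 * 666 = 1331 + 1 by norm_num, pow_succ, D.K_pow hk, one_mul]
      obtain ⟨i, hi⟩ := (isOfFinOrder_of_finite E.x).mem_powers_iff_mem_zpowers.2 (pow_mem ha 666)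
      obtain ⟨j, hj⟩ := (isOfFinOrder_of_finite y).mem_powers_iff_mem_zpowers.2 (pow_mem hb' 666)
      exact ⟨i, j, by rw [e, ← show E.x ^ i = a ^ 666 from hi, ← show y ^ j = b ^ 666 from hj]⟩
    have hle : Nat.card ↥D.K ≤ 121 := by
      refine le_trans (Nat.card_le_card_of_surjective (fun u : Fin 11 × Fin 11 =>
        (⟨E.x ^ u.1.val * y ^ u.2.val, mul_mem (pow_mem D.x_mem _) (pow_mem hyK _)⟩ : ↥D.K)) ?_) (by simp)
      rintro ⟨k, hk⟩
      obtain ⟨i, j, rfl⟩ := hsmall k hk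
      exact ⟨(⟨i % 11, Nat.mod_lt _ (by norm_num)⟩, ⟨j % 11, Nat.mod_lt _ (by norm_num)⟩), Subtype.ext
        (show E.x ^ (i % 11) * y ^ (j % 11) = E.x ^ i * y ^ j by
          rw [← pow_eq_pow_mod i E.x_pow, ← pow_eq_pow_mod j T.y_pow])⟩
    rw [D.card_K] at hle
    norm_num at hle
  have htwK : t * w * t ∈ D.K := by
    have := (Subgroup.mem_normalizer_iff.1 htK w).1 hwK
    rwa [hti] at this
  obtain ⟨v0, hv0⟩ : ∃ v, v = w⁻¹ * (t * w * t) := ⟨_, rfl⟩
  have hv0K : v0 ∈ D.K := hv0 ▸ mul_mem (inv_mem hwK) htwK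
  have hv01 : v0 ≠ 1 := fun e => hwt (by
    rw [hv0, inv_mul_eq_one] at e
    calc t * w = (t * w * t) * t := by rw [mul_assoc _ t t, T.tt, mul_one]
      _ = w * t := by rw [← e])
  have hzv : z * v0 * z = v0⁻¹ := by
    rw [hv0, show z * (w⁻¹ * (t * w * t)) * z = (z * w⁻¹ * z⁻¹) * (z * (t * w * t) * z) by group,
      show z * w⁻¹ * z⁻¹ = (z * w * z⁻¹)⁻¹ by group, hzi, hzw, inv_inv]
    have h2 := hinvV htK w hwK hzw
    rw [hti] at h2
    rw [h2, show (w⁻¹ * (t * w * t))⁻¹ = (t * w * t)⁻¹ * w by group, hcon _ hwK _ (inv_mem htwK)]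
  have htv : t * v0 * t = v0⁻¹ := by
    calc t * v0 * t = t * w⁻¹ * t * w * (t * t) := by rw [hv0]; group
      _ = t⁻¹ * w⁻¹ * t⁻¹ * w := by rw [T.tt, mul_one, hti]
      _ = v0⁻¹ := by rw [hv0]; group
  obtain ⟨k, hk⟩ : ∃ x, x = E.x * v0 := ⟨_, rfl⟩
  have hkK : k ∈ D.K := hk ▸ mul_mem D.x_mem hv0K
  have htk : t * k * t = k⁻¹ := by
    rw [hk, show t * (E.x * v0) * t = (t * E.x * t⁻¹) * (t * v0 * t) by group, hti, htx, htv,
      hcon _ D.x_mem _ hv0K, mul_inv_rev]
  have hky : k * y = y * k := hcon k hkK y hyK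
  have T' := T.conj k
  have hy' : k * y * k⁻¹ = y := by rw [hky, mul_inv_cancel_right]
  rw [hy'] at T'
  obtain ⟨t', ht'⟩ : ∃ x, x = k * t * k⁻¹ := ⟨_, rfl⟩
  rw [← ht'] at T'
  have hk2 : t' * t = k * k := by
    rw [ht', mul_assoc k t, show k * (t * k⁻¹) * t = k * (t * k⁻¹ * t) by group,
      show t * k⁻¹ * t = (t⁻¹ * k * t⁻¹)⁻¹ by group, hti, htk, inv_inv]
  have hne : t ≠ t' := fun e => by
    rw [← e, T.tt] at hk2
    have h2 : k ^ 2 = 1 := by rw [pow_two]; exact hk2.symm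
    have h3 := pow_gcd_eq_one.2 ⟨D.K_pow hkK, h2⟩
    rw [show Nat.gcd 1331 2 = 1 by norm_num, pow_one] at h3
    refine hv01 (hXV v0 ?_ hzv)
    rw [show v0 = E.x⁻¹ * k by rw [hk, inv_mul_cancel_left], h3, mul_one]
    exact inv_mem (Subgroup.mem_zpowers _)
  refine T.pair_false T' hne hcard fun h hh hhN => ?_
  -- the eleventh power
  have hfix : ∀ {A1 : Subgroup G} {t1 : G}, Eleven.Second z A1 t1 y → ∀ g ∈ Subgroup.normalizer (A1 : Set G),
      g ∈ Subgroup.normalizer (Subgroup.zpowers y : Set G) → g * t1 = t1 * g := fun {A1 t1} T1 g hg hgy => by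
    obtain ⟨i, hi⟩ := Subgroup.mem_zpowers_iff.1
      ((Subgroup.mem_normalizer_iff''.1 hgy y).1 (Subgroup.mem_zpowers _))
    have hc : g * t1 * g⁻¹ * y = y * (g * t1 * g⁻¹) := by
      have h1 : Commute t1 (g⁻¹ * y * g) := hi ▸ ((show Commute t1 y from T1.ty).zpow_right i)
      calc g * t1 * g⁻¹ * y = g * (t1 * (g⁻¹ * y * g)) * g⁻¹ := by group
        _ = _ := by rw [h1.eq]; group
    rcases T1.invol_eq (Subgroup.le_normalizer ((Subgroup.mem_normalizer_iff.1 hg t1).1 T1.t_mem)) hc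
      (by rw [show g * t1 * g⁻¹ * (g * t1 * g⁻¹) = g * (t1 * t1) * g⁻¹ by group, T1.tt]; group) with e | e
    · exact absurd (conj_eq_one_iff.1 e) T1.t_ne
    · exact mul_inv_eq_iff_eq_mul.1 e
  obtain ⟨f, hf⟩ := T.toM24
  have hcardD : h ^ 244823040 = 1 := by
    have h1 : f (⟨h, hh.1⟩ ^ 244823040) = 1 := by
      rw [map_pow, ← Golay.card_M24]; exact pow_card_eq_one'
    have hA := (hf _).1 h1
    rw [SubmonoidClass.coe_pow] at hA
    exact T.inter_trivial T' hne hA (pow_mem hh.2 _)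
  obtain ⟨i, hi⟩ := (isOfFinOrder_of_finite y).mem_powers_iff_mem_zpowers.2
    ((Subgroup.mem_normalizer_iff.1 hhN y).1 (Subgroup.mem_zpowers _))
  have hi' : y ^ i = h * y * h⁻¹ := hi
  obtain ⟨g, hg⟩ : ∃ g, g = h ^ 11 := ⟨_, rfl⟩
  have hg11 : g = 1 := by
    have hgN : g ∈ Subgroup.normalizer (Subgroup.zpowers y : Set G) := hg ▸ pow_mem hhN _
    have c1 := hfix T g (hg ▸ pow_mem hh.1 _) hgN
    have c2 := hfix T' g (hg ▸ pow_mem hh.2 _) hgN
    have hgk : g * k = k * g := by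
      have c3 : Commute g (k * k) := hk2 ▸ ((show Commute g t' from c2).mul_right (show Commute g t from c1))
      have e : k = (k * k) ^ 666 := by
        rw [← pow_two, ← pow_mul, show 2 * 666 = 1331 + 1 by norm_num, pow_succ, D.K_pow hkK, one_mul]
      rw [e]
      exact (c3.pow_right _).eq
    have hgK : g ∈ Subgroup.normalizer (D.K : Set G) := by
      have key : ∀ g ∈ Subgroup.normalizer (Subgroup.zpowers y : Set G), ∀ k1 ∈ D.K, g * k1 * g⁻¹ ∈ D.K := by
        intro g hgN k1 hk1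
        obtain ⟨j, hj⟩ := Subgroup.mem_zpowers_iff.1
          ((Subgroup.mem_normalizer_iff''.1 hgN y).1 (Subgroup.mem_zpowers _))
        have hc : g * k1 * g⁻¹ * y = y * (g * k1 * g⁻¹) := by
          have h1 : Commute k1 (g⁻¹ * y * g) := hj ▸ ((show Commute k1 y from hcon k1 hk1 y hyK).zpow_right j)
          calc g * k1 * g⁻¹ * y = g * (k1 * (g⁻¹ * y * g)) * g⁻¹ := by group
            _ = _ := by rw [h1.eq]; group
        have hpow : (g * k1 * g⁻¹) ^ 1331 = 1 := by rw [conj_pow, D.K_pow hk1, mul_one, mul_inv_cancel]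
        exact D.mem_K_of_normalizes hcard (hRN (Eleven.Second.mem_core hsq hc (m := 665) hpow)) hpow
      refine Subgroup.mem_normalizer_iff.2 fun k1 => ⟨key g hgN k1, fun h1 => ?_⟩
      have := key _ (inv_mem hgN) _ h1
      rwa [show g⁻¹ * (g * k1 * g⁻¹) * g⁻¹⁻¹ = k1 by group] at this
    have hbK : g * v0 * g⁻¹ ∈ D.K := (Subgroup.mem_normalizer_iff.1 hgK v0).1 hv0K
    have hbz := hinvV hgK v0 hv0K hzv
    have haX := hNX hgK _ (Subgroup.mem_zpowers E.x)
    obtain ⟨a, ha⟩ : ∃ a, a = g * E.x * g⁻¹ := ⟨_, rfl⟩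
    obtain ⟨b, hb⟩ : ∃ b, b = g * v0 * g⁻¹ := ⟨_, rfl⟩
    rw [← ha] at haX
    rw [← hb] at hbK hbz
    have hab : a * b = E.x * v0 := by
      rw [ha, hb, ← hk, show g * E.x * g⁻¹ * (g * v0 * g⁻¹) = g * (E.x * v0) * g⁻¹ by group, ← hk, hgk,
        mul_inv_cancel_right]
    have he : v0 * b⁻¹ = E.x⁻¹ * a := by
      calc v0 * b⁻¹ = E.x⁻¹ * (E.x * v0) * b⁻¹ := by group
        _ = E.x⁻¹ * a := by rw [← hab]; group
    have h1 : v0 * b⁻¹ = 1 := by
      refine hXV _ (he ▸ mul_mem (inv_mem (Subgroup.mem_zpowers _)) haX) ?_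
      calc z * (v0 * b⁻¹) * z = (z * v0 * z) * (z⁻¹ * b * z)⁻¹ := by group
        _ = v0⁻¹ * b := by rw [hzi, hzv, hbz, inv_inv]
        _ = b * v0⁻¹ := hcon _ (inv_mem hv0K) _ hbK
        _ = _ := by group
    have hgv : g * v0 = v0 * g := by
      rw [mul_inv_eq_one] at h1
      exact mul_inv_eq_iff_eq_mul.1 (hb.symm.trans h1.symm)
    have hgx : g * E.x = E.x * g := by
      rw [h1] at he
      exact mul_inv_eq_iff_eq_mul.1 (ha.symm.trans (eq_comm.1 (inv_mul_eq_one.1 he.symm)))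
    obtain ⟨k1, hk1, h1', hh1', hsp⟩ := D.split g hgx
    have hc1 : h1' * v0 = v0 * h1' := by
      have e : h1' = k1⁻¹ * g := by rw [hsp, inv_mul_cancel_left]
      rw [e]
      exact ((show Commute k1 v0 from hcon k1 hk1 v0 hv0K).inv_left.mul_left (show Commute g v0 from hgv)).eq
    have hX := Fr.CH_fixed hG D hh1' hv0K (fun hX => hv01 (hXV v0 hX hzv)) hc1
    have hgmem : g ∈ D.K := hsp ▸ mul_mem hk1 (Subgroup.zpowers_le.2 D.x_mem hX)
    have h2 : g ^ 22256640 = 1 := by rw [hg, ← pow_mul]; exact hcardD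
    have h3 := pow_gcd_eq_one.2 ⟨h2, D.K_pow hgmem⟩
    rwa [show Nat.gcd 22256640 1331 = 1 by norm_num, pow_one] at h3
  have hiter : ∀ n : ℕ, h ^ n * y * (h ^ n)⁻¹ = y ^ (i ^ n) := by
    intro n
    induction n with
    | zero => simp
    | succ n ih =>
      rw [pow_succ' h, show h * h ^ n * y * (h * h ^ n)⁻¹ = h * (h ^ n * y * (h ^ n)⁻¹) * h⁻¹ by group, ih,
        ← conj_pow, ← hi', ← pow_mul, pow_succ']
  have hi1 : i % 11 = 1 := by
    have h1 := hiter 11
    rw [← hg, hg11, one_mul, inv_one, mul_one] at h1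
    have h2 := (pow_eq_pow_iff_modEq (x := y) (m := i ^ 11) (n := 1)).1 (by rw [pow_one]; exact h1)
    rw [T.orderOf_y, Nat.ModEq, Nat.pow_mod] at h2
    have hlt : i % 11 < 11 := Nat.mod_lt _ (by norm_num)
    interval_cases hh : i % 11 <;> omega
  have hhy : h * y = y * h := by
    have : h * y * h⁻¹ = y := by rw [← hi', pow_eq_pow_mod i T.y_pow, hi1, pow_one]
    exact mul_inv_eq_iff_eq_mul.1 this
  obtain ⟨c, d, hcd⟩ := T.cN h hh.1 hhy
  rcases T.pow_cases c with e | e <;> rw [e] at hcd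
  · rw [hcd, one_mul]; exact pow_mem (Subgroup.mem_zpowers _) _
  · exfalso
    refine T.t_ne ?_
    have h1 := hg11
    rw [hg, hcd, (show Commute t (y ^ d) from (show Commute t y from T.ty).pow_right d).mul_pow, ← pow_mul y,
      mul_comm d, pow_mul, T.y_pow, one_pow, mul_one, show 11 = 2 * 5 + 1 by norm_num, pow_succ, pow_mul, pow_two,
      T.tt, one_pow, one_mul] at h1
    exact h1

end Cfsg.Agent.Spor.JFour.Frame
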