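import Cfsg.Agent.Lib.Spor.JFourType.Eleven.Centralizer

/-!
The Sylow subgroup for the prime eleven and its normaliser, which is the normaliser of the distinguished subgroup of
order eleven.
-/

set_option autoImplicit false
set_option maxRecDepth 100000
set_option Elab.async false
set_option linter.style.haveILetI false

open Cfsg
open scoped Pointwise

namespace Cfsg.Agent.Spor.JFour

variable {G : Type*} [Group G] [Finite G] {z : G} {P : Subgroup G} {S : Setting z P} {E : ElevenH S}

namespace ElevenG

variable (D : ElevenG E)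

omit [Finite G] in
theorem K_pow {k : G} (hk : k ∈ D.K) : k ^ 1331 = 1 := by
  have := Subgroup.orderOf_dvd_natCard _ hk
  rw [D.card_K] at this
  exact orderOf_dvd_iff_pow_eq_one.1 this

omit [Finite G] in
/-- Eleven-elements of the centraliser lie in the subgroup. -/
theorem mem_K_of_pow {c : G} (hc : c * E.x = E.x * c) (h : c ^ 1331 = 1) : c ∈ D.K := by
  set C := Subgroup.centralizer ({E.x} : Set G) with hC
  have hKC : D.K ≤ C := fun k hk => Subgroup.mem_centralizer_singleton_iff.2 (D.K_le k hk)
  haveI : (D.K.subgroupOf C).Normal := ⟨fun k hk g =>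
    D.K_norm g (Subgroup.mem_centralizer_singleton_iff.1 g.2) k hk⟩
  have hidx : (D.K.subgroupOf C).index = 24 := by
    have := (D.K.subgroupOf C).card_mul_index
    rw [Nat.card_congr (Subgroup.subgroupOfEquivOfLe hKC).toEquiv, D.card_K, hC, D.card_C] at this
    exact Nat.eq_of_mul_eq_mul_left (by norm_num) this
  have h24 : c ^ 24 ∈ D.K := by
    have := (D.K.subgroupOf C).pow_index_mem ⟨c, Subgroup.mem_centralizer_singleton_iff.2 hc⟩
    rwa [hidx] at this
  have h1 : (c ^ 24) ^ 721 = c := by
    rw [← pow_mul, show 24 * 721 = 1331 * 13 + 1 by norm_num, pow_add, pow_mul, h, one_pow, one_mul, pow_one]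
  exact h1 ▸ pow_mem h24 721

omit [Finite G] in
/-- It is a Sylow subgroup. -/
theorem card_K_eq (hcard : Nat.card G = 86775571046077562880) :
    Nat.card ↥D.K = 11 ^ (Nat.card G).factorization 11 := by
  rw [D.card_K, hcard, show 86775571046077562880 = 11 ^ 3 * 65195770883604480 by norm_num,
    Nat.factorization_mul (by norm_num) (by norm_num), Finsupp.add_apply,
    Nat.Prime.factorization_pow (by norm_num : Nat.Prime 11), Finsupp.single_eq_same,
    Nat.factorization_eq_zero_of_not_dvd (by norm_num)]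
  norm_num

omit [Finite G] in
theorem normalizer_X_le : Subgroup.normalizer (Subgroup.zpowers E.x : Set G) ≤ Subgroup.normalizer (D.K : Set G) := by
  intro g hg
  have key : ∀ g ∈ Subgroup.normalizer (Subgroup.zpowers E.x : Set G), ∀ k ∈ D.K, g * k * g⁻¹ ∈ D.K := by
    intro g hg k hk
    refine D.mem_K_of_pow ?_ (by rw [conj_pow, D.K_pow hk, mul_one, mul_inv_cancel])
    obtain ⟨i, hi⟩ := Subgroup.mem_zpowers_iff.1
      ((Subgroup.mem_normalizer_iff''.1 hg E.x).1 (Subgroup.mem_zpowers _))
    have hkx : k * (g⁻¹ * E.x * g) = g⁻¹ * E.x * g * k := by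
      rw [← hi]
      exact ((show Commute k E.x from D.K_le k hk).zpow_right i).eq
    calc g * k * g⁻¹ * E.x = g * (k * (g⁻¹ * E.x * g)) * g⁻¹ := by group
      _ = E.x * (g * k * g⁻¹) := by rw [hkx]; group
  refine Subgroup.mem_normalizer_iff.2 fun k => ⟨key g hg k, fun hk => ?_⟩
  have := key _ (inv_mem hg) _ hk
  rwa [show g⁻¹ * (g * k * g⁻¹) * g⁻¹⁻¹ = k by group] at this

include D in
theorem card_NX : Nat.card ↥(Subgroup.normalizer (Subgroup.zpowers E.x : Set G)) = 1331 * 240 := by
  haveI : Fact (Nat.Prime 11) := ⟨by norm_num⟩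
  obtain ⟨d, hd, hN⟩ := Eleven.card_normalizer_cyclic E.orderOf_x
  set C := Subgroup.centralizer ({E.x} : Set G) with hC
  set N := Subgroup.normalizer (Subgroup.zpowers E.x : Set G) with hNdef
  have hCN : C ≤ N := by
    rw [hC, hNdef]
    refine le_trans (le_of_eq ?_) (Subgroup.centralizer_le_normalizer _)
    rw [Subgroup.zpowers_eq_closure, Subgroup.centralizer_closure]
  have hCpos : 0 < Nat.card ↥C := Nat.card_pos
  have hrN : C.relIndex N = d := by
    have := (C.subgroupOf N).card_mul_index
    rw [Nat.card_congr (Subgroup.subgroupOfEquivOfLe hCN).toEquiv, hN] at this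
    exact Nat.eq_of_mul_eq_mul_left hCpos this
  have hrH : C.relIndex E.NH = 10 := by
    have hinf : C ⊓ E.NH = E.CH := le_antisymm (fun g hg => Subgroup.mem_inf.2 ⟨hg.2.1, hg.1⟩)
      (fun g hg => Subgroup.mem_inf.2 ⟨hg.2, Subgroup.mem_inf.2 ⟨hg.1, hCN hg.2⟩⟩)
    have := (C.subgroupOf E.NH).card_mul_index
    rw [← Subgroup.inf_subgroupOf_right, Nat.card_congr (Subgroup.subgroupOfEquivOfLe inf_le_right).toEquiv, hinf,
      E.card_CH, E.card_NH] at this
    rw [← Subgroup.inf_relIndex_right, hinf]
    show (E.CH.subgroupOf E.NH).index = 10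
    omega
  have hle : C.relIndex E.NH ≤ C.relIndex N := Subgroup.relIndex_le_of_le_right inf_le_right
    (by rw [hrN]; rintro rfl; norm_num at hd)
  rw [hrH, hrN] at hle
  rw [hN, D.card_C, show d = 10 from le_antisymm (Nat.le_of_dvd (by norm_num) hd) hle]

end ElevenG

namespace Frame

variable [IsSimpleGroup G] (Fr : Frame S)

include Fr in
/-- Elements of the subgroup commuting with the three-element. -/
theorem K_centralizer_p (hG : ¬ IsMulCommutative G) (D : ElevenG E) {k : G} (hk : k ∈ D.K)
    (h : k * S.p = S.p * k) : k ∈ Subgroup.zpowers E.x := by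
  refine D.K_z k hk (S.commz (Fr.centralizer_P_le hG ?_))
  rw [S.hP, Subgroup.zpowers_eq_closure, Subgroup.centralizer_closure, Subgroup.mem_centralizer_singleton_iff]
  exact h

theorem index_candidates : ∀ m < 134, m ∣ 271649045348352 → m % 3 = 1 → 271649045348352 / m % 11 = 1 → m = 1 := by
  decide +kernel

include Fr in
/-- The normaliser of the Sylow subgroup. -/
theorem normalizer_K_le (hG : ¬ IsMulCommutative G) (hcard : Nat.card G = 86775571046077562880) (D : ElevenG E) :
    Subgroup.normalizer (D.K : Set G) ≤ Subgroup.normalizer (Subgroup.zpowers E.x : Set G) := by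
  classical
  haveI : Fact (Nat.Prime 11) := ⟨by norm_num⟩
  haveI : Fact (Nat.Prime 3) := ⟨Nat.prime_three⟩
  set M := Subgroup.normalizer (D.K : Set G) with hM
  set N := Subgroup.normalizer (Subgroup.zpowers E.x : Set G) with hN
  set C := Subgroup.centralizer ({E.x} : Set G) with hC
  have hNM : N ≤ M := D.normalizer_X_le
  have hCN : C ≤ N := by
    rw [hC, hN]
    refine le_trans (le_of_eq ?_) (Subgroup.centralizer_le_normalizer _)
    rw [Subgroup.zpowers_eq_closure, Subgroup.centralizer_closure]
  set m := (N.subgroupOf M).index with hm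
  have hMcard : Nat.card ↥M = 1331 * 240 * m := by
    rw [← D.card_NX, ← Nat.card_congr (Subgroup.subgroupOfEquivOfLe hNM).toEquiv, hm, Subgroup.card_mul_index]
  -- the bound
  have hbound : m < 134 := by
    have hCi : (C.subgroupOf M).index = 10 * m := by
      have := (C.subgroupOf M).card_mul_index
      rw [Nat.card_congr (Subgroup.subgroupOfEquivOfLe (hCN.trans hNM)).toEquiv, hMcard, hC, D.card_C] at this
      exact Nat.eq_of_mul_eq_mul_left (by norm_num : 0 < 1331 * 24) (by rw [this]; ring)
    let f : ↥M ⧸ C.subgroupOf M → ↥D.K := fun q => Quotient.liftOn' q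
      (fun g => ⟨(g : G) * E.x * (g : G)⁻¹, (Subgroup.mem_normalizer_iff.1 g.2 _).1 D.x_mem⟩)
      (fun a b hab => by
        rw [QuotientGroup.leftRel_apply, Subgroup.mem_subgroupOf] at hab
        have h : ((a : G)⁻¹ * b) * E.x = E.x * ((a : G)⁻¹ * b) := Subgroup.mem_centralizer_singleton_iff.1 hab
        refine Subtype.ext ?_
        calc (a : G) * E.x * (a : G)⁻¹ = (a : G) * (E.x * ((a : G)⁻¹ * b)) * (b : G)⁻¹ := by group
          _ = (b : G) * E.x * (b : G)⁻¹ := by rw [← h]; group)
    have hf : Function.Injective f := by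
      intro a b hab
      induction a using Quotient.inductionOn' with | _ a => ?_
      induction b using Quotient.inductionOn' with | _ b => ?_
      have e : (a : G) * E.x * (a : G)⁻¹ = (b : G) * E.x * (b : G)⁻¹ := congrArg Subtype.val hab
      refine QuotientGroup.eq.2 (Subgroup.mem_subgroupOf.2 (Subgroup.mem_centralizer_singleton_iff.2 ?_))
      show (a : G)⁻¹ * b * E.x = E.x * ((a : G)⁻¹ * b)
      calc (a : G)⁻¹ * b * E.x = (a : G)⁻¹ * ((b : G) * E.x * (b : G)⁻¹) * b := by group
        _ = _ := by rw [← e]; group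
    have h1 : (1 : ↥D.K) ∉ Set.range f := by
      rintro ⟨a, ha⟩
      induction a using Quotient.inductionOn' with | _ a => ?_
      exact E.x_ne (conj_eq_one_iff.1 (congrArg Subtype.val ha))
    haveI := Fintype.ofFinite (↥M ⧸ C.subgroupOf M)
    haveI := Fintype.ofFinite ↥D.K
    have hlt := Fintype.card_lt_of_injective_of_notMem f hf h1
    rw [← Nat.card_eq_fintype_card, ← Nat.card_eq_fintype_card, D.card_K] at hlt
    change (C.subgroupOf M).index < 1331 at hlt
    omega
  -- modulo three
  have hpM : S.p ∈ M := hNM (hCN (Subgroup.mem_centralizer_singleton_iff.2 E.x_p.symm))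
  set pp : ↥M := ⟨S.p, hpM⟩ with hpp
  have hp3 : IsPGroup 3 ↥(Subgroup.zpowers pp) := IsPGroup.of_card (n := 1) (by
    rw [Nat.card_zpowers, Subgroup.orderOf_mk, orderOf_eq_prime (p := 3) (by rw [pow_three']; exact S.p_pow) S.p_ne,
      pow_one])
  have hmod := hp3.card_modEq_card_fixedPoints (↥M ⧸ N.subgroupOf M)
  have hfix : Nat.card (MulAction.fixedPoints ↥(Subgroup.zpowers pp) (↥M ⧸ N.subgroupOf M)) = 1 := by
    rw [Nat.card_eq_one_iff_unique]
    have key : ∀ a : ↥M, (QuotientGroup.mk a : ↥M ⧸ N.subgroupOf M) ∈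
        MulAction.fixedPoints ↥(Subgroup.zpowers pp) (↥M ⧸ N.subgroupOf M) → a ∈ N.subgroupOf M := by
      intro a ha
      have h := ha ⟨pp, Subgroup.mem_zpowers _⟩
      change (QuotientGroup.mk (pp * a) : ↥M ⧸ N.subgroupOf M) = QuotientGroup.mk a at h
      rw [QuotientGroup.eq, Subgroup.mem_subgroupOf] at h
      have h' : ((a : G)⁻¹ * S.p⁻¹ * a) ∈ N := by simpa [hpp, mul_assoc] using h
      set k := (a : G) * E.x * (a : G)⁻¹ with hk
      have hkK : k ∈ D.K := (Subgroup.mem_normalizer_iff.1 a.2 _).1 D.x_mem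
      obtain ⟨i, hi⟩ := (isOfFinOrder_of_finite E.x).mem_powers_iff_mem_zpowers.2
        ((Subgroup.mem_normalizer_iff''.1 h' E.x).1 (Subgroup.mem_zpowers _))
      have hi' : E.x ^ i = (a : G)⁻¹ * S.p * k * S.p⁻¹ * a := by rw [hk]; refine hi.trans ?_; group
      have hpk : S.p * k * S.p⁻¹ = k ^ i := by
        rw [hk, conj_pow, hi', hk]
        group
      have hk3 : k ^ (i * i * i) = k := by
        have h1 : ∀ n : ℕ, S.p * k ^ n * S.p⁻¹ = k ^ (i * n) := fun n => by rw [← conj_pow, hpk, ← pow_mul]
        calc k ^ (i * i * i) = S.p * (S.p * (S.p * k * S.p⁻¹) * S.p⁻¹) * S.p⁻¹ := by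
              rw [hpk, h1, h1]; congr 1; ring
          _ = (S.p * S.p * S.p) * k * (S.p * S.p * S.p)⁻¹ := by group
          _ = k := by rw [S.p_pow]; group
      have hko : orderOf k = 11 := by rw [hk, ← MulAut.conj_apply, MulEquiv.orderOf_eq, E.orderOf_x]
      have hi1 : i % 11 = 1 := by
        have h2 : i * i * i % 11 = 1 := by
          have := (pow_eq_pow_iff_modEq (x := k) (m := 1) (n := i * i * i)).1 (by rw [pow_one]; exact hk3)
          rwa [hko] at this
        rw [Nat.mul_mod, Nat.mul_mod i i] at h2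
        have hlt : i % 11 < 11 := Nat.mod_lt _ (by norm_num)
        interval_cases hh : i % 11 <;> simp_all
      have hkp : k * S.p = S.p * k := by
        have e : S.p * k * S.p⁻¹ = k := by
          rw [hpk, ← pow_mod_orderOf, hko, hi1, pow_one]
        exact (mul_inv_eq_iff_eq_mul.1 e).symm
      have hkX := Fr.K_centralizer_p hG D hkK hkp
      rw [Subgroup.mem_subgroupOf]
      refine Subgroup.mem_normalizer_iff.2 fun w => ?_
      have e : (Subgroup.zpowers E.x).map (MulAut.conj (a : G)).toMonoidHom = Subgroup.zpowers E.x := by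
        rw [MonoidHom.map_zpowers]
        exact Eleven.zpowers_eq E.orderOf_x hkX fun e => E.x_ne (conj_eq_one_iff.1 e)
      conv_rhs => rw [← e]
      exact (Subgroup.mem_map_iff_mem (f := (MulAut.conj (a : G)).toMonoidHom) (MulAut.conj (a : G)).injective).symm
    refine ⟨⟨fun a b => ?_⟩, ⟨⟨QuotientGroup.mk 1, fun g => ?_⟩⟩⟩
    · obtain ⟨a, ha⟩ := a
      obtain ⟨b, hb⟩ := b
      induction a using QuotientGroup.induction_on with | _ a => ?_
      induction b using QuotientGroup.induction_on with | _ b => ?_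
      exact Subtype.ext (QuotientGroup.eq.2 (mul_mem (inv_mem (key a ha)) (key b hb)))
    · show (QuotientGroup.mk ((g : ↥M) * 1) : ↥M ⧸ N.subgroupOf M) = QuotientGroup.mk 1
      rw [QuotientGroup.eq, mul_one, mul_one]
      refine inv_mem ?_
      obtain ⟨j, hj⟩ := Subgroup.mem_zpowers_iff.1 g.2
      rw [Subgroup.mem_subgroupOf, ← hj, SubgroupClass.coe_zpow]
      exact zpow_mem (hCN (Subgroup.mem_centralizer_singleton_iff.2 E.x_p.symm)) j
  rw [hfix] at hmod
  change m ≡ 1 [MOD 3] at hmod
  -- modulo eleven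
  let U : Sylow 11 G := Sylow.ofCard D.K (D.card_K_eq hcard)
  have hsyl := card_sylow_modEq_one 11 G
  have hidx := U.card_eq_index_normalizer
  have hGM := Subgroup.card_mul_index M
  have hm0 : 0 < m := Nat.pos_of_ne_zero Subgroup.FiniteIndex.index_ne_zero
  have hIdx : m * M.index = 271649045348352 := by
    rw [hcard, hMcard] at hGM
    rw [show 86775571046077562880 = 1331 * 240 * 271649045348352 by norm_num, mul_assoc] at hGM
    exact Nat.eq_of_mul_eq_mul_left (by norm_num) hGM
  have hm1 : m = 1 := by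
    refine index_candidates m hbound ⟨_, hIdx.symm⟩ hmod ?_
    rw [← hIdx, Nat.mul_div_cancel_left _ hm0]
    rw [hidx] at hsyl
    exact hsyl
  rw [← Subgroup.relIndex_eq_one]
  exact hm1

end Frame

end Cfsg.Agent.Spor.JFour
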