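import Cfsg.Agent.Lib.Spor.JFourType.Eleven.Involution
import Cfsg.Agent.Lib.Spor.JFourType.Eleven.Rigid
import Cfsg.Agent.Lib.Spor.JFourType.Eleven.General
import Cfsg.Agent.Lib.Spor.JFourType.Bridge.Formula
import Cfsg.Agent.Lib.Invol.ZStar
import Cfsg.Agent.Lib.Grp.Cores

/-!
An involution of the second class with an element of order eleven commuting with it: the elementary abelian group and
the centraliser of the element.
-/

set_option autoImplicit false
set_option maxRecDepth 100000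
set_option Elab.async false
set_option linter.style.haveILetI false

open Cfsg Cfsg.Agent.Spor.Golay
open scoped Pointwise

namespace Cfsg.Agent.Spor.JFour.Eleven

/-- The data. -/
structure Second {G : Type*} [Group G] (z : G) (A : Subgroup G) (t y : G) : Prop where
  tt : t * t = 1
  t_ne : t ≠ 1
  t_not_z : ¬ IsConj z t
  t_mem : t ∈ A
  card_A : Nat.card ↥A = 2 ^ 11
  A_comm : ∀ a ∈ A, ∀ b ∈ A, a * b = b * a
  A_sq : ∀ a ∈ A, a * a = 1
  self : ∀ g, (∀ a ∈ A, g * a = a * g) → g ∈ A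
  cent_le : ∀ g, g * t = t * g → g ∈ Subgroup.normalizer (A : Set G)
  card_N : Nat.card ↥(Subgroup.normalizer (A : Set G)) = 2 ^ 11 * 244823040
  toM24 : ∃ f : ↥(Subgroup.normalizer (A : Set G)) →* ↥Cfsg.M24, ∀ n, f n = 1 ↔ (n : G) ∈ A
  three : ∃ u v, u ∈ A ∧ v ∈ A ∧ ∀ g, (g * u = u * g ∨ g * v = v * g ∨ g * (u * v) = u * v * g) →
    g ∈ Subgroup.normalizer (A : Set G)
  y_pow : y ^ 11 = 1
  y_ne : y ≠ 1
  ty : t * y = y * t
  cN : ∀ g ∈ Subgroup.normalizer (A : Set G), g * y = y * g → ∃ i j : ℕ, g = t ^ i * y ^ j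

namespace Second

variable {G : Type*} [Group G] {z : G} {A : Subgroup G} {t y : G}

theorem conj (T : Second z A t y) (g : G) :
    Second z (A.map (MulAut.conj g).toMonoidHom) (g * t * g⁻¹) (g * y * g⁻¹) := by
  set c := MulAut.conj g with hc
  have hmem : ∀ {a : G}, a ∈ A.map c.toMonoidHom ↔ g⁻¹ * a * g ∈ A := fun {a} => by
    constructor
    · rintro ⟨b, hb, rfl⟩
      show g⁻¹ * (g * b * g⁻¹) * g ∈ A
      rwa [show g⁻¹ * (g * b * g⁻¹) * g = b by group]
    · exact fun h => ⟨_, h, show g * (g⁻¹ * a * g) * g⁻¹ = a by group⟩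
  have hback : ∀ {a b : G}, a * (g * b * g⁻¹) = g * b * g⁻¹ * a → (g⁻¹ * a * g) * b = b * (g⁻¹ * a * g) :=
    fun {a b} h => by
      calc g⁻¹ * a * g * b = g⁻¹ * (a * (g * b * g⁻¹)) * g := by group
        _ = g⁻¹ * (g * b * g⁻¹ * a) * g := by rw [h]
        _ = _ := by group
  have hN : Subgroup.normalizer ((A.map c.toMonoidHom : Subgroup G) : Set G) =
      (Subgroup.normalizer (A : Set G)).map c.toMonoidHom := (Subgroup.map_equiv_normalizer_eq A c).symm
  have hNmem : ∀ {a : G}, a ∈ Subgroup.normalizer ((A.map c.toMonoidHom : Subgroup G) : Set G) ↔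
      g⁻¹ * a * g ∈ Subgroup.normalizer (A : Set G) := fun {a} => by
    rw [hN]
    constructor
    · rintro ⟨b, hb, rfl⟩
      show g⁻¹ * (g * b * g⁻¹) * g ∈ _
      rwa [show g⁻¹ * (g * b * g⁻¹) * g = b by group]
    · exact fun h => ⟨_, h, show g * (g⁻¹ * a * g) * g⁻¹ = a by group⟩
  refine ⟨by rw [show g * t * g⁻¹ * (g * t * g⁻¹) = g * (t * t) * g⁻¹ by group, T.tt]; group,
    fun e => T.t_ne (conj_eq_one_iff.1 e), fun h => T.t_not_z (h.trans (isConj_iff.2 ⟨g, rfl⟩).symm),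
    ⟨t, T.t_mem, rfl⟩, by rw [Subgroup.card_map_of_injective c.injective, T.card_A], ?_, ?_, ?_, ?_, ?_, ?_, ?_,
    by rw [conj_pow, T.y_pow, mul_one, mul_inv_cancel], fun e => T.y_ne (conj_eq_one_iff.1 e),
    by rw [show g * t * g⁻¹ * (g * y * g⁻¹) = g * (t * y) * g⁻¹ by group, T.ty]; group, ?_⟩
  · rintro _ ⟨a, ha, rfl⟩ _ ⟨b, hb, rfl⟩
    rw [← map_mul, ← map_mul, T.A_comm a ha b hb]
  · rintro _ ⟨a, ha, rfl⟩
    rw [← map_mul, T.A_sq a ha, map_one]
  · intro a ha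
    exact hmem.2 (T.self _ fun b hb => hback (ha _ ⟨b, hb, rfl⟩))
  · intro a ha
    exact hNmem.2 (T.cent_le _ (hback ha))
  · rw [hN, Subgroup.card_map_of_injective c.injective, T.card_N]
  · obtain ⟨f, hf⟩ := T.toM24
    let e : ↥(Subgroup.normalizer ((A.map c.toMonoidHom : Subgroup G) : Set G)) →*
        ↥(Subgroup.normalizer (A : Set G)) :=
      { toFun := fun n => ⟨g⁻¹ * n * g, hNmem.1 n.2⟩
        map_one' := Subtype.ext (by simp)
        map_mul' := fun a b => Subtype.ext (show g⁻¹ * ((a : G) * b) * g = g⁻¹ * a * g * (g⁻¹ * b * g) by group) }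
    exact ⟨f.comp e, fun n => (hf _).trans hmem.symm⟩
  · obtain ⟨u, v, hu, hv, h⟩ := T.three
    refine ⟨g * u * g⁻¹, g * v * g⁻¹, ⟨u, hu, rfl⟩, ⟨v, hv, rfl⟩, fun a ha => hNmem.2 (h _ ?_)⟩
    rw [show g * u * g⁻¹ * (g * v * g⁻¹) = g * (u * v) * g⁻¹ by group] at ha
    exact ha.imp hback (Or.imp hback hback)
  · intro a ha hay
    obtain ⟨i, j, h⟩ := T.cN _ (hNmem.1 ha) (hback hay)
    refine ⟨i, j, ?_⟩
    rw [conj_pow, conj_pow, show g * t ^ i * g⁻¹ * (g * y ^ j * g⁻¹) = g * (t ^ i * y ^ j) * g⁻¹ by group, ← h]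
    group

theorem orderOf_y (T : Second z A t y) : orderOf y = 11 := by
  haveI : Fact (Nat.Prime 11) := ⟨by norm_num⟩
  exact orderOf_eq_prime T.y_pow T.y_ne

theorem y_mem (T : Second z A t y) : y ∈ Subgroup.normalizer (A : Set G) := T.cent_le y T.ty.symm

variable [Finite G]

/-- The odd part of the centraliser. -/
theorem exists_core (T : Second z A t y) :
    ∃ R : Subgroup G, R ≤ Subgroup.centralizer ({y} : Set G) ∧ y ∈ R ∧
      (∀ c, c * y = y * c → ∀ k ∈ R, c * k * c⁻¹ ∈ R) ∧ (∀ c, c * y = y * c → c * c ∈ R) ∧ Inverting R t y := by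
  set C := Subgroup.centralizer ({y} : Set G) with hC
  have hmemC : ∀ {g : G}, g ∈ C ↔ g * y = y * g := fun {g} => Subgroup.mem_centralizer_singleton_iff
  have htC : t ∈ C := hmemC.2 T.ty
  have hti : t⁻¹ = t := inv_eq_of_mul_eq_one_right T.tt
  have hto : orderOf t = 2 := by
    haveI : Fact (Nat.Prime 2) := ⟨Nat.prime_two⟩
    exact orderOf_eq_prime (by rw [pow_two]; exact T.tt) T.t_ne
  have hcent : ∀ {g : G}, g ∈ C → g * t = t * g → ∃ i j : ℕ, g = t ^ i * y ^ j := fun hg h =>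
    T.cN _ (T.cent_le _ h) (hmemC.1 hg)
  have htp : ∀ i : ℕ, t ^ i = 1 ∨ t ^ i = t := fun i => by
    rcases Nat.even_or_odd i with ⟨k, rfl⟩ | ⟨k, rfl⟩
    · left; rw [← two_mul, pow_mul, pow_two, T.tt, one_pow]
    · right; rw [pow_succ, pow_mul, pow_two, T.tt, one_pow, one_mul]
  have hiso : IsIsolatedInvolution (⟨t, htC⟩ : ↥C) := by
    refine ⟨by rw [Subgroup.orderOf_mk]; exact hto, fun g hg => Subtype.ext ?_⟩
    set u := (g : G) * t * (g : G)⁻¹ with hu
    have huC : u ∈ C := mul_mem (mul_mem g.2 htC) (inv_mem g.2)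
    obtain ⟨i, j, he⟩ := hcent huC (congrArg Subtype.val hg.eq).symm
    have hu2 : u * u = 1 := by
      rw [hu, show (g : G) * t * (g : G)⁻¹ * ((g : G) * t * (g : G)⁻¹) = (g : G) * (t * t) * (g : G)⁻¹ by group,
        T.tt]
      group
    have hj : y ^ j = 1 := by
      have hcm : Commute (t ^ i) (y ^ j) := (show Commute t y from T.ty).pow_pow i j
      have h := hu2
      rw [he, ← pow_two, hcm.mul_pow, ← pow_mul, mul_comm i 2, pow_mul, pow_two t, T.tt, one_pow, one_mul,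
        ← pow_mul] at h
      have h11 : (y ^ j) ^ 11 = 1 := by rw [← pow_mul, mul_comm, pow_mul, T.y_pow, one_pow]
      have := pow_gcd_eq_one.2 ⟨((pow_mul y j 2).symm.trans h : (y ^ j) ^ 2 = 1), h11⟩
      rwa [show Nat.gcd 2 11 = 1 by norm_num, pow_one] at this
    rw [hj, mul_one] at he
    rcases htp i with e | e <;> rw [e] at he
    · exact absurd (conj_eq_one_iff.1 (hu.symm.trans he)) T.t_ne
    · exact he
  set R0 := pPrimeCore 2 ↥C with hR0
  haveI hR0n : R0.Normal := Grp.pPrimeCore_isNormal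
  set R := R0.map C.subtype with hR
  have hRC : R ≤ C := Subgroup.map_subtype_le _
  have hodd : Odd (Nat.card ↥R) := by
    rw [hR, Subgroup.card_map_of_injective C.subtype_injective]
    exact Nat.coprime_two_right.1 Grp.pPrimeCore_coprime
  have hord : ∀ k ∈ R, ∃ i : ℕ, k ^ (2 * i + 1) = 1 := fun k hk => by
    obtain ⟨i, hi⟩ := hodd.of_dvd_nat (Subgroup.orderOf_dvd_natCard R hk)
    exact ⟨i, by rw [← hi]; exact pow_orderOf_eq_one k⟩
  have hn : ∀ c, c * y = y * c → ∀ k ∈ R, c * k * c⁻¹ ∈ R := by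
    rintro c hc _ ⟨k, hk, rfl⟩
    exact ⟨⟨c, hmemC.2 hc⟩ * k * ⟨c, hmemC.2 hc⟩⁻¹, hR0n.conj_mem k hk _, rfl⟩
  have hyR : y ∈ R := by
    refine ⟨⟨y, hmemC.2 rfl⟩, Grp.le_pPrimeCore ⟨fun a ha g => ?_⟩ ?_ (Subgroup.mem_zpowers _), rfl⟩
    · have hc : Commute g (⟨y, hmemC.2 rfl⟩ : ↥C) := Subtype.ext (hmemC.1 g.2)
      obtain ⟨i, rfl⟩ := Subgroup.mem_zpowers_iff.1 ha
      rw [(hc.zpow_right i).eq, mul_inv_cancel_right]
      exact Subgroup.mem_zpowers_iff.2 ⟨i, rfl⟩
    · rw [Nat.card_zpowers, Subgroup.orderOf_mk, T.orderOf_y]; norm_num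
  have hI : Inverting R t y := by
    refine ⟨hord, T.tt, fun k hk => ?_, fun k hk hkt => ?_, fun k hk => hmemC.1 (hRC hk), T.ty⟩
    · have := hn t T.ty k hk
      rwa [hti] at this
    · obtain ⟨i, j, he⟩ := hcent (hRC hk) hkt
      rcases htp i with e | e <;> rw [e] at he
      · rw [he, one_mul]; exact pow_mem (Subgroup.mem_zpowers _) _
      · exfalso
        obtain ⟨a, ha⟩ := hord k hk
        have h := congrArg (fun w => (w ^ 11) ^ (2 * a + 1)) he
        rw [← pow_mul, mul_comm, pow_mul, ha, one_pow, (show Commute t (y ^ j) from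
          (show Commute t y from T.ty).pow_right j).mul_pow, ← pow_mul y, mul_comm j, pow_mul, T.y_pow, one_pow,
          mul_one, ← pow_mul, show 11 * (2 * a + 1) = 2 * (11 * a + 5) + 1 by ring, pow_succ, pow_mul, pow_two, T.tt,
          one_pow, one_mul] at h
        exact T.t_ne h.symm
  refine ⟨R, hRC, hyR, hn, fun c hc => ?_, hI⟩
  have hn1 : t * c * t⁻¹ * c⁻¹ ∈ R :=
    ⟨_, ZStar.commutator_mem_oddCore _ ↥C rfl _ hiso ⟨c, hmemC.2 hc⟩, rfl⟩
  -- move the conjugate of the involution back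
  set n := t * (c * t * c⁻¹) with hndef
  have hnR : n ∈ R := by
    rw [hti] at hn1
    rwa [hndef, show t * (c * t * c⁻¹) = t * c * t * c⁻¹ by group]
  obtain ⟨a, ha⟩ := hord n hnR
  have hct2 : c * t * c⁻¹ * (c * t * c⁻¹) = 1 := by
    rw [show c * t * c⁻¹ * (c * t * c⁻¹) = c * (t * t) * c⁻¹ by group, T.tt]; group
  have hinv : t * n * t⁻¹ = n⁻¹ := by
    rw [hndef, mul_inv_rev, hti, inv_eq_of_mul_eq_one_right hct2, ← mul_assoc t t, T.tt, one_mul]
  have hpow : t * n ^ (a + 1) * t = (n ^ (a + 1))⁻¹ := by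
    have := congrArg (fun w => w ^ (a + 1)) hinv
    rw [conj_pow, hti, inv_pow] at this
    exact this
  set d := n ^ (a + 1) * c with hd
  have hdt : d * t = t * d := by
    calc n ^ (a + 1) * c * t = n ^ (a + 1) * (c * t * c⁻¹) * c := by group
      _ = n ^ (a + 1) * (t * n) * c := by rw [hndef, ← mul_assoc t t, T.tt, one_mul]
      _ = t * (t * n ^ (a + 1) * t) * n * c := by
        rw [show t * (t * n ^ (a + 1) * t) = (t * t) * (n ^ (a + 1) * t) by group, T.tt, one_mul]; group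
      _ = t * (n ^ (a + 1) * c) := by
        rw [hpow]
        have e : (n ^ (a + 1))⁻¹ * n = n ^ (a + 1) := by
          rw [inv_mul_eq_iff_eq_mul, ← pow_add, show a + 1 + (a + 1) = (2 * a + 1) + 1 by omega, pow_succ, ha,
            one_mul]
        rw [mul_assoc t _ n, e, mul_assoc]
  have hdC : d ∈ C := mul_mem (hRC (pow_mem hnR _)) (hmemC.2 hc)
  obtain ⟨i, j, he⟩ := hcent hdC hdt
  have hd2 : d * d ∈ R := by
    rw [he, ← pow_two, ((show Commute t y from T.ty).pow_pow i j).mul_pow, ← pow_mul, mul_comm i, pow_mul, pow_two t,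
      T.tt, one_pow, one_mul]
    exact pow_mem (pow_mem hyR _) _
  have e : c * c = ((n ^ (a + 1))⁻¹ * (d * (n ^ (a + 1))⁻¹ * d⁻¹)) * (d * d) := by rw [hd]; group
  rw [e]
  exact mul_mem (mul_mem (inv_mem (pow_mem hnR _)) (hn d (hmemC.1 hdC) _ (inv_mem (pow_mem hnR _)))) hd2

/-- Elements of odd order commuting with the element lie in the odd part. -/
theorem mem_core {R : Subgroup G} (hsq : ∀ c, c * y = y * c → c * c ∈ R) {c : G} (hc : c * y = y * c) {m : ℕ}
    (h : c ^ (2 * m + 1) = 1) : c ∈ R := by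
  have e : c = (c * c) ^ (m + 1) := by
    rw [← pow_two, ← pow_mul, show 2 * (m + 1) = (2 * m + 1) + 1 by ring, pow_succ, h, one_mul]
  exact e ▸ pow_mem (hsq c hc) _

end Second

end Cfsg.Agent.Spor.JFour.Eleven

namespace Cfsg.Agent.Spor.JFour.Frame

open Eleven Mathieu

variable {G : Type*} [Group G] [Finite G] [IsSimpleGroup G] {z : G} {P : Subgroup G} {S : Setting z P} (Fr : Frame S)

theorem second_duads : tMask.testBit (cN 0 ^^^ cN 1) = true ∧ tMask.testBit (cN 1 ^^^ cN 2) = true ∧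
    tMask.testBit ((cN 0 ^^^ cN 1) ^^^ (cN 1 ^^^ cN 2)) = true ∧ cN 0 ^^^ cN 1 < 2048 ∧ cN 1 ^^^ cN 2 < 2048 := by
  decide +kernel

include Fr in
/-- The data exist. -/
theorem exists_second_eleven (hG : ¬ IsMulCommutative G) :
    ∃ (A : Subgroup G) (t y : G), Eleven.Second z A t y := by
  classical
  haveI : Fact (Nat.Prime 11) := ⟨by norm_num⟩
  obtain ⟨hto, hT, hnc, -⟩ := Fr.exists_second hG
  have D := Fr.duadic hG
  have hfus : Fr.Classes := fun v hv => Fr.inO_iff hG hv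
  set t := Fr.Av 43 with ht
  have hCle : ∀ {v : ℕ}, v < 2048 → tMask.testBit v = true → ∀ g, g * Fr.Av v = Fr.Av v * g →
      g ∈ Subgroup.normalizer (Fr.A : Set G) := fun hv hb g hg =>
    Fr.centralizer_le_normalizer D hfus hv hb (Subgroup.mem_centralizer_singleton_iff.2 hg)
  obtain ⟨f, hker, -, -⟩ := Fr.exists_toM24 D
  have hcA : ∀ g, (∀ a ∈ Fr.A, g * a = a * g) → g ∈ Fr.A := fun g hg =>
    D.self (Subgroup.mem_centralizer_iff.2 fun a ha => (hg a ha).symm)
  obtain ⟨⟨y, hyC⟩, hy⟩ := exists_prime_orderOf_dvd_card' (G := ↥(Subgroup.centralizer ({t} : Set G))) 11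
    (by rw [ht, Fr.card_second hG (by norm_num) hT]; norm_num)
  rw [Subgroup.orderOf_mk] at hy
  have hty : t * y = y * t := (Subgroup.mem_centralizer_singleton_iff.1 hyC).symm
  have hyN : y ∈ Subgroup.normalizer (Fr.A : Set G) := hCle (by norm_num) hT y hty.symm
  have hy11 : y ^ 11 = 1 := by rw [← hy]; exact pow_orderOf_eq_one y
  have hy1 : y ≠ 1 := fun e => by rw [e, orderOf_one] at hy; norm_num at hy
  -- fixed points in the elementary abelian group
  have hcard : Nat.card ↥(Fr.A ⊓ Subgroup.centralizer ({y} : Set G)) = 2 := by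
    have hm := card_fixed_modEq (p := 11) hy11 (S := Fr.A) fun a ha => (Subgroup.mem_normalizer_iff.1 hyN a).1 ha
    obtain ⟨k, hk, hc⟩ := (Nat.dvd_prime_pow Nat.prime_two).1
      (Fr.card_A ▸ Subgroup.card_dvd_of_le (inf_le_left : Fr.A ⊓ Subgroup.centralizer ({y} : Set G) ≤ Fr.A))
    rw [Fr.card_A, hc, Nat.ModEq] at hm
    have hk11 : k ≠ 11 := by
      rintro rfl
      have e : Fr.A ⊓ Subgroup.centralizer ({y} : Set G) = Fr.A :=
        Subgroup.eq_of_le_of_card_ge inf_le_left (by rw [hc, Fr.card_A])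
      have hyA : y ∈ Fr.A := hcA y fun a ha =>
        (Subgroup.mem_centralizer_singleton_iff.1 (e.ge ha).2).symm
      have h2 := Fr.A_sq y hyA
      have h3 := orderOf_dvd_of_pow_eq_one (show y ^ 2 = 1 by rw [pow_two]; exact h2)
      rw [hy] at h3
      norm_num at h3
    rw [hc]
    interval_cases k <;> simp_all
  have htA : t ∈ Fr.A := Fr.Av_mem (by norm_num)
  have hfix : ∀ a ∈ Fr.A, a * y = y * a → a = 1 ∨ a = t := fun a ha hay => by
    have e : Subgroup.zpowers t = Fr.A ⊓ Subgroup.centralizer ({y} : Set G) :=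
      Subgroup.eq_of_le_of_card_ge (Subgroup.zpowers_le.2 (Subgroup.mem_inf.2
        ⟨htA, Subgroup.mem_centralizer_singleton_iff.2 hty⟩)) (by rw [hcard, Nat.card_zpowers, hto])
    have hm : a ∈ Subgroup.zpowers t := e.ge (Subgroup.mem_inf.2 ⟨ha, Subgroup.mem_centralizer_singleton_iff.2 hay⟩)
    obtain ⟨i, hi⟩ := (isOfFinOrder_of_finite t).mem_powers_iff_mem_zpowers.2 hm
    change t ^ i = a at hi
    rw [← pow_mod_orderOf, hto] at hi
    rcases Nat.mod_two_eq_zero_or_one i with e2 | e2 <;> rw [e2] at hi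
    · left; rw [← hi, pow_zero]
    · right; rw [← hi, pow_one]
  have hfy : orderOf (f ⟨y, hyN⟩) = 11 := orderOf_eq_prime
    (by rw [← map_pow, show (⟨y, hyN⟩ : ↥(Subgroup.normalizer (Fr.A : Set G))) ^ 11 = 1 from Subtype.ext hy11, map_one])
    fun e => by
      have h2 := orderOf_dvd_of_pow_eq_one (show y ^ 2 = 1 by rw [pow_two]; exact Fr.A_sq y ((hker _).1 e))
      rw [hy] at h2
      norm_num at h2
  obtain ⟨h01, h12, h02, l01, l12⟩ := second_duads
  refine ⟨Fr.A, t, y, ?_, fun e => by rw [e, orderOf_one] at hto; norm_num at hto, hnc, htA, Fr.card_A, Fr.A_comm,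
    Fr.A_sq, hcA, fun g hg => hCle (by norm_num) hT g hg, Fr.card_normalizer hG, ⟨f, hker⟩,
    ⟨Fr.Av (cN 0 ^^^ cN 1), Fr.Av (cN 1 ^^^ cN 2), Fr.Av_mem l01, Fr.Av_mem l12, fun g hg => ?_⟩, hy11, hy1, hty,
    fun g hg hgy => ?_⟩
  · exact Fr.A_sq t htA
  · rcases hg with h | h | h
    · exact hCle l01 h01 g h
    · exact hCle l12 h12 g h
    · rw [Fr.Av_mul l01 l12] at h
      exact hCle (Nat.xor_lt_two_pow (n := 11) l01 l12) h02 g h
  · have hm : f ⟨g, hg⟩ ∈ Subgroup.zpowers (f ⟨y, hyN⟩) := M24_centralizer hfy (by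
      rw [← map_mul, ← map_mul]; exact congrArg f (Subtype.ext hgy))
    obtain ⟨j, hj⟩ := (isOfFinOrder_of_finite (f ⟨y, hyN⟩)).mem_powers_iff_mem_zpowers.2 hm
    change f ⟨y, hyN⟩ ^ j = f ⟨g, hg⟩ at hj
    have hA : g * (y ^ j)⁻¹ ∈ Fr.A := by
      have := (hker (⟨g, hg⟩ * (⟨y, hyN⟩ ^ j)⁻¹)).1 (by rw [map_mul, map_inv, map_pow, hj, mul_inv_cancel])
      exact this
    rcases hfix _ hA (((show Commute g y from hgy).mul_left ((Commute.refl y).pow_left j).inv_left).eq) with e | e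
    · exact ⟨0, j, by rw [pow_zero, one_mul]; exact mul_inv_eq_one.1 e⟩
    · exact ⟨1, j, by rw [pow_one]; exact mul_inv_eq_iff_eq_mul.1 e⟩

end Cfsg.Agent.Spor.JFour.Frame
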